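import Cfsg.Agent.Lib.Perm.Dickson.ExcMax
import Cfsg.Agent.Lib.Char.Burnside

/-!
# Solvable subgroups of PSL(2, q), simplicity
-/

set_option autoImplicit false
set_option linter.all false

namespace CfsgLib.Perm.Dickson

open Matrix

theorem solvable_of_comm_comm {G : Type*} [Group G]
    (h : ∀ a b c d : G, Commute (a * b * a⁻¹ * b⁻¹) (c * d * c⁻¹ * d⁻¹)) : Group.IsSolvable G := by
  refine ⟨⟨2, ?_⟩⟩
  rw [derivedSeries_succ, derivedSeries_succ, derivedSeries_zero, Subgroup.commutator_eq_bot_iff_le_centralizer]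
  rw [Subgroup.commutator_def, Subgroup.closure_le]
  rintro _ ⟨a, -, b, -, rfl⟩
  rw [SetLike.mem_coe, Subgroup.mem_centralizer_iff]
  intro x hx
  refine Subgroup.closure_induction (p := fun x _ => x * (a * b * a⁻¹ * b⁻¹) = a * b * a⁻¹ * b⁻¹ * x)
    ?_ (by simp) ?_ ?_ hx
  · rintro _ ⟨c, -, d, -, rfl⟩
    exact (h c d a b).eq
  · intro y z _ _ hy hz
    rw [mul_assoc, hz, ← mul_assoc, hy, mul_assoc]
  · intro y _ hy
    exact (Commute.inv_left (show Commute y (a * b * a⁻¹ * b⁻¹) from hy)).eq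

variable {F : Type*} [Field F] [Finite F]

/-- point stabilisers are solvable -/
theorem solvable_of_fixed {H : Subgroup (G2 F)} {x : P2 F} (hx : ∀ g ∈ H, g • x = x) : Group.IsSolvable H := by
  obtain ⟨σ, hσ⟩ := exists_move_ip x
  have hm : ∀ k ∈ H, MulAut.conj σ k ∈ MulAction.stabilizer (G2 F) (ip : P2 F) := fun k hk => by
    rw [MulAction.mem_stabilizer_iff, MulAut.conj_apply, ← hσ, mul_smul, inv_smul_smul, mul_smul, hx k hk]
  let f : H →* MulAction.stabilizer (G2 F) (ip : P2 F) :=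
    MonoidHom.codRestrict ((MulAut.conj σ).toMonoidHom.comp H.subtype) _ fun k => hm k.1 k.2
  refine solvable_of_comm_comm fun a b c d => ?_
  have key : ∀ u v : H, ∃ t : F, MulAut.conj σ ((u * v * u⁻¹ * v⁻¹ : H) : G2 F) = tr t := fun u v =>
    eq_tr_of_chi (g := f (u * v * u⁻¹ * v⁻¹)) (by
      rw [map_mul, map_mul, map_mul, map_inv, map_inv, map_mul, map_mul, map_mul, map_inv, map_inv,
        mul_comm (chi (f u)) (chi (f v)), mul_inv_cancel_right, mul_inv_cancel])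
  obtain ⟨s, hs⟩ := key a b
  obtain ⟨t, ht⟩ := key c d
  apply Subtype.ext
  apply (MulAut.conj σ).injective
  show MulAut.conj σ (((a * b * a⁻¹ * b⁻¹ : H) : G2 F) * ((c * d * c⁻¹ * d⁻¹ : H) : G2 F)) =
    MulAut.conj σ (((c * d * c⁻¹ * d⁻¹ : H) : G2 F) * ((a * b * a⁻¹ * b⁻¹ : H) : G2 F))
  rw [map_mul (MulAut.conj σ), map_mul (MulAut.conj σ), hs, ht, tr_mul, tr_mul, add_comm]

/-- subgroups of torus normalisers are solvable -/
theorem solvable_of_pairSet {H : Subgroup (G2 F)} {a b : P2 (Kc F)} (hab : a ≠ b) (hH : H ≤ pairSet a b) :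
    Group.IsSolvable H := by
  haveI := finite_G2 (F := F)
  have hsq : ∀ k ∈ pairSet a b, k * k ∈ pairFix a b := fun k hk => by
    rcases mem_pairSet.1 hk with ⟨e1, e2⟩ | ⟨e1, e2⟩ <;>
      exact mem_pairFix.2 ⟨by rw [map_mul, mul_smul, e1]; assumption, by rw [map_mul, mul_smul, e2]; assumption⟩
  have hc : ∀ u v : H, ((u * v * u⁻¹ * v⁻¹ : H) : G2 F) ∈ pairFix a b := fun u v => by
    have e : ((u * v * u⁻¹ * v⁻¹ : H) : G2 F) = ((u : G2 F) * u) * (((u : G2 F)⁻¹ * v) * ((u : G2 F)⁻¹ * v)) * ((v : G2 F)⁻¹ * (v : G2 F)⁻¹) := by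
      simp only [Subgroup.coe_mul, Subgroup.coe_inv]; group
    rw [e]
    exact mul_mem (mul_mem (hsq _ (hH u.2)) (hsq _ (mul_mem (inv_mem (hH u.2)) (hH v.2))))
      (hsq _ (inv_mem (hH v.2)))
  letI := (isCyclic_pairFix (F := F) hab).commGroup
  refine solvable_of_comm_comm fun x y z w => Subtype.ext ?_
  exact (congrArg Subtype.val (mul_comm (⟨_, hc x y⟩ : pairFix a b) ⟨_, hc z w⟩) :)

theorem solvable_of_card_dvd_24 {G : Type*} [Group G] [Finite G] (h : Nat.card G ∣ 24) : Group.IsSolvable G := by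
  have hmem : Nat.card G ∈ Nat.divisors 24 := Nat.mem_divisors.2 ⟨h, by norm_num⟩
  rw [show Nat.divisors 24 = {1, 2, 3, 4, 6, 8, 12, 24} by decide] at hmem
  simp only [Finset.mem_insert, Finset.mem_singleton] at hmem
  obtain ⟨a, b, hab⟩ : ∃ a b, Nat.card G = 2 ^ a * 3 ^ b := by
    rcases hmem with e | e | e | e | e | e | e | e
    exacts [⟨0, 0, e⟩, ⟨1, 0, e⟩, ⟨0, 1, e⟩, ⟨2, 0, e⟩, ⟨1, 1, e⟩, ⟨3, 0, e⟩, ⟨2, 1, e⟩, ⟨3, 1, e⟩]
  exact CfsgLib.Char.isSolvable_of_card_two_primes Nat.prime_two Nat.prime_three G a b hab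

/-- PSL(2, q) is a simple non-abelian group for q at least 4 -/
theorem psl_simple_noncomm (h4 : 4 ≤ Nat.card F) :
    IsSimpleGroup (S2P F) ∧ ¬ IsMulCommutative (S2P F) := by
  haveI := finite_G2 (F := F)
  haveI : Finite (S2P F) := Finite.of_equiv _ (pslEquiv F).symm.toEquiv
  haveI : IsSimpleGroup (S2P F) := ProjectiveSpecialLinearGroup.rank_two_simple h4
  refine ⟨inferInstance, fun hc => ?_⟩
  haveI := hc
  letI : CommGroup (S2P F) := { (inferInstance : Group (S2P F)) with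
    mul_comm := fun a b => IsMulCommutative.is_comm.comm a b }
  have hP : (Nat.card (S2P F)).Prime := IsSimpleGroup.prime_card (α := S2P F)
  rw [card_S2P] at hP
  obtain ⟨p, hpc⟩ := CharP.exists F
  haveI : Fact p.Prime := ⟨CharP.char_is_prime F p⟩
  have hc := card_psl F
  have hd : Nat.gcd 2 (Nat.card F - 1) ∣ 2 := Nat.gcd_dvd_left _ _
  obtain ⟨n, hn, hq⟩ := card_eq_pow (F := F) p
  have hpq : p ∣ Nat.card F := hq ▸ dvd_pow_self p (by omega)
  have hpd : p ∣ Nat.gcd 2 (Nat.card F - 1) * Nat.card (psl F) := hc ▸ hpq.mul_right _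
  have h2 := Nat.le_of_dvd (by norm_num) hd
  have hpp : p = Nat.card (psl F) := by
    rcases (Nat.Prime.dvd_mul Fact.out).1 hpd with h | h
    · exact absurd (h.trans (Nat.gcd_dvd_right _ _)) (not_dvd_q_sub_one (F := F) p)
    · exact (Nat.prime_dvd_prime_iff_eq Fact.out hP).1 h
  have hle := Nat.le_of_dvd (by omega) hpq
  have h5 := Nat.mul_le_mul (le_refl (Nat.card F)) (Nat.mul_le_mul (show 3 ≤ Nat.card F - 1 by omega) (show 5 ≤ Nat.card F + 1 by omega))
  have h6 := Nat.mul_le_mul_right (Nat.card (psl F)) h2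
  omega

theorem psl_not_solvable (h4 : 4 ≤ Nat.card F) : ¬ Group.IsSolvable (S2P F) := by
  intro hs
  obtain ⟨h1, h2⟩ := psl_simple_noncomm h4
  haveI := h1
  refine h2 ⟨⟨fun a b => ?_⟩⟩
  exact IsSimpleGroup.comm_iff_isSolvable.2 hs a b

end CfsgLib.Perm.Dickson
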