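import Cfsg.Agent.Lib.Perm.Dickson.Finite

/-!
# Point stabilisers and orders of elements in PSL(2, q)
-/

set_option autoImplicit false
set_option linter.all false

namespace CfsgLib.Perm.Dickson

open Matrix

variable {F : Type*} [Field F] [Finite F]

/-- the stabiliser of a point -/
noncomputable abbrev bor (x : P2 F) : Subgroup (G2 F) := MulAction.stabilizer (G2 F) x

theorem le_bor {H : Subgroup (G2 F)} {x : P2 F} (h : ∀ g ∈ H, g • x = x) : H ≤ bor x := fun g hg => h g hg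

theorem card_bor (x : P2 F) : Nat.card (bor x) = Nat.card F * (Nat.card F - 1) := by
  haveI := finite_G2 (F := F)
  have hP : Nat.card (MulAction.orbit (G2 F) x) = Nat.card F + 1 := by
    rw [← card_P2]
    refine Nat.card_congr (Equiv.subtypeUnivEquiv fun y => ?_)
    obtain ⟨σ, hσ⟩ := exists_move_ip x
    obtain ⟨τ, hτ⟩ := exists_move_ip y
    exact ⟨τ⁻¹ * σ, by show (τ⁻¹ * σ) • x = y; rw [mul_smul, hσ, ← hτ, inv_smul_smul]⟩
  have h := (MulAction.stabilizer (G2 F) x).card_mul_index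
  rw [MulAction.index_stabilizer, ← Nat.card_coe_set_eq, hP, card_G2] at h
  exact Nat.eq_of_mul_eq_mul_right (show 0 < Nat.card F + 1 by omega) h

theorem psl_transitive (x y : P2 F) : ∃ g ∈ psl F, g • x = y := by
  suffices h : ∀ z : P2 F, ∃ g ∈ psl F, g • (ip : P2 F) = z by
    obtain ⟨g, hg, rfl⟩ := h x
    obtain ⟨k, hk, rfl⟩ := h y
    exact ⟨k * g⁻¹, mul_mem hk (inv_mem hg), by rw [mul_smul, inv_smul_smul]⟩
  intro z
  obtain rfl | ⟨s, rfl⟩ := point_cases z
  · exact ⟨1, one_mem _, one_smul _ _⟩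
  · exact ⟨tr s * iv (-1), mul_mem (tr_mem_psl s) iv_neg_one_mem_psl, by rw [mul_smul, iv_ip, tr_fp, zero_add]⟩

theorem card_bor_psl (x : P2 F) :
    Nat.gcd 2 (Nat.card F - 1) * Nat.card (bor x ⊓ psl F : Subgroup (G2 F)) = Nat.card F * (Nat.card F - 1) := by
  haveI := finite_G2 (F := F)
  have e : Nat.card (bor x ⊓ psl F : Subgroup (G2 F)) = Nat.card (MulAction.stabilizer (psl F) x) := by
    exact Nat.card_congr
      { toFun := fun g => ⟨⟨g.1, g.2.2⟩, g.2.1⟩
        invFun := fun g => ⟨g.1.1, g.2, g.1.2⟩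
        left_inv := fun _ => rfl
        right_inv := fun _ => rfl }
  have hP : Nat.card (MulAction.orbit (psl F) x) = Nat.card F + 1 := by
    rw [← card_P2]
    refine Nat.card_congr (Equiv.subtypeUnivEquiv fun y => ?_)
    obtain ⟨g, hg, hgy⟩ := psl_transitive x y
    exact ⟨⟨g, hg⟩, hgy⟩
  have h := (MulAction.stabilizer (psl F) x).card_mul_index
  rw [MulAction.index_stabilizer, ← Nat.card_coe_set_eq, hP, ← e] at h
  refine Nat.eq_of_mul_eq_mul_left (Nat.succ_pos (Nat.card F)) ?_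
  have h2 := card_psl F
  rw [← h] at h2
  linarith

theorem psl_preprimitive {M : Subgroup (G2 F)} (x : P2 F) (hM : bor x ⊓ psl F < M) (hle : M ≤ psl F) : M = psl F := by
  haveI := finite_G2 (F := F)
  obtain ⟨hle', g, hgM, hgn⟩ := SetLike.lt_iff_le_and_exists.1 hM
  have hgx : g • x ≠ x := fun e => hgn ⟨e, hle hgM⟩
  obtain ⟨σ, hσ, hσx⟩ : ∃ σ ∈ psl F, σ • x = ip := psl_transitive x ip
  have hmem : ∀ k ∈ psl F, k • x = x → k ∈ M := fun k hk he => hle' ⟨he, hk⟩
  -- `M` moves `x` everywhere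
  have htrans : ∀ y, ∃ k ∈ M, k • x = y := by
    intro y
    by_cases hy : y = x
    · exact ⟨1, one_mem M, by rw [one_smul, hy]⟩
    obtain ⟨s, hs⟩ := (point_cases (σ • g • x)).resolve_left fun e => hgx (MulAction.injective σ (e.trans hσx.symm))
    obtain ⟨t, ht⟩ := (point_cases (σ • y)).resolve_left fun e => hy (MulAction.injective σ (e.trans hσx.symm))
    refine ⟨σ⁻¹ * tr (t - s) * σ * g, mul_mem (hmem _ ?_ ?_) hgM, ?_⟩
    · exact mul_mem (mul_mem (inv_mem hσ) (tr_mem_psl _)) hσ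
    · rw [mul_smul, mul_smul, hσx, tr_ip, ← hσx, inv_smul_smul]
    · rw [mul_smul, mul_smul, mul_smul, hs, tr_fp, show s + (t - s) = t by ring, ← ht, inv_smul_smul]
  refine le_antisymm hle fun k hk => ?_
  obtain ⟨m, hm, hmx⟩ := htrans (k • x)
  have := hmem (m⁻¹ * k) (mul_mem (inv_mem (hle hm)) hk) (by rw [mul_smul, ← hmx, inv_smul_smul])
  simpa using mul_mem hm this

variable (p : ℕ) [Fact p.Prime] [CharP F p]
include p

/-- a nontrivial element of prime-to-`p` order lies in a torus -/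
theorem exists_torus {g : G2 F} (hg : g ≠ 1) (hp : orderOf g ≠ p) : ∃ a b, GoodPair a b ∧ g ∈ pairFix a b := by
  obtain ⟨a, ha⟩ := exists_fixed_of_isAlgClosed (mapG (iF F) g)
  haveI := charP_Kc (F := F) p
  by_cases h : ∀ y, mapG (iF F) g • y = y → y = a
  · exfalso
    have := pow_char_of_single p ha h
    rw [← map_pow, map_eq_one_iff _ (mapG_injective _)] at this
    rcases (Nat.dvd_prime (Fact.out : p.Prime)).1 (orderOf_dvd_of_pow_eq_one this) with h1 | h1
    · exact hg (orderOf_eq_one_iff.1 h1)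
    · exact hp h1
  · push Not at h
    obtain ⟨b, hb, hne⟩ := h
    exact ⟨a, b, goodPair_of_fix p hg (Ne.symm hne) ha hb, mem_pairFix.2 ⟨ha, hb⟩⟩

theorem psl_order_cases {g : G2 F} (hg : g ∈ psl F) :
    orderOf g ∣ (Nat.card F - 1) / Nat.gcd 2 (Nat.card F - 1) ∨
      orderOf g ∣ (Nat.card F + 1) / Nat.gcd 2 (Nat.card F - 1) ∨ orderOf g = p := by
  haveI := finite_G2 (F := F)
  by_cases h1 : g = 1
  · exact Or.inl (by rw [h1, orderOf_one]; exact one_dvd _)
  by_cases hp : orderOf g = p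
  · exact Or.inr (Or.inr hp)
  obtain ⟨a, b, hgood, hmem⟩ := exists_torus p h1 hp
  have hd : orderOf g ∣ Nat.card (pairFix a b ⊓ psl F : Subgroup (G2 F)) := by
    exact dvd_trans (dvd_of_eq (Subgroup.orderOf_coe (⟨g, hmem, hg⟩ : (pairFix a b ⊓ psl F : Subgroup (G2 F))))) (orderOf_dvd_natCard _)
  have hpos : 0 < Nat.gcd 2 (Nat.card F - 1) := Nat.gcd_pos_of_pos_left _ (by norm_num)
  have hc := card_pairFix_psl hgood
  rcases card_pairFix hgood with ⟨-, hn⟩ | ⟨-, hn⟩ <;> rw [hn] at hc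
  · left
    rwa [show (Nat.card F - 1) / Nat.gcd 2 (Nat.card F - 1) = Nat.card (pairFix a b ⊓ psl F : Subgroup (G2 F)) from
      Nat.div_eq_of_eq_mul_right hpos hc.symm]
  · right; left
    rwa [show (Nat.card F + 1) / Nat.gcd 2 (Nat.card F - 1) = Nat.card (pairFix a b ⊓ psl F : Subgroup (G2 F)) from
      Nat.div_eq_of_eq_mul_right hpos hc.symm]

theorem not_p_dvd_torus {a b : P2 (Kc F)} (hg : GoodPair a b) : ¬ p ∣ Nat.card (pairFix a b) := by
  rcases card_pairFix hg with ⟨-, hn⟩ | ⟨-, hn⟩ <;> rw [hn]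
  · exact not_dvd_q_sub_one p
  · exact not_dvd_q_add_one p

end CfsgLib.Perm.Dickson
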