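import Cfsg.Agent.Lib.Perm.Dickson.KleinCount
import Cfsg.Agent.S3377

/-!
# Icosahedral subgroups of PSL(2, q)
-/

set_option autoImplicit false
set_option linter.all false

namespace CfsgLib.Perm.Dickson

open Matrix

theorem a5_of_relations {G : Type*} [Group G] (A B : G) (hA : A ^ 3 = 1) (hB : B ^ 5 = 1) (hAB : (A * B) ^ 2 = 1)
    (h1 : A ≠ 1) : Nonempty ((Subgroup.closure ({A, B} : Set G)) ≃* alternatingGroup (Fin 5)) := by
  obtain ⟨e⟩ := Cfsg.Agent.S3377.result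
  let R : Set (FreeGroup (Fin 2)) := {FreeGroup.of (0 : Fin 2) ^ 3, FreeGroup.of (1 : Fin 2) ^ 5,
    (FreeGroup.of (0 : Fin 2) * FreeGroup.of 1) ^ 2}
  have hrel : ∀ r ∈ R, FreeGroup.lift (![A, B] : Fin 2 → G) r = 1 := by
    rintro r (rfl | rfl | rfl) <;> simp [hA, hB, hAB]
  let f : PresentedGroup R →* G := PresentedGroup.toGroup hrel
  have hrange : f.range = Subgroup.closure ({A, B} : Set G) := by
    rw [MonoidHom.range_eq_map, ← PresentedGroup.closure_range_of R, MonoidHom.map_closure]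
    congr 1
    ext g
    simp only [Set.mem_image, Set.mem_range, Set.mem_insert_iff, Set.mem_singleton_iff, exists_exists_eq_and]
    constructor
    · rintro ⟨i, rfl⟩
      rw [show f (PresentedGroup.of i) = ![A, B] i from PresentedGroup.toGroup.of hrel]
      fin_cases i <;> simp
    · rintro (rfl | rfl)
      · exact ⟨0, PresentedGroup.toGroup.of hrel⟩
      · exact ⟨1, PresentedGroup.toGroup.of hrel⟩
  haveI : IsSimpleGroup (PresentedGroup R) := by
    haveI := alternatingGroup.isSimpleGroup_five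
    haveI : Nontrivial (PresentedGroup R) := e.toEquiv.nontrivial
    exact IsSimpleGroup.isSimpleGroup_of_surjective e.symm.toMonoidHom e.symm.surjective
  have hinj : Function.Injective f := by
    rw [← MonoidHom.ker_eq_bot_iff]
    refine (IsSimpleGroup.eq_bot_or_eq_top_of_normal f.ker inferInstance).resolve_right fun h => h1 ?_
    have : PresentedGroup.of (0 : Fin 2) ∈ f.ker := by rw [h]; exact Subgroup.mem_top _
    rw [MonoidHom.mem_ker] at this
    rw [← this]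
    exact ((PresentedGroup.toGroup.of hrel (x := (0 : Fin 2))).symm :)
  exact ⟨(MulEquiv.subgroupCongr hrange).symm.trans ((MonoidHom.ofInjective hinj).symm.trans e)⟩

variable {F : Type*} [Field F]

theorem mk_pow (A : GL (Fin 2) F) (n : ℕ) : ProjGenLinGroup.mk A ^ n = ProjGenLinGroup.mk (A ^ n) := (map_pow _ _ _).symm

theorem mat_sq (M : Matrix (Fin 2) (Fin 2) F) : M * M = (M 0 0 + M 1 1) • M - M.det • 1 := by
  ext i j
  fin_cases i <;> fin_cases j <;> simp [Matrix.mul_apply, Fin.sum_univ_two, det_fin_two] <;> ring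

theorem mat_cube (M : Matrix (Fin 2) (Fin 2) F) :
    M * M * M = ((M 0 0 + M 1 1) ^ 2 - M.det) • M - ((M 0 0 + M 1 1) * M.det) • 1 := by
  rw [mat_sq, Matrix.sub_mul, Matrix.smul_mul, Matrix.smul_mul, mat_sq, Matrix.one_mul]
  module

theorem mat_five (M : Matrix (Fin 2) (Fin 2) F) :
    M * M * M * M * M = ((M 0 0 + M 1 1) ^ 4 - 3 * (M 0 0 + M 1 1) ^ 2 * M.det + M.det ^ 2) • M -
      (M.det * ((M 0 0 + M 1 1) ^ 3 - 2 * (M 0 0 + M 1 1) * M.det)) • 1 := by
  rw [mat_cube]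
  simp only [Matrix.sub_mul, Matrix.smul_mul, Matrix.one_mul, mat_sq, smul_sub, smul_smul]
  module

theorem mk_eq_one_of_scalar (A : GL (Fin 2) F) (c : F) (h : A.1 = c • 1) : ProjGenLinGroup.mk A = 1 := by
  have hc : c ≠ 0 := fun e => by
    have hd := ((Matrix.isUnit_iff_isUnit_det _).1 A.isUnit).ne_zero
    rw [h, e, zero_smul, det_zero] at hd
    · exact hd rfl
  rw [← map_one ProjGenLinGroup.mk]
  exact mk_eq_of_smul c⁻¹ (inv_ne_zero hc) (by rw [h, smul_smul, inv_mul_cancel₀ hc, one_smul]; rfl)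

theorem pow_three_eq_one (A : GL (Fin 2) F) (h : (A.1 0 0 + A.1 1 1) ^ 2 = A.1.det) : ProjGenLinGroup.mk A ^ 3 = 1 := by
  rw [mk_pow]
  refine mk_eq_one_of_scalar _ (-((A.1 0 0 + A.1 1 1) * A.1.det)) ?_
  rw [Units.val_pow_eq_pow_val, pow_succ, pow_two, mat_cube, h, sub_self, zero_smul, zero_sub, neg_smul]

theorem pow_five_eq_one (A : GL (Fin 2) F)
    (h : (A.1 0 0 + A.1 1 1) ^ 4 - 3 * (A.1 0 0 + A.1 1 1) ^ 2 * A.1.det + A.1.det ^ 2 = 0) :
    ProjGenLinGroup.mk A ^ 5 = 1 := by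
  rw [mk_pow]
  refine mk_eq_one_of_scalar _ (-(A.1.det * ((A.1 0 0 + A.1 1 1) ^ 3 - 2 * (A.1 0 0 + A.1 1 1) * A.1.det))) ?_
  rw [Units.val_pow_eq_pow_val, pow_succ, pow_succ, pow_succ, pow_two, mat_five, h, zero_smul, zero_sub, neg_smul]

theorem coeff_eq_zero_of_scalar {A : GL (Fin 2) F} (h1 : ProjGenLinGroup.mk A ≠ 1) {a b c : F}
    (h : a • A.1 - b • 1 = c • (1 : Matrix (Fin 2) (Fin 2) F)) : a = 0 := by
  by_contra ha
  refine h1 (mk_eq_one_of_scalar A ((c + b) / a) ?_)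
  rw [div_eq_inv_mul, mul_smul, add_smul, ← h, sub_add_cancel, smul_smul, inv_mul_cancel₀ ha, one_smul]

theorem trace_of_pow_three {A : GL (Fin 2) F} (h1 : ProjGenLinGroup.mk A ≠ 1) (h : ProjGenLinGroup.mk A ^ 3 = 1) :
    (A.1 0 0 + A.1 1 1) ^ 2 = A.1.det := by
  rw [mk_pow, ← map_one ProjGenLinGroup.mk] at h
  obtain ⟨k, hk, e⟩ := exists_smul_of_mk_eq h
  rw [Units.val_pow_eq_pow_val, pow_succ, pow_two, mat_cube, Units.val_one] at e
  refine sub_eq_zero.1 (coeff_eq_zero_of_scalar h1 (c := k⁻¹) (b := (A.1 0 0 + A.1 1 1) * A.1.det) ?_)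
  conv_rhs => rw [← e, smul_smul, inv_mul_cancel₀ hk, one_smul]

theorem trace_of_pow_five {A : GL (Fin 2) F} (h1 : ProjGenLinGroup.mk A ≠ 1) (h : ProjGenLinGroup.mk A ^ 5 = 1) :
    (A.1 0 0 + A.1 1 1) ^ 4 - 3 * (A.1 0 0 + A.1 1 1) ^ 2 * A.1.det + A.1.det ^ 2 = 0 := by
  rw [mk_pow, ← map_one ProjGenLinGroup.mk] at h
  obtain ⟨k, hk, e⟩ := exists_smul_of_mk_eq h
  rw [Units.val_pow_eq_pow_val, pow_succ, pow_succ, pow_succ, pow_two, mat_five, Units.val_one] at e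
  refine coeff_eq_zero_of_scalar h1 (c := k⁻¹)
    (b := A.1.det * ((A.1 0 0 + A.1 1 1) ^ 3 - 2 * (A.1 0 0 + A.1 1 1) * A.1.det)) ?_
  conv_rhs => rw [← e, smul_smul, inv_mul_cancel₀ hk, one_smul]

namespace QPar

variable (Q : QPar F)

/-- the element of order three -/
def mS (τ : F) : Matrix (Fin 2) (Fin 2) F :=
  !![1 + (τ - 1) * Q.a, τ + (τ - 1) * Q.b; -τ + (τ - 1) * Q.b, 1 - (τ - 1) * Q.a]

theorem detS {τ : F} (h : τ * τ = τ + 1) : (Q.mS τ).det = 2 * 2 := by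
  simp [mS, det_fin_two]
  linear_combination -((τ - 1) ^ 2) * Q.h + 2 * h

noncomputable def gS {τ : F} (h : τ * τ = τ + 1) : G2 F :=
  ProjGenLinGroup.mk (GeneralLinearGroup.mkOfDetNeZero (Q.mS τ) (by rw [Q.detS h]; exact mul_ne_zero Q.two Q.two))

/-- the icosahedral group -/
noncomputable def icosa {τ : F} (h : τ * τ = τ + 1) : Subgroup (G2 F) :=
  Subgroup.closure {Q.gS h, (Q.gS h)⁻¹ * gI}

theorem gS_mem {τ : F} (h : τ * τ = τ + 1) : Q.gS h ∈ psl F :=
  (mk_mem_psl_iff _).2 (by show IsSquare (Q.mS τ).det; rw [Q.detS h]; exact IsSquare.mul_self 2)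

theorem icosa_le_psl {τ : F} (h : τ * τ = τ + 1) : Q.icosa h ≤ psl F := by
  rw [icosa, Subgroup.closure_le]
  rintro x (rfl | rfl)
  · exact Q.gS_mem h
  · exact mul_mem (inv_mem (Q.gS_mem h)) gI_mem

theorem gS_ne {τ : F} (h : τ * τ = τ + 1) : Q.gS h ≠ 1 := by
  intro e
  rw [gS, ← map_one ProjGenLinGroup.mk] at e
  obtain ⟨c, hc, e'⟩ := exists_smul_of_mk_eq e
  have h01 := congrFun (congrFun e' 0) 1
  have h10 := congrFun (congrFun e' 1) 0
  simp [GeneralLinearGroup.mkOfDetNeZero, mS, hc] at h01 h10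
  have : (2 : F) * τ = 0 := by linear_combination h01 - h10
  have hτ : τ = 0 := (mul_eq_zero.1 this).resolve_left Q.two
  rw [hτ] at h
  simp at h

theorem icosa_a5 {τ : F} (h : τ * τ = τ + 1) : Nonempty (Q.icosa h ≃* alternatingGroup (Fin 5)) := by
  refine a5_of_relations _ _ ?_ ?_ ?_ (Q.gS_ne h)
  · refine pow_three_eq_one _ ?_
    show (Q.mS τ 0 0 + Q.mS τ 1 1) ^ 2 = (Q.mS τ).det
    rw [Q.detS h]; simp [mS]; ring
  · have e : ((Q.gS h)⁻¹ * gI)⁻¹ = gI * Q.gS h := by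
      rw [_root_.mul_inv_rev, inv_inv, inv_eq_of_mul_eq_one_right II]
    rw [← inv_inv ((Q.gS h)⁻¹ * gI), inv_pow, e, inv_eq_one, gI, gS, ← map_mul]
    refine pow_five_eq_one _ ?_
    show (((mI (F := F)) * Q.mS τ) 0 0 + ((mI (F := F)) * Q.mS τ) 1 1) ^ 4 - 3 * (((mI (F := F)) * Q.mS τ) 0 0 + ((mI (F := F)) * Q.mS τ) 1 1) ^ 2 *
      ((mI (F := F)) * Q.mS τ).det + ((mI (F := F)) * Q.mS τ).det ^ 2 = 0
    rw [det_mul, detI, Q.detS h]
    simp [mI, mS, Matrix.mul_apply, Fin.sum_univ_two]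
    linear_combination 16 * (τ * τ + τ - 1) * h
  · rw [mul_inv_cancel_left, pow_two]
    exact II

end QPar

theorem exists_tau [Finite F] (p : ℕ) [Fact p.Prime] [CharP F p] {g : G2 F} (hg : g ∈ psl F) (h5 : orderOf g = 5) :
    ∃ τ : F, τ * τ = τ + 1 := by
  obtain ⟨S, rfl⟩ := hg
  have h1 : ProjGenLinGroup.mk (SpecialLinearGroup.toGL S) ≠ 1 := fun e => by
    rw [MonoidHom.comp_apply, e, orderOf_one] at h5; omega
  have := trace_of_pow_five h1 (by
    rw [← h5]; exact pow_orderOf_eq_one _)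
  rw [show (SpecialLinearGroup.toGL S).1.det = 1 from S.2] at this
  set t := (SpecialLinearGroup.toGL S).1 0 0 + (SpecialLinearGroup.toGL S).1 1 1
  have hf : (t ^ 2 - t - 1) * (t ^ 2 + t - 1) = 0 := by linear_combination this
  rcases mul_eq_zero.1 hf with e | e
  · exact ⟨t, by linear_combination e⟩
  · exact ⟨-t, by linear_combination e⟩

end CfsgLib.Perm.Dickson
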