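import Cfsg.Agent.Lib.Perm.Dickson.ListExc

/-!
# Maximal subgroups of PGL(2, q) not containing PSL(2, q)
-/

set_option autoImplicit false
set_option linter.all false

namespace CfsgLib.Perm.Dickson

open Matrix

variable {F : Type*} [Field F] [Finite F]

theorem sq_mem_psl (ho : Odd (Nat.card F)) (g : G2 F) : g * g ∈ psl F := (mul_mem_psl_iff ho).2 Iff.rfl

theorem vS4_squares : ∀ v : Equiv.Perm (Fin 4), (v * v ≠ 1 ∨ Equiv.Perm.sign v ≠ 1) ∨ ∃ w, w * w = v := by
  decide +kernel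

/-- every S₄ of PGL(2, q) is conjugate to the standard one -/
theorem QPar.exists_conj_eq_of_s4_top (Q : QPar F) (ho : Odd (Nat.card F)) {M : Subgroup (G2 F)}
    (e : M ≃* Equiv.Perm (Fin 4)) : ∃ σ, conjG σ M = Q.N := by
  haveI := finite_G2 (F := F)
  set j : Equiv.Perm (Fin 4) →* G2 F := M.subtype.comp e.symm.toMonoidHom with hj
  have hinj : Function.Injective j := Subtype.val_injective.comp e.symm.injective
  set W := vS4.map j with hW
  have hWc : Nat.card W = 4 := by rw [hW, ← Nat.card_congr (vS4.equivMapOfInjective _ hinj).toEquiv, card_vS4]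
  have hWp : W ≤ psl F := by
    rintro _ ⟨v, hv, rfl⟩
    obtain ⟨w, hw⟩ := (vS4_squares v).resolve_left fun h => h.elim (fun h => h hv.1) (fun h => h hv.2)
    rw [← hw, map_mul]
    exact sq_mem_psl ho _
  have hWe : ∀ g ∈ W, g * g = 1 := by
    rintro _ ⟨v, hv, rfl⟩
    rw [← map_mul, hv.1, map_one]
  have hmem : ∀ m ∈ M, ∀ w ∈ W, m * w * m⁻¹ ∈ W := by
    rintro m hm _ ⟨v, hv, rfl⟩
    refine ⟨e ⟨m, hm⟩ * v * (e ⟨m, hm⟩)⁻¹, vS4_normal.conj_mem v hv _, ?_⟩
    simp [hj]
  have hN : M ≤ Subgroup.normalizer (W : Set (G2 F)) := fun m hm => by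
    rw [Subgroup.mem_normalizer_iff]
    intro w
    refine ⟨hmem m hm w, fun hw => ?_⟩
    have := hmem _ (inv_mem hm) _ hw
    simpa [mul_assoc] using this
  obtain ⟨σ, hσ⟩ := Q.exists_conj_V hWp hWc hWe
  refine ⟨σ, Subgroup.eq_of_le_of_card_ge ((Subgroup.map_mono hN).trans ?_) ?_⟩
  · show conjG σ (Subgroup.normalizer (W : Set (G2 F))) ≤ Q.N
    rw [conjG_normalizer, hσ, QPar.N]
  · rw [Q.card_N, card_conjG, Nat.card_congr e.toEquiv, Nat.card_eq_fintype_card]
    decide +kernel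

/-- no index two subgroup when the squares generate -/
theorem le_psl_of_perfect (ho : Odd (Nat.card F)) {M : Subgroup (G2 F)} {X : Type*} [Group X] (e : M ≃* X)
    (hX : ∀ H : Subgroup X, H.index = 2 → False) : M ≤ psl F := by
  by_contra hn
  obtain ⟨w, hw, hwn⟩ := SetLike.not_le_iff_exists.1 hn
  refine hX (((psl F).subgroupOf M).map (e : M →* X)) ?_
  rw [Subgroup.index_map_equiv, Subgroup.index_eq_two_iff]
  refine ⟨⟨w, hw⟩, fun g => ?_⟩
  by_cases hg : (g : G2 F) ∈ psl F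
  · exact Or.inr ⟨hg, fun h => hwn ((Subgroup.mul_mem_cancel_left _ hg).1 h)⟩
  · exact Or.inl ⟨(mul_mem_psl_iff ho).2 ⟨fun h => absurd h hg, fun h => absurd h hwn⟩, hg⟩

theorem coatom_conj_eq {M E : Subgroup (G2 F)} (hM : IsCoatom M) {σ : G2 F} (hle : conjG σ M ≤ E) (hE : E ≠ ⊤) :
    conjG σ M = E := by
  have h1 : M ≤ conjG σ⁻¹ E := by
    rw [← conjG_one M, ← inv_mul_cancel σ, conjG_mul]
    exact Subgroup.map_mono hle
  rcases h1.lt_or_eq with h | h
  · exfalso
    refine hE ?_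
    rw [← conjG_one E, ← mul_inv_cancel σ, conjG_mul, hM.2 _ h]
    exact Subgroup.map_top_of_surjective _ (MulAut.conj σ).surjective
  · rw [h, ← conjG_mul, mul_inv_cancel, conjG_one]

theorem ne_top_of_card {H : Subgroup (G2 F)} (h : Nat.card H < Nat.card (G2 F)) : H ≠ ⊤ := fun e => by
  rw [e, Subgroup.card_top] at h; omega

theorem psl_ne_top (ho : Odd (Nat.card F)) : psl F ≠ ⊤ := fun e => by
  have := index_psl_eq (F := F)
  rw [gcd_odd ho, e, Subgroup.index_top] at this
  omega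

variable (p : ℕ) [Fact p.Prime] [CharP F p]
include p

/-- maximal subgroups of PGL(2, q) not over PSL(2, q) -/
inductive PGLType (M : Subgroup (G2 F)) : Prop
  | borel (x : P2 F) (h : M = bor x) : PGLType M
  | torus (a b : P2 (Kc F)) (hg : GoodPair a b) (h : M = pairSet a b)
      (h5 : ¬ (Nat.card F = 5 ∧ Nat.card (pairFix a b) = 4)) : PGLType M
  | s4 (σ : G2 F) (Q : QPar F) (hF : Nat.card F = p) (h8 : p % 8 = 3 ∨ p % 8 = 5) (h : conjG σ M = Q.N) : PGLType M
  | subfield (σ : G2 F) (F1 : Subfield F) (r : ℕ) (hr : r.Prime) (hodd : Odd r)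
      (hq : Nat.card F = Nat.card F1 ^ r) (h3 : 3 ≤ Nat.card F1) (i : ℕ) (e : Nonempty (F1 ≃+* GaloisField p i))
      (h : conjG σ M = pglSub F1) : PGLType M

theorem pgl_coatom_cases (ho : Odd (Nat.card F)) (hq3 : 3 < Nat.card F) {M : Subgroup (G2 F)} (hM : IsCoatom M)
    (hML : ¬ psl F ≤ M) : PGLType p M := by
  haveI := finite_G2 (F := F)
  haveI : Fintype F := Fintype.ofFinite F
  have hp : p.Prime := Fact.out
  have hnle : ¬ M ≤ psl F := fun h => by
    rcases h.lt_or_eq with h' | h'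
    · exact psl_ne_top ho (hM.2 _ h')
    · exact hML h'.ge
  have hG := card_G2 (F := F)
  have hbig : 2 * (Nat.card F + 1) < Nat.card (G2 F) := by
    rw [hG]
    exact Nat.mul_lt_mul_of_pos_right (lt_of_lt_of_le (show 2 < 4 * 3 by norm_num)
      (Nat.mul_le_mul (show 4 ≤ Nat.card F by omega) (show 3 ≤ Nat.card F - 1 by omega))) (by omega)
  have torus : ∀ {a b : P2 (Kc F)}, GoodPair a b → M ≤ pairSet a b → PGLType p M := by
    intro a b hg hle
    obtain ⟨w, -, hws, hwn⟩ := exists_swap hg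
    have hn : ¬ pairSet a b ≤ pairFix a b := fun h => hwn (h hws)
    obtain ⟨hcard, -⟩ := dihedral_of_le hg.1 (isCyclic_pairFix hg.1) le_rfl hn
    rw [inf_eq_right.2 (pairFix_le_pairSet a b)] at hcard
    have hk : Nat.card (pairFix a b) ≤ Nat.card F + 1 := by
      rcases card_pairFix hg with ⟨-, e⟩ | ⟨-, e⟩ <;> omega
    have hne : pairSet a b ≠ ⊤ := ne_top_of_card (by omega)
    have heq := coatom_conj_eq hM (σ := 1) (by rw [conjG_one]; exact hle) hne
    rw [conjG_one] at heq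
    refine PGLType.torus a b hg heq fun ⟨h5, h4⟩ => ?_
    obtain ⟨Q⟩ := exists_qpar (two_ne_zero_of_odd ho)
    haveI : Fact (Nat.Prime 2) := ⟨Nat.prime_two⟩
    refine not_coatom_sylow hM (l := 2) (a := 3) (E := Q.N) (by rw [heq, hcard, h4]; norm_num) (fun h => ?_)
      (ne_top_of_card ?_) (by rw [Q.card_N]; norm_num) (by rw [Q.card_N]; norm_num)
    · rw [hG, h5] at h; norm_num at h
    · rw [Q.card_N, hG, h5]; norm_num
  cases classify_finite p M with
  | borel x hx =>
    refine PGLType.borel x ?_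
    have := coatom_conj_eq hM (σ := 1) (E := bor x) (by rw [conjG_one]; exact le_bor hx) (ne_top_of_card ?_)
    · rwa [conjG_one] at this
    · rw [card_bor, hG]
      exact lt_mul_of_one_lt_right (Nat.mul_pos (by omega) (by omega)) (by omega)
  | cyclic a b hg h hne => exact torus hg fun g hg' => mem_pairSet.2 (Or.inl (mem_pairFix.1 (h hg')))
  | dihedral a b hg h hn hC => exact torus hg h
  | a4 hN h2' h3' e =>
    exfalso
    refine hnle (le_psl_of_perfect ho e.some fun H hH => no_six_in_a4 H ?_)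
    have := H.card_mul_index
    rw [hH, Nat.card_eq_fintype_card (α := alternatingGroup (Fin 4)),
      show Fintype.card (alternatingGroup (Fin 4)) = 12 by decide +kernel] at this
    omega
  | a5 hN h2' h5' e =>
    exfalso
    refine hnle (le_psl_of_perfect ho e.some fun H hH => ?_)
    haveI := Subgroup.normal_of_index_eq_two hH
    haveI := alternatingGroup.isSimpleGroup_five
    rcases IsSimpleGroup.eq_bot_or_eq_top_of_normal H inferInstance with rfl | rfl
    · rw [Subgroup.index_bot, Nat.card_eq_fintype_card] at hH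
      revert hH
      decide +kernel
    · rw [Subgroup.index_top] at hH; omega
  | s4 hN h2' h3' e =>
    have h5 : 5 ≤ p := by
      have := hp.two_le
      have : p ≠ 4 := fun e => by rw [e] at hp; norm_num at hp
      omega
    obtain ⟨Q⟩ := exists_qpar (two_ne_zero_of_odd ho)
    obtain ⟨σ, hσ⟩ := Q.exists_conj_eq_of_s4_top ho e.some
    have hns : ¬ IsSquare (2 : F) := fun hsq => hnle (by
      rw [← conjG_one M, ← inv_mul_cancel σ, conjG_mul, hσ]
      exact (Subgroup.map_mono (Q.N_inf_psl_of_sq hsq)).trans (conjG_psl σ⁻¹).le)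
    have h8 : Nat.card F % 8 = 3 ∨ Nat.card F % 8 = 5 := by
      rw [two_is_square_iff] at hns; omega
    obtain ⟨n, hn, hq⟩ := card_eq_pow (F := F) p
    have hp2 : p % 2 = 1 := hp.eq_two_or_odd.resolve_left (by omega)
    by_cases hn1 : n = 1
    · subst hn1
      rw [pow_one] at hq
      exact PGLType.s4 σ Q hq (hq ▸ h8) hσ
    exfalso
    obtain ⟨F1, hF1, -⟩ := exists_subfield_of_dvd (F := F) p hq (k := 1) le_rfl (one_dvd n) (by omega)
    rw [pow_one] at hF1
    haveI : CharP F1 p := charP_subfield p F1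
    obtain ⟨Q1⟩ := exists_qpar (F := F1) (two_ne_zero_of_odd (odd_subfield ho F1))
    obtain ⟨f1⟩ := Q1.N_s4
    obtain ⟨τ, hτ⟩ := Q.exists_conj_eq_of_s4_top ho
      ((Q1.N.equivMapOfInjective _ (mapG_injective F1.subtype)).symm.trans f1)
    have hle : conjG (τ⁻¹ * σ) M ≤ pglSub F1 := by
      rw [conjG_mul, hσ, ← hτ, ← conjG_mul, inv_mul_cancel, conjG_one]
      rintro _ ⟨g, -, rfl⟩; exact ⟨g, rfl⟩
    have hne : Nat.card F1 ≠ Nat.card F := by
      rw [hF1, hq]; intro e'
      exact hn1 (Nat.pow_right_injective hp.two_le (show p ^ n = p ^ 1 by rw [pow_one, ← e']))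
    have hlt : Nat.card (pglSub F1) < Nat.card (G2 F) := by
      have hsq := subfield_card_sq_le hne
      have h1 : Nat.card F1 < Nat.card F :=
        lt_of_lt_of_le (lt_mul_of_one_lt_right (by omega) (by omega)) hsq
      rw [card_pglSub, hG]
      exact Nat.mul_lt_mul'' (Nat.mul_lt_mul'' h1 (by omega)) (by omega)
    have := coatom_conj_eq hM hle (ne_top_of_card hlt)
    have h1 := card_pglSub F1
    rw [← this, card_conjG, hN, hF1] at h1
    have := Nat.mul_le_mul (Nat.mul_le_mul h5 (show 4 ≤ p - 1 by omega)) (show 6 ≤ p + 1 by omega)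
    omega
  | subfield σ F1 h3 h =>
    have hne : Nat.card F1 ≠ Nat.card F := fun e => by
      have htop : Nat.card (pglSub F1) = Nat.card (G2 F) := by rw [card_pglSub, e, hG]
      rcases h with h | ⟨-, h⟩
      · refine hM.1 (Subgroup.eq_top_of_card_eq _ ?_)
        rw [← card_conjG (G := M) σ, h, htop]
      · refine hnle ?_
        rw [← conjG_one M, ← inv_mul_cancel σ, conjG_mul, h]
        exact (Subgroup.map_mono (pslSub_le_psl F1)).trans (conjG_psl σ⁻¹).le
    have hle : conjG σ M ≤ pglSub F1 := by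
      rcases h with h | ⟨-, h⟩
      · exact h.le
      · rw [h]; exact pslSub_le_pglSub F1
    have hlt : ∀ F2 : Subfield F, Nat.card F2 ≠ Nat.card F → pglSub F2 ≠ ⊤ := fun F2 h2 => ne_top_of_card (by
      have hsq := subfield_card_sq_le h2
      have h22 := two_le_card_subfield F2
      have h1 : Nat.card F2 < Nat.card F := lt_of_lt_of_le (lt_mul_of_one_lt_right (by omega) (by omega)) hsq
      rw [card_pglSub, hG]
      exact Nat.mul_lt_mul'' (Nat.mul_lt_mul'' h1 (by omega)) (by omega))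
    have heq := coatom_conj_eq hM hle (hlt F1 hne)
    obtain ⟨n, hn, hq⟩ := card_eq_pow (F := F) p
    obtain ⟨m, hm, hpow⟩ := exists_card_pow F1
    obtain ⟨i, -, hFi⟩ := (Nat.dvd_prime_pow hp).1
      (hq ▸ hpow ▸ dvd_pow_self (Nat.card F1) (by omega : m ≠ 0) : Nat.card F1 ∣ p ^ n)
    have hi0 : i ≠ 0 := by rintro rfl; rw [pow_zero] at hFi; omega
    have him : i * m = n := Nat.pow_right_injective hp.two_le
      (show p ^ (i * m) = p ^ n by rw [pow_mul, ← hFi, hpow, hq])
    have hmodd : Odd m := Nat.not_even_iff_odd.1 fun he => hnle (by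
      rw [← conjG_one M, ← inv_mul_cancel σ, conjG_mul, heq]
      exact (Subgroup.map_mono (pglSub_le_psl F1 hpow (Or.inl he))).trans (conjG_psl σ⁻¹).le)
    have hmp : m.Prime := by
      by_contra hmp
      have hm2 : 2 ≤ m := by
        by_contra hlt
        obtain rfl : m = 1 := by omega
        exact hne (by rw [← hpow, pow_one])
      obtain ⟨s, hsm, hs1, hsne⟩ := Nat.exists_dvd_of_not_prime hm2 hmp
      obtain ⟨t, rfl⟩ := hsm
      have hs0 : s ≠ 0 := by rintro rfl; omega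
      obtain ⟨F2, hF2, -⟩ := exists_subfield_of_dvd (F := F) p hq (k := i * s)
        (Nat.one_le_iff_ne_zero.2 (mul_ne_zero hi0 hs0)) ⟨t, by rw [← him]; ring⟩ (by omega)
      have hF2' : Nat.card F2 = Nat.card F1 ^ s := by rw [hF2, hFi, ← pow_mul]
      have ht : s < s * t := lt_of_le_of_ne (Nat.le_mul_of_pos_right _ (Nat.pos_of_ne_zero fun e => by
        rw [e, mul_zero] at hm2; omega)) hsne
      have hne2 : Nat.card F2 ≠ Nat.card F := by
        rw [hF2', ← hpow]
        exact (Nat.pow_lt_pow_right (by omega) ht).ne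
      have h2 := coatom_conj_eq hM (hle.trans (pglSub_mono (subfield_le_of_card hF2'))) (hlt F2 hne2)
      rw [heq] at h2
      have h12 : Nat.card F1 < Nat.card F2 := by
        rw [hF2']
        calc Nat.card F1 = Nat.card F1 ^ 1 := (pow_one _).symm
          _ < _ := Nat.pow_lt_pow_right (by omega) (by omega)
      have h1 := card_pglSub F2
      rw [← h2, card_pglSub] at h1
      exact (Nat.mul_lt_mul'' (Nat.mul_lt_mul'' h12 (show Nat.card F1 - 1 < Nat.card F2 - 1 by omega))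
        (show Nat.card F1 + 1 < Nat.card F2 + 1 by omega)).ne h1
    obtain ⟨F3, hF3, e⟩ := exists_subfield_of_dvd (F := F) p hq (k := i) (Nat.one_le_iff_ne_zero.2 hi0) ⟨m, him.symm⟩
      (by omega)
    obtain rfl : F3 = F1 := subfield_eq_of_card (hF3.trans hFi.symm)
    exact PGLType.subfield σ F3 m hmp hmodd hpow.symm h3 i e heq

omit p [Fact p.Prime] [CharP F p] in
theorem max_of_conj {σ : G2 F} {A : Subgroup (G2 F)}
    (h : ∀ M, conjG σ A ≤ M → M < psl F → M ≤ conjG σ A) : ∀ M, A ≤ M → M < psl F → M ≤ A := by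
  intro M hle hlt
  have h1 : conjG σ M < psl F := by
    refine lt_of_le_of_ne ((Subgroup.map_mono hlt.le).trans (conjG_psl σ).le) fun e => hlt.ne ?_
    rw [← conjG_one M, ← inv_mul_cancel σ, conjG_mul, e, conjG_psl]
  have h2 := Subgroup.map_mono (f := (MulAut.conj σ⁻¹).toMonoidHom) (h _ (Subgroup.map_mono hle) h1)
  change conjG σ⁻¹ (conjG σ M) ≤ conjG σ⁻¹ (conjG σ A) at h2
  rwa [← conjG_mul, ← conjG_mul, inv_mul_cancel, conjG_one, conjG_one] at h2

omit p [Fact p.Prime] [CharP F p] in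
theorem isCoatom_subgroupOf_psl {A : Subgroup (G2 F)} (hle : A ≤ psl F) (hne : A ≠ psl F)
    (h : ∀ M, A ≤ M → M < psl F → M ≤ A) : IsCoatom (A.subgroupOf (psl F)) := by
  refine ⟨fun e => hne (le_antisymm hle fun g hg => ?_), fun b hb => ?_⟩
  · exact (e.ge (Subgroup.mem_top (⟨g, hg⟩ : psl F)) :)
  · by_contra hb'
    have h1 : b.map (psl F).subtype < psl F := by
      refine lt_of_le_of_ne (fun x hx => by obtain ⟨y, -, rfl⟩ := hx; exact y.2) fun e => hb' (eq_top_iff.2 fun x _ => ?_)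
      obtain ⟨y, hy, hyx⟩ := e.ge x.2
      rwa [← Subtype.ext hyx]
    have h2 := h _ (fun x hx => Subgroup.mem_map.2 ⟨⟨x, hle hx⟩, hb.le (show (⟨x, hle hx⟩ : psl F) ∈ A.subgroupOf (psl F) from hx), rfl⟩) h1
    exact hb.not_ge fun y hy => h2 ⟨y, hy, rfl⟩

theorem a4_max (ho : Odd (Nat.card F)) (hF : Nat.card F = p) (h5 : 5 ≤ p) (h8 : p % 8 = 3 ∨ p % 8 = 5)
    (h10 : ¬ (p % 10 = 1 ∨ p % 10 = 9)) (Q : QPar F) :
    (Q.N ⊓ psl F) ≠ psl F ∧ ∀ M, Q.N ⊓ psl F ≤ M → M < psl F → M ≤ Q.N ⊓ psl F := by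
  haveI := finite_G2 (F := F)
  have hp : p.Prime := Fact.out
  have hns : ¬ IsSquare (2 : F) := by rw [two_is_square_iff, hF]; omega
  obtain ⟨e⟩ := Q.N_psl_a4 hns
  have hH := Q.card_N_psl hns
  have hc := card_psl F
  rw [gcd_odd ho, hF] at hc
  have h60 := psl_card_lower ho (hF.symm ▸ h5)
  refine ⟨fun e' => by rw [e'] at hH; omega, fun M hM hlt => ?_⟩
  have hd := Subgroup.card_dvd_of_le hlt.le
  rcases exc_overgroup p (IsExc.of_equiv e isExc_a4) (by omega) hM hlt with h | h | h | ⟨σ, F1, hne, -⟩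
  · exact (Subgroup.eq_of_le_of_card_ge hM (by rw [h, hH])).ge
  · exfalso
    rw [h] at hd
    have h16 : 16 ∣ p * ((p - 1) * (p + 1)) := hc ▸ (dvd_trans (by norm_num : 16 ∣ 2 * 24) (Nat.mul_dvd_mul_left 2 hd))
    obtain ⟨r, hr, hr'⟩ : ∃ r, (r = 3 ∨ r = 5 ∨ r = 11 ∨ r = 13) ∧ p % 16 = r := ⟨p % 16, by omega, rfl⟩
    rw [Nat.dvd_iff_mod_eq_zero, Nat.mul_mod, Nat.mul_mod (p - 1), hr',
      show (p - 1) % 16 = r - 1 by omega, show (p + 1) % 16 = (r + 1) % 16 by omega] at h16
    rcases hr with rfl | rfl | rfl | rfl <;> omega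
  · exfalso
    rw [h] at hd
    have h16 : 5 ∣ p * ((p - 1) * (p + 1)) :=
      hc ▸ (dvd_trans (by norm_num : 5 ∣ 2 * 60) (Nat.mul_dvd_mul_left 2 hd))
    rcases (Nat.Prime.dvd_mul (by norm_num : Nat.Prime 5)).1 h16 with h5 | h5
    · obtain rfl : p = 5 := ((Nat.prime_dvd_prime_iff_eq (by norm_num) hp).1 h5).symm
      exact hlt.ne (Subgroup.eq_of_le_of_card_ge hlt.le (by rw [h]; omega))
    · rcases (Nat.Prime.dvd_mul (by norm_num : Nat.Prime 5)).1 h5 with h | h <;> omega
  · exact absurd (subfield_card_eq_of_prime (hF.symm ▸ hp) F1) hne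

end CfsgLib.Perm.Dickson
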