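import Cfsg.Agent.Lib.Perm.Dickson.KleinNorm

/-!
# All Klein four groups of PSL(2, q) are conjugate in PGL(2, q)
-/

set_option autoImplicit false
set_option linter.all false

namespace CfsgLib.Perm.Dickson

open Matrix

variable {F : Type*} [Field F]

theorem psl_involution_lift (h2 : (2 : F) ≠ 0) {g : G2 F} (hg : g ∈ psl F) (h1 : g ≠ 1) (hsq : g * g = 1) :
    ∃ A : GL (Fin 2) F, ProjGenLinGroup.mk A = g ∧ A.1.det = 1 ∧ A.1 1 1 = -A.1 0 0 := by
  obtain ⟨S, rfl⟩ := hg
  refine ⟨SpecialLinearGroup.toGL S, rfl, S.2, ?_⟩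
  change ProjGenLinGroup.mk (SpecialLinearGroup.toGL S) * ProjGenLinGroup.mk (SpecialLinearGroup.toGL S) = 1 at hsq
  change ProjGenLinGroup.mk (SpecialLinearGroup.toGL S) ≠ 1 at h1
  rw [← map_mul, ← map_one ProjGenLinGroup.mk] at hsq
  obtain ⟨c, hc, e⟩ := exists_smul_of_mk_eq hsq
  show S.1 1 1 = -S.1 0 0
  have hd := S.2
  rw [det_fin_two] at hd
  have e00 := congrFun (congrFun e 0) 0
  have e01 := congrFun (congrFun e 0) 1
  have e10 := congrFun (congrFun e 1) 0
  have e11 := congrFun (congrFun e 1) 1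
  simp [Matrix.mul_apply, Fin.sum_univ_two, SpecialLinearGroup.toGL, hc] at e00 e01 e10 e11
  by_contra hne
  have hτ : S.1 0 0 + S.1 1 1 ≠ 0 := fun e => hne (by linear_combination e)
  have h01 : S.1 0 1 = 0 := (mul_eq_zero.1 (show (S.1 0 0 + S.1 1 1) * S.1 0 1 = 0 by linear_combination e01)).resolve_left hτ
  have h10 : S.1 1 0 = 0 := (mul_eq_zero.1 (show (S.1 0 0 + S.1 1 1) * S.1 1 0 = 0 by linear_combination e10)).resolve_left hτ
  have hdd : (S.1 0 0 - S.1 1 1) * (S.1 0 0 + S.1 1 1) = 0 := by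
    have : c * ((S.1 0 0 - S.1 1 1) * (S.1 0 0 + S.1 1 1)) = 0 := by linear_combination e00 - e11
    exact (mul_eq_zero.1 this).resolve_left hc
  have heq : S.1 0 0 = S.1 1 1 := sub_eq_zero.1 ((mul_eq_zero.1 hdd).resolve_right hτ)
  have hne0 : S.1 0 0 ≠ 0 := fun e => hτ (by rw [← heq, e, add_zero])
  apply h1
  rw [← map_one ProjGenLinGroup.mk]
  refine mk_eq_of_smul (S.1 0 0)⁻¹ (inv_ne_zero hne0) ?_
  ext i j
  fin_cases i <;> fin_cases j <;> simp [SpecialLinearGroup.toGL, h01, h10, ← heq, hne0]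

theorem involution_to_I (h2 : (2 : F) ≠ 0) {g : G2 F} (hg : g ∈ psl F) (h1 : g ≠ 1) (hsq : g * g = 1) :
    ∃ σ : G2 F, σ * g * σ⁻¹ = QPar.gI := by
  obtain ⟨A, rfl, hd, htr⟩ := psl_involution_lift h2 hg h1 hsq
  rw [det_fin_two, htr] at hd
  -- a vector which is no eigenvector
  obtain ⟨x, y, hxy⟩ : ∃ x y : F, x * (A.1 1 0 * x + A.1 1 1 * y) - y * (A.1 0 0 * x + A.1 0 1 * y) ≠ 0 := by
    by_contra hcon
    push Not at hcon
    have e1 := hcon 1 0
    have e2 := hcon 0 1
    have e3 := hcon 1 1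
    simp at e1 e2 e3
    rw [htr, e1, e2] at e3
    have h00 : A.1 0 0 = 0 := by
      have : (2 : F) * A.1 0 0 = 0 := by linear_combination -e3
      exact (mul_eq_zero.1 this).resolve_left h2
    rw [e1, e2, h00] at hd
    simp at hd
  set P : Matrix (Fin 2) (Fin 2) F := !![x, A.1 0 0 * x + A.1 0 1 * y; y, A.1 1 0 * x + A.1 1 1 * y] with hP
  have hPd : P.det ≠ 0 := by
    rw [hP, det_fin_two]
    simpa [mul_comm] using hxy
  set PP := GeneralLinearGroup.mkOfDetNeZero P hPd
  refine ⟨(ProjGenLinGroup.mk PP)⁻¹, ?_⟩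
  rw [inv_inv, mul_assoc, inv_mul_eq_iff_eq_mul, QPar.gI, ← map_mul, ← map_mul]
  refine mk_eq_of_smul 1 one_ne_zero ?_
  ext i j
  fin_cases i <;> fin_cases j <;>
    simp [PP, hP, GeneralLinearGroup.mkOfDetNeZero, QPar.mI, Matrix.mul_apply, Fin.sum_univ_two, htr] <;>
    first
      | ring1
      | linear_combination x * hd
      | linear_combination -x * hd
      | linear_combination y * hd
      | linear_combination -y * hd

namespace QPar

variable (Q : QPar F)

theorem pair_normal {g h : G2 F} (hg : g ∈ psl F) (hh : h ∈ psl F) (hg1 : g ≠ 1) (hh1 : h ≠ 1) (hgh : g ≠ h)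
    (hg2 : g * g = 1) (hh2 : h * h = 1) (hc : g * h = h * g) :
    ∃ σ : G2 F, σ * g * σ⁻¹ = gI ∧ σ * h * σ⁻¹ = Q.gJ := by
  obtain ⟨τ, hτ⟩ := involution_to_I Q.two hg hg1 hg2
  set k := τ * h * τ⁻¹ with hk
  have hk1 : k ≠ 1 := fun e => hh1 (by rwa [hk, conj_eq_one_iff] at e)
  have hkI : k ≠ gI := fun e => hgh (mul_left_cancel (mul_right_cancel (hτ.trans e.symm)))
  have hkc : gI * k = k * gI := by rw [← hτ, hk, conj_mul, conj_mul, hc]
  obtain ⟨B, hB, hd, htr⟩ := psl_involution_lift Q.two ((psl_normal F).conj_mem h hh τ) hk1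
    (by rw [← hk] ; rw [hk, conj_mul, hh2, mul_one, mul_inv_cancel])
  rw [← hk] at hB
  rw [← hB, gI, ← map_mul, ← map_mul] at hkc
  obtain ⟨c, hc0, e⟩ := exists_smul_of_mk_eq hkc
  have e00 := congrFun (congrFun e 0) 0
  have e01 := congrFun (congrFun e 0) 1
  have e11 := congrFun (congrFun e 1) 1
  simp [GeneralLinearGroup.mkOfDetNeZero, mI, Matrix.mul_apply, Matrix.vecMul, dotProduct, Fin.sum_univ_two, htr] at e00 e01 e11
  rw [det_fin_two, htr] at hd
  have hcm : c = -1 := by
    by_contra hne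
    have hc1 : c + 1 ≠ 0 := fun e => hne (add_eq_zero_iff_eq_neg.1 e)
    have h00 : B.1 0 0 = 0 := (mul_eq_zero.1 (show (c + 1) * B.1 0 0 = 0 by
      first
        | linear_combination e01
        | linear_combination -e01)).resolve_left hc1
    rw [h00] at hd
    have h10 : B.1 1 0 ≠ 0 := fun e0 => by rw [e0] at hd; simp at hd
    have hcc : (c - 1) * ((c + 1) * B.1 1 0) = 0 := by
      first
        | linear_combination (-c) * e00 + e11
        | linear_combination (-c) * e00 - e11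
        | linear_combination c * e00 + e11
        | linear_combination c * e00 - e11
        | linear_combination c * e11 + e00
        | linear_combination c * e11 - e00
    obtain rfl : c = 1 := sub_eq_zero.1 ((mul_eq_zero.1 hcc).resolve_right (mul_ne_zero hc1 h10))
    apply hkI
    rw [← hB, gI]
    refine mk_eq_of_smul (B.1 1 0)⁻¹ (inv_ne_zero h10) ?_
    ext i j
    fin_cases i <;> fin_cases j <;> simp [GeneralLinearGroup.mkOfDetNeZero, mI, h00, htr, h10] <;>
      field_simp <;>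
      first
        | linear_combination e00
        | linear_combination -e00
  have hsym : B.1 1 0 = B.1 0 1 := by
    rw [hcm] at e00
    first
      | linear_combination e00
      | linear_combination -e00
  set a' := B.1 0 0 with ha'
  set b' := B.1 0 1 with hb'
  rw [hsym] at hd
  set cc := -(a' * Q.a + b' * Q.b) with hcc
  set ss := a' * Q.b - Q.a * b' with hss
  have hns : cc ^ 2 + ss ^ 2 = 1 := by
    rw [hcc, hss]
    linear_combination (Q.a * Q.a + Q.b * Q.b) * (-hd) + (-(1 : F)) * Q.h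
  have hBm : B.1 = !![a', b'; b', -a'] := by
    ext i j; fin_cases i <;> fin_cases j <;> simp [ha', hb', hsym, htr]
  by_cases hc1 : cc = -1
  · have hs0 : ss = 0 := by
      rw [hc1] at hns
      exact pow_eq_zero_iff two_ne_zero |>.1 (show ss ^ 2 = 0 by linear_combination hns)
    refine ⟨τ, hτ, ?_⟩
    rw [← hk, ← hB, gJ]
    rw [hcc] at hc1
    rw [hss] at hs0
    have ea : a' = -Q.a := by linear_combination a' * Q.h + Q.a * hc1 - Q.b * hs0
    have eb : b' = -Q.b := by linear_combination b' * Q.h + Q.b * hc1 + Q.a * hs0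
    refine mk_eq_of_smul (-1) (neg_ne_zero.2 one_ne_zero) ?_
    rw [hBm, ea, eb]
    ext i j
    fin_cases i <;> fin_cases j <;> simp [GeneralLinearGroup.mkOfDetNeZero, mJ]
  · have hRd : (!![1 + cc, -ss; ss, 1 + cc] : Matrix (Fin 2) (Fin 2) F).det ≠ 0 := by
      rw [det_fin_two]
      simp
      intro e0
      apply hc1
      have : (2 : F) * (1 + cc) = 0 := by linear_combination e0 - hns
      exact add_eq_zero_iff_neg_eq.1 ((mul_eq_zero.1 this).resolve_left Q.two) |>.symm
    refine ⟨(ProjGenLinGroup.mk (GeneralLinearGroup.mkOfDetNeZero _ hRd))⁻¹ * τ, ?_, ?_⟩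
    · rw [_root_.mul_inv_rev, inv_inv, show ∀ r : G2 F, r⁻¹ * τ * g * (τ⁻¹ * r) = r⁻¹ * (τ * g * τ⁻¹ * r) from
        fun r => by group, hτ, inv_mul_eq_iff_eq_mul, gI, ← map_mul, ← map_mul]
      refine mk_eq_of_smul 1 one_ne_zero ?_
      ext i j
      fin_cases i <;> fin_cases j <;> simp [GeneralLinearGroup.mkOfDetNeZero, mI, Matrix.mul_apply, Fin.sum_univ_two]
    · rw [_root_.mul_inv_rev, inv_inv, show ∀ r : G2 F, r⁻¹ * τ * h * (τ⁻¹ * r) = r⁻¹ * (k * r) from
        fun r => by rw [hk]; group, inv_mul_eq_iff_eq_mul, ← hB, gJ, ← map_mul, ← map_mul]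
      refine mk_eq_of_smul 1 one_ne_zero ?_
      rw [one_smul, Units.val_mul, Units.val_mul, hBm]
      ext i j
      fin_cases i <;> fin_cases j <;>
        simp [GeneralLinearGroup.mkOfDetNeZero, mJ, Matrix.mul_apply, Fin.sum_univ_two, hcc, hss] <;>
        first
          | ring1
          | linear_combination a' * Q.h + Q.a * hd
          | linear_combination -a' * Q.h - Q.a * hd
          | linear_combination b' * Q.h + Q.b * hd
          | linear_combination -b' * Q.h - Q.b * hd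
          | linear_combination a' * Q.h - Q.a * hd
          | linear_combination b' * Q.h - Q.b * hd
          | linear_combination -a' * Q.h + Q.a * hd
          | linear_combination -b' * Q.h + Q.b * hd

end QPar

theorem QPar.exists_conj_V [Finite F] (Q : QPar F) {W : Subgroup (G2 F)} (hW : W ≤ psl F) (hc : Nat.card W = 4)
    (hexp : ∀ g ∈ W, g * g = 1) : ∃ σ : G2 F, conjG σ W = Q.V := by
  classical
  haveI := finite_G2 (F := F)
  haveI : Nontrivial W := Finite.one_lt_card_iff_nontrivial.1 (by omega)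
  obtain ⟨g, hg⟩ := exists_ne (1 : W)
  obtain ⟨h, hh1, hh2⟩ : ∃ h : W, h ≠ 1 ∧ h ≠ g := by
    by_contra hcon
    push Not at hcon
    haveI := Fintype.ofFinite W
    have h1 : (Finset.univ : Finset W) ⊆ {1, g} := fun x _ => by
      rw [Finset.mem_insert, Finset.mem_singleton]
      exact or_iff_not_imp_left.2 (hcon x)
    have := Finset.card_le_card h1
    rw [Finset.card_univ, ← Nat.card_eq_fintype_card, hc] at this
    have := this.trans (Finset.card_insert_le _ _)
    simp at this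
  have hcomm : (g : G2 F) * h = h * g := by
    have e := hexp _ (mul_mem g.2 h.2)
    calc (g : G2 F) * h = ((g : G2 F) * h)⁻¹ := (inv_eq_of_mul_eq_one_right e).symm
      _ = (h : G2 F)⁻¹ * (g : G2 F)⁻¹ := _root_.mul_inv_rev _ _
      _ = h * g := by rw [inv_eq_of_mul_eq_one_right (hexp _ h.2), inv_eq_of_mul_eq_one_right (hexp _ g.2)]
  obtain ⟨σ, s1, s2⟩ := Q.pair_normal (hW g.2) (hW h.2) (fun e => hg (Subtype.ext e)) (fun e => hh1 (Subtype.ext e))
    (fun e => hh2 (Subtype.ext e.symm)) (hexp _ g.2) (hexp _ h.2) hcomm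
  refine ⟨σ, (Subgroup.eq_of_le_of_card_ge ?_ ?_).symm⟩
  · intro x hx
    have hI : QPar.gI ∈ conjG σ W := ⟨g, g.2, s1⟩
    have hJ : Q.gJ ∈ conjG σ W := ⟨h, h.2, s2⟩
    rcases hx with rfl | rfl | rfl | rfl
    · exact one_mem _
    · exact hI
    · exact hJ
    · rw [← Q.IJ]; exact mul_mem hI hJ
  · rw [card_conjG, hc, Q.card_V]

theorem conjG_normalizer (σ : G2 F) (W : Subgroup (G2 F)) :
    conjG σ (Subgroup.normalizer (W : Set (G2 F))) = Subgroup.normalizer (conjG σ W : Set (G2 F)) :=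
  Subgroup.map_equiv_normalizer_eq W (MulAut.conj σ)

theorem conjG_psl (σ : G2 F) : conjG σ (psl F) = psl F := by
  ext g
  rw [mem_conjG]
  refine ⟨fun h => ?_, fun h => by simpa using (psl_normal F).conj_mem g h σ⁻¹⟩
  simpa [mul_assoc] using (psl_normal F).conj_mem _ h σ

theorem conjG_inf (σ : G2 F) (A B : Subgroup (G2 F)) : conjG σ (A ⊓ B) = conjG σ A ⊓ conjG σ B :=
  Subgroup.map_inf _ _ _ (MulAut.conj σ).injective

end CfsgLib.Perm.Dickson
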