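import Cfsg.Agent.Lib.Perm.Dickson.Classify

/-!
# Elements of PGL(2) over a finite field
-/

set_option autoImplicit false
set_option linter.all false

namespace CfsgLib.Perm.Dickson

open Matrix

variable {F : Type*} [Field F]

theorem exists_fixed_of_isAlgClosed {K : Type*} [Field K] [IsAlgClosed K] (g : G2 K) : ∃ x : P2 K, g • x = x := by
  cases g using Matrix.ProjGenLinGroup.induction_on with
  | mk A =>
    obtain ⟨μ, hμ⟩ := Module.End.exists_eigenvalue (Matrix.toLin' (A : Matrix (Fin 2) (Fin 2) K))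
    obtain ⟨v, hv⟩ := hμ.exists_hasEigenvector
    refine ⟨Projectivization.mk K v hv.2, ?_⟩
    rw [mk_smul, Projectivization.mk_eq_mk_iff']
    exact ⟨μ, by rw [← hv.apply_eq_smul, Matrix.toLin'_apply]⟩

/-- the algebraic closure -/
abbrev Kc (F : Type*) [Field F] := AlgebraicClosure F

/-- the embedding into the algebraic closure -/
noncomputable abbrev iF (F : Type*) [Field F] : F →+* Kc F := algebraMap F (AlgebraicClosure F)

theorem charP_Kc (p : ℕ) [CharP F p] : CharP (Kc F) p :=
  charP_of_injective_ringHom (algebraMap F (AlgebraicClosure F)).injective p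

/-- being a point over the small field -/
def IsRat (x : P2 (Kc F)) : Prop := x ∈ Set.range (mapP (iF F))

theorem isRat_smul {g : G2 F} {x : P2 (Kc F)} (h : IsRat x) : IsRat (mapG (iF F) g • x) := by
  obtain ⟨y, rfl⟩ := h
  exact ⟨g • y, (map_smul_pt _ g y).symm⟩

theorem fix_map_iff (g : G2 F) (x : P2 F) : mapG (iF F) g • mapP (iF F) x = mapP (iF F) x ↔ g • x = x := by
  rw [map_smul_pt]
  exact (mapP_injective _).eq_iff

theorem conj_smul_eq {K : Type*} [Field K] {g σ : G2 K} {x y : P2 K} (h : σ • x = y) : (σ * g * σ⁻¹) • y = σ • (g • x) := by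
  rw [← h, mul_smul, inv_smul_smul, mul_smul]

/-- an element with exactly one fixed point is a translation up to conjugation -/
theorem pow_char_of_single {K : Type*} [Field K] (p : ℕ) [CharP K p] {g : G2 K} {x : P2 K} (hx : g • x = x)
    (h : ∀ y : P2 K, g • y = y → y = x) : g ^ p = 1 := by
  obtain ⟨σ, hσ⟩ := exists_move_ip x
  obtain ⟨t, u, ht⟩ := exists_of_fix_ip (g := σ * g * σ⁻¹) (by rw [conj_smul_eq hσ, hx, hσ])
  have := (single_fix_iff t u).1 fun y hy => by
    rw [← ht, mul_smul, mul_smul] at hy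
    rw [← smul_inv_smul σ y, h (σ⁻¹ • y) (by rw [eq_inv_smul_iff]; exact hy), hσ]
  rw [this.1, di_one, mul_one] at ht
  have e : (σ * g * σ⁻¹) ^ p = 1 := by rw [ht, tr_pow, CharP.cast_eq_zero K p, zero_mul, tr_zero]
  rwa [conj_pow, conj_eq_one_iff] at e

/-- a free element: no power other than the identity fixes a point over the small field -/
theorem free_of_no_fix {g : G2 F} (h : ∀ x : P2 F, g • x ≠ x) (i : ℕ) (hi : g ^ i ≠ 1) (x : P2 F) :
    g ^ i • x ≠ x := by
  intro hx
  have hy : g ^ i • (g • x) = g • x := by rw [← mul_smul, ← pow_succ, pow_succ', mul_smul, hx]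
  have hne : x ≠ g • x := fun e => h x e.symm
  have h3 : g ^ i • (g • g • x) = g • g • x := by
    rw [← mul_smul, ← pow_succ, pow_succ', mul_smul, hy]
  have h2 : g • g • x = x := by
    by_contra hc
    exact hi (eq_one_of_three hne (Ne.symm hc) (fun e => h (g • x) e.symm) hx hy h3)
  obtain ⟨σ, s1, s2⟩ := exists_move_two hne
  obtain ⟨b, hb⟩ := eq_iv_of_swap (g := σ * g * σ⁻¹)
    (by rw [conj_smul_eq s1, s2]) (by rw [conj_smul_eq s2, h2, s1])
  have hg2 : g * g = 1 := by
    have := iv_sq b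
    rw [← hb, conj_mul, conj_eq_one_iff] at this
    exact this
  rw [← pow_two] at hg2
  rcases Nat.even_or_odd i with ⟨j, rfl⟩ | ⟨j, rfl⟩
  · exact hi (by rw [← two_mul, pow_mul, hg2, one_pow])
  · rw [pow_succ, pow_mul, hg2, one_pow, one_mul] at hx
    exact h x hx

theorem orderOf_dvd_of_free [Finite F] {g : G2 F} (h : ∀ x : P2 F, g • x ≠ x) : orderOf g ∣ Nat.card F + 1 := by
  classical
  haveI := finite_G2 (F := F)
  have hfree : ∀ x : P2 F, MulAction.stabilizer (Subgroup.zpowers g) x = ⊥ := by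
    intro x
    rw [eq_bot_iff]
    rintro ⟨k, hk⟩ hx
    rw [mem_zpowers_iff_mem_range_orderOf, Finset.mem_image] at hk
    obtain ⟨i, -, rfl⟩ := hk
    rw [Subgroup.mem_bot]
    by_contra hne
    exact free_of_no_fix h i (fun e => hne (Subtype.ext e)) x hx
  rw [← card_P2, Nat.card_congr (MulAction.selfEquivOrbitsQuotientProd hfree), Nat.card_prod, Nat.card_zpowers]
  exact dvd_mul_left _ _

theorem orderOf_dvd_of_two_fix [Finite F] {g : G2 F} {x y : P2 F} (hxy : x ≠ y) (hx : g • x = x) (hy : g • y = y) :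
    orderOf g ∣ Nat.card F - 1 := by
  obtain ⟨σ, s1, s2⟩ := exists_move_two hxy
  obtain ⟨u, hu⟩ := eq_di_of_fix_two (g := σ * g * σ⁻¹) (by rw [conj_smul_eq s1, hx, s1])
    (by rw [conj_smul_eq s2, hy, s2])
  have : orderOf g = orderOf u := by
    rw [← orderOf_injective (MulAut.conj σ).toMonoidHom (MulAut.conj σ).injective g, ← orderOf_injective diHom di_injective u]
    exact congrArg orderOf hu
  rw [this, ← Nat.card_units]
  exact orderOf_dvd_natCard u

variable (p : ℕ) [Fact p.Prime] [CharP F p] [Finite F]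
include p

theorem not_dvd_q_add_one : ¬ p ∣ Nat.card F + 1 := by
  haveI := Fintype.ofFinite F
  intro h
  obtain ⟨n, -, hn⟩ := FiniteField.card F p
  rw [Nat.card_eq_fintype_card, hn] at h
  exact (Fact.out : p.Prime).not_dvd_one ((Nat.dvd_add_right (dvd_pow_self p n.pos.ne')).1 h)

theorem not_dvd_q_sub_one : ¬ p ∣ Nat.card F - 1 := by
  haveI := Fintype.ofFinite F
  intro h
  obtain ⟨n, -, hn⟩ := FiniteField.card F p
  rw [Nat.card_eq_fintype_card, hn] at h
  have hd : p ∣ p ^ (n : ℕ) := dvd_pow_self p n.pos.ne'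
  have hpos : 1 ≤ p ^ (n : ℕ) := Nat.one_le_pow _ _ (Fact.out : p.Prime).pos
  have := Nat.dvd_sub hd h
  rw [show p ^ (n : ℕ) - (p ^ (n : ℕ) - 1) = 1 by omega] at this
  exact (Fact.out : p.Prime).not_dvd_one this

/-- the fixed point of an element with one fixed point is defined over the small field -/
theorem isRat_of_single {g : G2 F} {x : P2 (Kc F)} (hx : mapG (iF F) g • x = x)
    (h : ∀ y, mapG (iF F) g • y = y → y = x) : IsRat x := by
  haveI := charP_Kc (F := F) p
  have hp := pow_char_of_single p hx h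
  rw [← map_pow, map_eq_one_iff _ (mapG_injective _)] at hp
  obtain ⟨z, hz⟩ : ∃ z : P2 F, g • z = z := by
    by_contra hcon
    push Not at hcon
    rcases (Nat.dvd_prime (Fact.out : p.Prime)).1 (orderOf_dvd_of_pow_eq_one hp) with h1 | h1
    · rw [orderOf_eq_one_iff] at h1
      exact hcon ip (by rw [h1, one_smul])
    · exact not_dvd_q_add_one (F := F) p (h1 ▸ orderOf_dvd_of_free hcon)
  exact ⟨z, h _ ((fix_map_iff g z).2 hz)⟩

/-- in the algebraic closure, one fixed point over the small field forces another unless single -/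
theorem isRat_of_fix {g : G2 F} (hg : g ≠ 1) {x y : P2 (Kc F)} (hxy : x ≠ y) (hx : mapG (iF F) g • x = x)
    (hy : mapG (iF F) g • y = y) (hr : IsRat x) : IsRat y := by
  haveI := charP_Kc (F := F) p
  obtain ⟨a, rfl⟩ := hr
  rw [fix_map_iff] at hx
  by_contra hny
  have huniq : ∀ b : P2 F, g • b = b → b = a := by
    intro b hb
    by_contra hne
    have h1 : mapP (iF F) a ≠ mapP (iF F) b := fun e => hne (mapP_injective _ e).symm
    have h3 : mapP (iF F) b ≠ y := fun e => hny ⟨b, e⟩
    exact hg ((map_eq_one_iff _ (mapG_injective _)).1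
      (eq_one_of_three h1 hxy h3 ((fix_map_iff g a).2 hx) ((fix_map_iff g b).2 hb) hy))
  have hp := pow_char_of_single p hx huniq
  obtain ⟨σ, s1⟩ := exists_move_ip a
  obtain ⟨t, u, ht⟩ := exists_of_fix_ip (g := σ * g * σ⁻¹) (by rw [conj_smul_eq s1, hx, s1])
  have hsing := (single_fix_iff t u).1 fun z hz => by
    rw [← ht, mul_smul, mul_smul] at hz
    rw [← smul_inv_smul σ z, huniq (σ⁻¹ • z) (by rw [eq_inv_smul_iff]; exact hz), s1]
  obtain ⟨rfl, ht0⟩ := hsing
  rw [di_one, mul_one] at ht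
  have e1 : mapG (iF F) (σ * g * σ⁻¹) = tr (iF F t) := by rw [ht, mapG_tr]
  rw [map_mul, map_mul, map_inv] at e1
  have hs1 : mapG (iF F) σ • mapP (iF F) a = ip := by rw [map_smul_pt, s1, mapP_ip]
  have := ((single_fix_iff (iF F t) 1).2 ⟨rfl, fun e => ht0 ((iF F).injective (by rw [e, map_zero]))⟩)
    (mapG (iF F) σ • y) (by rw [di_one, mul_one, ← e1, mul_smul, inv_smul_smul, mul_smul, hy])
  exact hxy (MulAction.injective (mapG (iF F) σ) (hs1.trans this.symm))

/-- every element has a prime-to-`p` order dividing `q ± 1` or has order `p` -/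
theorem order_cases (g : G2 F) :
    orderOf g ∣ Nat.card F - 1 ∨ orderOf g ∣ Nat.card F + 1 ∨ orderOf g = p := by
  by_cases h : ∀ x : P2 F, g • x ≠ x
  · exact Or.inr (Or.inl (orderOf_dvd_of_free h))
  push Not at h
  obtain ⟨x, hx⟩ := h
  by_cases h2 : ∀ y : P2 F, g • y = y → y = x
  · have hp := pow_char_of_single p hx h2
    rcases (Nat.dvd_prime (Fact.out : p.Prime)).1 (orderOf_dvd_of_pow_eq_one hp) with h1 | h1
    · exact Or.inl (by rw [h1]; exact one_dvd _)
    · exact Or.inr (Or.inr h1)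
  · push Not at h2
    obtain ⟨y, hy, hne⟩ := h2
    exact Or.inl (orderOf_dvd_of_two_fix hne.symm hx hy)

end CfsgLib.Perm.Dickson
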