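import Cfsg.Agent.Lib.Perm.Dickson.Mobius

/-!
# Field extensions and the special projective group

Maps between projective lines, the image of `SL(2)` in `PGL(2)` and its generation.
-/

set_option autoImplicit false
set_option linter.all false

namespace CfsgLib.Perm.Dickson

open Matrix

variable {F K : Type*} [Field F] [Field K]

/-- coordinatewise map -/
def vmap (i : F →+* K) : (Fin 2 → F) →ₛₗ[i] (Fin 2 → K) where
  toFun v j := i (v j)
  map_add' u v := funext fun j => map_add i (u j) (v j)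
  map_smul' c v := funext fun j => map_mul i c (v j)

theorem vmap_injective (i : F →+* K) : Function.Injective (vmap i) :=
  fun u v h => funext fun j => i.injective (congrFun h j)

/-- map of projective lines -/
def mapP (i : F →+* K) : P2 F → P2 K := Projectivization.map (vmap i) (vmap_injective i)

/-- map of projective groups -/
def mapG (i : F →+* K) : G2 F →* G2 K := ProjGenLinGroup.map i

theorem mapP_ip (i : F →+* K) : mapP i ip = ip := by
  rw [mapP, ip, Projectivization.map_mk]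
  exact mk_eq_ip _ (map_zero i)

theorem mapP_fp (i : F →+* K) (z : F) : mapP i (fp z) = fp (i z) := by
  rw [mapP, fp, Projectivization.map_mk, mk_eq_fp]
  · congr 1
    show i z / i 1 = i z
    rw [map_one, div_one]
  · show i 1 ≠ 0
    rw [map_one]
    exact one_ne_zero

theorem mapP_injective (i : F →+* K) : Function.Injective (mapP i) := by
  intro x y h
  obtain rfl | ⟨a, rfl⟩ := point_cases x <;> obtain rfl | ⟨b, rfl⟩ := point_cases y <;>
    simp only [mapP_ip, mapP_fp] at h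
  · rfl
  · exact absurd h (ip_ne_fp _)
  · exact absurd h (fp_ne_ip _)
  · rw [i.injective (fp_inj h)]

theorem map_smul_pt (i : F →+* K) (g : G2 F) (x : P2 F) : mapG i g • mapP i x = mapP i (g • x) := by
  cases g using Matrix.ProjGenLinGroup.induction_on with
  | mk A =>
    induction x using Projectivization.ind with
    | _ v hv =>
      rw [mapG, ProjGenLinGroup.map_mk, mk_smul, mapP, Projectivization.map_mk, Projectivization.map_mk, mk_smul]
      congr 1
      funext j
      exact (RingHom.map_mulVec i A.1 v j).symm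

theorem mapG_injective (i : F →+* K) : Function.Injective (mapG i) := by
  rw [injective_iff_map_eq_one]
  intro g hg
  have h : ∀ x, g • x = x := fun x => mapP_injective i (by rw [← map_smul_pt, hg, one_smul])
  exact eq_of_std (by rw [h, one_smul]) (by rw [h, one_smul]) (by rw [h, one_smul])

theorem mapG_eq {i : F →+* K} {g : G2 F} {h : G2 K} (h1 : mapP i (g • (ip : P2 F)) = h • (ip : P2 K))
    (h2 : mapP i (g • fp (0 : F)) = h • fp (0 : K)) (h3 : mapP i (g • fp (1 : F)) = h • fp (1 : K)) : mapG i g = h := by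
  refine eq_of_std ?_ ?_ ?_
  · rw [← h1, ← mapP_ip i, map_smul_pt]
  · rw [← h2, ← map_zero i, ← mapP_fp i, map_smul_pt]
  · rw [← h3, ← map_one i, ← mapP_fp i, map_smul_pt]

theorem mapG_tr (i : F →+* K) (t : F) : mapG i (tr t) = tr (i t) :=
  mapG_eq (by rw [tr_ip, mapP_ip, tr_ip]) (by rw [tr_fp, mapP_fp, tr_fp, map_add, map_zero])
    (by rw [tr_fp, mapP_fp, tr_fp, map_add, map_one])

theorem mapG_di (i : F →+* K) (u : Fˣ) : mapG i (di u) = di (Units.map i.toMonoidHom u) :=
  mapG_eq (by rw [di_ip, mapP_ip, di_ip]) (by simp [di_fp, mapP_fp])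
    (by rw [di_fp, mapP_fp, di_fp, map_mul, map_one]; rfl)

theorem mapG_iv (i : F →+* K) (u : Fˣ) : mapG i (iv u) = iv (Units.map i.toMonoidHom u) :=
  mapG_eq (by rw [iv_ip, mapP_fp, iv_ip, map_zero]) (by rw [iv_fp_zero, mapP_ip, iv_fp_zero])
    (by rw [iv_fp _ one_ne_zero, mapP_fp, iv_fp _ one_ne_zero, map_div₀, map_one]; rfl)

theorem range_of_rational {i : F →+* K} {g : G2 K} (h1 : g • (ip : P2 K) ∈ Set.range (mapP i)) (h2 : g • fp (0 : K) ∈ Set.range (mapP i))
    (h3 : g • fp (1 : K) ∈ Set.range (mapP i)) : g ∈ (mapG i).range := by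
  obtain ⟨x, hx⟩ := h1
  obtain ⟨y, hy⟩ := h2
  obtain ⟨z, hz⟩ := h3
  have hxy : x ≠ y := fun e => ip_ne_fp (0 : K) (MulAction.injective g (hx.symm.trans ((congrArg _ e).trans hy)))
  have hxz : x ≠ z := fun e => ip_ne_fp (1 : K) (MulAction.injective g (hx.symm.trans ((congrArg _ e).trans hz)))
  have hyz : y ≠ z := fun e =>
    zero_ne_one (α := K) (fp_inj (MulAction.injective g (hy.symm.trans ((congrArg _ e).trans hz))))
  obtain ⟨σ, s1, s2, s3⟩ := exists_move_three hxy hxz hyz
  exact ⟨σ⁻¹, mapG_eq (by rw [← s1, inv_smul_smul, hx]) (by rw [← s2, inv_smul_smul, hy])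
    (by rw [← s3, inv_smul_smul, hz])⟩

variable (F)

/-- the image of `SL(2, F)` -/
abbrev psl : Subgroup (G2 F) :=
  (Matrix.ProjGenLinGroup.mk.comp (Matrix.SpecialLinearGroup.toGL (n := Fin 2) (R := F))).range

theorem range_toPGL : (Matrix.ProjectiveSpecialLinearGroup.toPGL (n := Fin 2) (R := F)).range = psl F := by
  ext g
  constructor
  · rintro ⟨x, rfl⟩
    obtain ⟨A, rfl⟩ := QuotientGroup.mk_surjective x
    exact ⟨A, rfl⟩
  · rintro ⟨A, rfl⟩
    exact ⟨QuotientGroup.mk A, rfl⟩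

/-- `PSL(2, F)` as a subgroup of `PGL(2, F)` -/
noncomputable def pslEquiv : Matrix.ProjectiveSpecialLinearGroup (Fin 2) F ≃* psl F :=
  (MonoidHom.ofInjective Matrix.ProjectiveSpecialLinearGroup.toPGL_injective).trans
    (MulEquiv.subgroupCongr (range_toPGL F))

instance psl_normal : (psl F).Normal := by
  refine ⟨fun n hn g => ?_⟩
  obtain ⟨A, rfl⟩ := hn
  cases g using Matrix.ProjGenLinGroup.induction_on with
  | mk B =>
    refine ⟨⟨B.1 * A.1 * (B⁻¹ : GL (Fin 2) F).1, ?_⟩, ?_⟩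
    · rw [det_mul, det_mul, A.2, mul_one, ← det_mul, ← Units.val_mul, mul_inv_cancel, Units.val_one, det_one]
    · show ProjGenLinGroup.mk _ = ProjGenLinGroup.mk B * ProjGenLinGroup.mk _ * (ProjGenLinGroup.mk B)⁻¹
      rw [← map_mul, ← map_inv, ← map_mul]
      congr 1
      exact Units.ext rfl

variable {F}

theorem mk_mem_psl_iff (A : GL (Fin 2) F) : ProjGenLinGroup.mk A ∈ psl F ↔ IsSquare (A.1.det) := by
  constructor
  · rintro ⟨S, hS⟩
    obtain ⟨c, hc⟩ := ProjGenLinGroup.mk_eq_mk_iff.1 hS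
    have e := congrArg (fun M : GL (Fin 2) F => M.1.det) hc
    simp only [SpecialLinearGroup.toGL] at e
    refine ⟨(c : F), ?_⟩
    simp at e
    linear_combination e.symm
  · rintro ⟨r, hr⟩
    have hd := ((Matrix.isUnit_iff_isUnit_det _).1 A.isUnit).ne_zero
    have hr0 : r ≠ 0 := fun e => hd (by rw [hr, e, mul_zero])
    refine ⟨⟨r⁻¹ • A.1, ?_⟩, ?_⟩
    · rw [det_smul, Fintype.card_fin, hr]
      field_simp
    · refine ProjGenLinGroup.mk_eq_mk_iff.2 ⟨Units.mk0 r hr0, Units.ext ?_⟩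
      ext j k
      simp [SpecialLinearGroup.toGL, hr0]
      field_simp

theorem tr_mem_psl (t : F) : tr t ∈ psl F :=
  (mk_mem_psl_iff _).2 (by simp [Matrix.det_fin_two])

theorem di_mem_psl_iff (u : Fˣ) : di u ∈ psl F ↔ IsSquare (u : F) := by
  rw [di, mk_mem_psl_iff]
  simp [Matrix.det_fin_two]

theorem iv_mem_psl_iff (u : Fˣ) : iv u ∈ psl F ↔ IsSquare (-(u : F)) := by
  rw [iv, mk_mem_psl_iff]
  simp [Matrix.det_fin_two]

theorem iv_neg_one_mem_psl : iv (-1 : Fˣ) ∈ psl F := (iv_mem_psl_iff _).2 (by simp)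

theorem low_fp (s z : F) (hz : 1 - s * z ≠ 0) : (iv (-1 : Fˣ) * tr s * iv (-1)) • fp z = fp (z / (1 - s * z)) := by
  rcases eq_or_ne z 0 with rfl | h0
  · rw [mul_smul, mul_smul, iv_fp_zero, tr_ip, iv_ip, zero_div]
  · have hne : (-1 : F) / z + s ≠ 0 := fun h => hz (by
      have := congrArg (· * z) h
      simp only [add_mul, div_mul_cancel₀ _ h0, zero_mul] at this
      linear_combination -this)
    rw [mul_smul, mul_smul, iv_fp _ h0, tr_fp, Units.val_neg, Units.val_one, iv_fp _ hne, Units.val_neg, Units.val_one]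
    congr 1
    rw [div_eq_div_iff hne hz]
    field_simp
    ring

theorem iv_di_mul (a b : Fˣ) : iv a * iv b = di (a * b⁻¹) := by
  refine eq_of_std ?_ ?_ ?_
  · rw [mul_smul, iv_ip, iv_fp_zero, di_ip]
  · rw [mul_smul, iv_fp_zero, iv_ip, di_fp, mul_zero]
  · rw [mul_smul, iv_fp _ one_ne_zero, div_one, iv_fp _ b.ne_zero, di_fp, mul_one, Units.val_mul,
      Units.val_inv_eq_inv_val, div_eq_mul_inv]

theorem low_eq (b : Fˣ) (t : F) :
    iv b * tr t * iv b = iv (-1 : Fˣ) * tr (-(t / (b : F))) * iv (-1) := by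
  have e : iv (-1 : Fˣ) * di (-b)⁻¹ = iv b := by
    refine eq_of_std ?_ ?_ ?_
    · rw [mul_smul, di_ip, iv_ip, iv_ip]
    · rw [mul_smul, di_fp, mul_zero, iv_fp_zero, iv_fp_zero]
    · rw [mul_smul, di_fp, mul_one, iv_fp _ (Units.ne_zero _), iv_fp _ one_ne_zero]
      congr 1
      simp [div_eq_mul_inv]
  have e' : di (-b) * iv (-1 : Fˣ) = iv b := by
    refine eq_of_std ?_ ?_ ?_
    · rw [mul_smul, iv_ip, di_fp, mul_zero, iv_ip]
    · rw [mul_smul, iv_fp_zero, di_ip, iv_fp_zero]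
    · rw [mul_smul, iv_fp _ one_ne_zero, di_fp, iv_fp _ one_ne_zero]
      congr 1
      simp
  calc iv b * tr t * iv b = (iv (-1) * di (-b)⁻¹) * tr t * (di (-b) * iv (-1)) := by rw [e, e']
    _ = iv (-1) * (di (-b)⁻¹ * tr t) * di (-b) * iv (-1) := by simp only [mul_assoc]
    _ = iv (-1) * tr ((((-b)⁻¹ : Fˣ) : F) * t) * (di (-b)⁻¹ * di (-b)) * iv (-1) := by rw [di_tr]; simp only [mul_assoc]
    _ = _ := by
      rw [di_mul, inv_mul_cancel, di_one, mul_one]
      congr 3
      simp [Units.val_inv_eq_inv_val, div_eq_inv_mul]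

theorem weyl_eq (a : F) (ha : a ≠ 0) :
    tr a * (iv (-1 : Fˣ) * tr a⁻¹ * iv (-1)) * tr a = iv (-(Units.mk0 a ha * Units.mk0 a ha)) := by
  refine eq_of_std ?_ ?_ ?_
  · rw [mul_smul, mul_smul, tr_ip, mul_smul, mul_smul, iv_ip, tr_fp, zero_add, iv_fp _ (inv_ne_zero ha), tr_fp,
      iv_ip]
    congr 1
    simp
  · rw [mul_smul, mul_smul, tr_fp, zero_add, mul_smul, mul_smul, iv_fp _ ha, tr_fp]
    simp only [Units.val_neg, Units.val_one]
    rw [show (-1 : F) / a + a⁻¹ = 0 by field_simp; ring, iv_fp_zero, tr_ip, iv_fp_zero]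
  · rw [mul_smul, mul_smul, tr_fp]
    by_cases h : 1 + a = 0
    · rw [h, mul_smul, mul_smul, iv_fp_zero, tr_ip, iv_ip, tr_fp, zero_add, iv_fp _ one_ne_zero]
      congr 1
      have : a = -1 := by linear_combination h
      simp [this]
    · rw [low_fp _ _ (by
          intro e
          rw [sub_eq_zero, ← div_eq_inv_mul, eq_div_iff ha, one_mul] at e
          exact one_ne_zero (α := F) (by linear_combination -e)), tr_fp, iv_fp _ one_ne_zero]
      congr 1
      simp only [Units.val_neg, Units.val_mul, Units.val_mk0]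
      field_simp
      ring

/-- a subgroup with both root groups contains the image of `SL(2)` -/
theorem psl_le {H : Subgroup (G2 F)} (hu : ∀ t : F, tr t ∈ H) (hl : ∀ t : F, iv (-1 : Fˣ) * tr t * iv (-1) ∈ H) :
    psl F ≤ H := by
  have hw : ∀ a : Fˣ, iv (-(a * a)) ∈ H := fun a => by
    have := weyl_eq (a : F) a.ne_zero
    rw [Units.mk0_val] at this
    rw [← this]
    exact mul_mem (mul_mem (hu _) (hl _)) (hu _)
  have hw1 : iv (-1 : Fˣ) ∈ H := by simpa using hw 1
  have hd : ∀ u : Fˣ, IsSquare (u : F) → di u ∈ H := by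
    rintro u ⟨r, hr⟩
    have hr0 : r ≠ 0 := fun e => u.ne_zero (by rw [hr, e, mul_zero])
    have := mul_mem (hw (Units.mk0 r hr0)) hw1
    rwa [iv_di_mul, show -(Units.mk0 r hr0 * Units.mk0 r hr0) * (-1 : Fˣ)⁻¹ = u from Units.ext (by simp [hr])] at this
  have hfix : ∀ g ∈ psl F, g • (ip : P2 F) = ip → g ∈ H := by
    intro g hg hgi
    obtain ⟨t, u, rfl⟩ := exists_of_fix_ip hgi
    exact mul_mem (hu t) (hd u ((di_mem_psl_iff u).1 ((Subgroup.mul_mem_cancel_left _ (tr_mem_psl t)).1 hg)))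
  intro g hg
  obtain h | ⟨s, hs⟩ := point_cases (g • (ip : P2 F))
  · exact hfix g hg h
  · have h2 := hfix (iv (-1 : Fˣ) * tr (-s) * g) (mul_mem (mul_mem iv_neg_one_mem_psl (tr_mem_psl _)) hg)
      (by rw [mul_smul, mul_smul, hs, tr_fp, add_neg_cancel, iv_fp_zero])
    exact (Subgroup.mul_mem_cancel_left _ (mul_mem hw1 (hu _))).1 h2

end CfsgLib.Perm.Dickson
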