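import Cfsg.Agent.Lib.Perm.Dickson.Count
import Cfsg.Agent.Lib.Perm.Dickson.Embed

/-!
# Finite subgroups of PGL(2) with a subfield orbit
-/

set_option autoImplicit false
set_option linter.all false

namespace CfsgLib.Perm.Dickson

variable {F : Type*} [Field F] [Finite F]

theorem card_P2 : Nat.card (P2 F) = Nat.card F + 1 := by
  haveI := Fintype.ofFinite F
  rw [CfsgLib.Classical.card_projLine, Nat.card_eq_fintype_card]

theorem finite_G2 : Finite (G2 F) := by
  haveI := Fintype.ofFinite F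
  exact Quotient.finite _

variable (F) in
theorem card_G2 : Nat.card (G2 F) = Nat.card F * (Nat.card F - 1) * (Nat.card F + 1) := by
  classical
  haveI := Fintype.ofFinite F
  haveI : Finite (P2 F) := Quotient.finite _
  haveI := Fintype.ofFinite (P2 F)
  let b : Fin 3 ↪ P2 F := ⟨![ip, fp (0 : F), fp (1 : F)], by
    intro i j h
    fin_cases i <;> fin_cases j <;>
      first
        | rfl
        | exact absurd h (ip_ne_fp _)
        | exact absurd h (fp_ne_ip _)
        | exact absurd (fp_inj h) zero_ne_one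
        | exact absurd (fp_inj h).symm zero_ne_one⟩
  haveI := CfsgLib.Classical.pgl2_three_transitive (F := F)
  have hbij : Function.Bijective (fun g : G2 F => g • b) := by
    refine ⟨fun g h e => ?_, fun Q => MulAction.exists_smul_eq (G2 F) b Q⟩
    exact eq_of_std (congrArg (fun f : Fin 3 ↪ P2 F => f 0) e) (congrArg (fun f : Fin 3 ↪ P2 F => f 1) e)
      (congrArg (fun f : Fin 3 ↪ P2 F => f 2) e)
  rw [Nat.card_eq_of_bijective _ hbij, Nat.card_eq_fintype_card (α := Fin 3 ↪ P2 F), Fintype.card_embedding_eq,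
    Fintype.card_fin, ← Nat.card_eq_fintype_card, card_P2]
  simp only [Nat.descFactorial]
  rcases Nat.card F with _ | n
  · simp
  · simp only [Nat.add_sub_cancel, show n + 1 + 1 - 2 = n by omega, tsub_zero, mul_one]
    ring

variable (F) in
theorem card_psl : Nat.gcd 2 (Nat.card F - 1) * Nat.card (psl F) = Nat.card F * ((Nat.card F - 1) * (Nat.card F + 1)) := by
  haveI := Fintype.ofFinite F
  rw [← Nat.card_congr (pslEquiv F).toEquiv, Nat.card_eq_fintype_card (α := F)]
  exact CfsgLib.Classical.card_psl2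

variable {K : Type*} [Field K]

/-- conjugate to the group of a subfield -/
def IsSubfieldType (G : Subgroup (G2 K)) : Prop :=
  ∃ (σ : G2 K) (F0 : Subfield K), Finite F0 ∧ 3 ≤ Nat.card F0 ∧
    (conjG σ G = (mapG F0.subtype).range ∨ (Odd (Nat.card F0) ∧ conjG σ G = (psl F0).map (mapG F0.subtype)))

theorem subfield_normal (p : ℕ) [Fact p.Prime] [CharP K p] (H : Subgroup (G2 K)) [Finite H]
    (h0 : fp (0 : K) ∈ MulAction.orbit H (ip : P2 K)) (h1 : (1 : K) ∈ Tset H)
    (hcard : Nat.card (MulAction.orbit H (ip : P2 K)) = 1 + Nat.card (Tset H))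
    (hN : Nat.card H = Nat.card (Tset H) * Nat.card (Lset H) * (1 + Nat.card (Tset H)))
    (hc : Nat.card (Lset H) = Nat.card (Tset H) - 1 ∨ 2 * Nat.card (Lset H) = Nat.card (Tset H) - 1)
    (h3 : 3 ≤ Nat.card (Tset H)) :
    ∃ F0 : Subfield K, Finite F0 ∧ 3 ≤ Nat.card F0 ∧
      (H = (mapG F0.subtype).range ∨ (Odd (Nat.card F0) ∧ H = (psl F0).map (mapG F0.subtype))) := by
  classical
  haveI := finite_Tset H
  set T := Tset H with hT
  have hfp : ∀ t ∈ T, fp t ∈ MulAction.orbit H (ip : P2 K) := by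
    intro t ht
    obtain ⟨g, hg⟩ := h0
    refine ⟨⟨tr t, ht⟩ * g, ?_⟩
    show (((⟨tr t, ht⟩ : H) * g) • (ip : P2 K)) = _
    rw [mul_smul, show g • (ip : P2 K) = fp (0 : K) from hg]
    show tr t • fp (0 : K) = _
    rw [tr_fp, zero_add]
  have horb : MulAction.orbit H (ip : P2 K) = insert ip (fp '' (T : Set K)) := by
    refine (Set.eq_of_subset_of_ncard_le ?_ ?_ ?_).symm
    · rintro y (rfl | ⟨t, ht, rfl⟩)
      · exact MulAction.mem_orbit_self _
      · exact hfp t ht
    · rw [← Nat.card_coe_set_eq, hcard, Set.ncard_insert_of_notMem (by rintro ⟨t, -, e⟩; exact fp_ne_ip t e)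
        ((Set.toFinite (T : Set K)).image fp), Set.ncard_image_of_injective _ (fun a b e => fp_inj e),
        ← Nat.card_coe_set_eq, add_comm]
      rfl
    · exact Set.finite_coe_iff.1 (Nat.finite_of_card_ne_zero (by omega))
  have hmemT : ∀ {z : K}, fp z ∈ MulAction.orbit H (ip : P2 K) → z ∈ T := by
    intro z hz
    rw [horb] at hz
    rcases hz with h | ⟨t, ht, e⟩
    · exact absurd h (fp_ne_ip z)
    · rwa [← fp_inj e]
  have hmove : ∀ {g : G2 K}, g ∈ H → ∀ y, y ∈ MulAction.orbit H (ip : P2 K) → g • y ∈ MulAction.orbit H (ip : P2 K) := by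
    intro g hg y hy
    exact MulAction.mem_orbit_of_mem_orbit (⟨g, hg⟩ : H) hy
  -- the swap
  obtain ⟨b, hb⟩ : ∃ b : Kˣ, iv b ∈ H := by
    obtain ⟨g, hg⟩ := h0
    have hy : g⁻¹ • (ip : P2 K) ∈ MulAction.orbit H (ip : P2 K) := MulAction.mem_orbit _ _
    rw [horb] at hy
    rcases hy with h | ⟨r, hr, e⟩
    · exfalso
      refine ip_ne_fp (0 : K) ?_
      have := congrArg (fun w => g • w) h
      simp only [smul_inv_smul] at this
      exact this.trans hg
    · have e' : g • fp r = (ip : P2 K) := by rw [e, smul_inv_smul]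
      obtain ⟨b, hb⟩ := eq_iv_of_swap (g := (g : G2 K) * tr r)
        (by rw [mul_smul, tr_ip]; exact hg) (by rw [mul_smul, tr_fp, zero_add]; exact e')
      exact ⟨b, hb ▸ mul_mem g.2 hr⟩
  have hbT : (b : K) ∈ T := by
    have := hmove hb _ (hfp 1 h1)
    rw [iv_fp _ one_ne_zero, div_one] at this
    exact hmemT this
  have hJ : ∀ z ∈ T, z ≠ 0 → (b : K) / z ∈ T := fun z hz hz0 => by
    have := hmove hb _ (hfp z hz)
    rw [iv_fp _ hz0] at this
    exact hmemT this
  have hsq : ∀ x ∈ T, ∀ y ∈ T, y ≠ 0 → x ^ 2 / y ∈ T := by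
    intro x hx y hy hy0
    by_cases hx0 : x = 0
    · simp [hx0, T.zero_mem]
    by_cases hxy : y - x = 0
    · rw [sub_eq_zero] at hxy
      subst hxy
      rwa [pow_two, mul_div_assoc, div_self hy0, mul_one]
    have hne : (b : K) / x + (b : K) / (y - x) ≠ 0 := by
      rw [div_add_div _ _ hx0 hxy]
      refine div_ne_zero ?_ (mul_ne_zero hx0 hxy)
      rw [show (b : K) * (y - x) + x * b = b * y by ring]
      exact mul_ne_zero b.ne_zero hy0
    have := T.sub_mem hx (hJ _ (T.add_mem (hJ x hx hx0) (hJ _ (T.sub_mem hy hx) hxy)) hne)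
    convert this using 1
    field_simp
    rw [show y - x + x = y by ring]
    field_simp
    ring
  have hinv : ∀ z ∈ T, z⁻¹ ∈ T := by
    intro z hz
    by_cases hz0 : z = 0
    · simp [hz0, T.zero_mem]
    · simpa using hsq 1 h1 z hz hz0
  have hsqz : ∀ x ∈ T, ∀ z ∈ T, x ^ 2 * z ∈ T := by
    intro x hx z hz
    by_cases hz0 : z = 0
    · simp [hz0, T.zero_mem]
    · simpa [div_inv_eq_mul] using hsq x hx _ (hinv z hz) (inv_ne_zero hz0)
  have hmul : ∀ x ∈ T, ∀ y ∈ T, x * y ∈ T := by
    intro x hx y hy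
    by_cases hp : p = 2
    · have hc1 : Nat.card (Lset H) = Nat.card T - 1 := hc.resolve_right fun h => by
        obtain ⟨k, hk⟩ := tset_pow H p
        rw [← hT, hp] at hk
        rcases k with _ | k
        · rw [pow_zero] at hk; omega
        · rw [pow_succ] at hk; omega
      by_cases hx0 : x = 0
      · simp [hx0, T.zero_mem]
      exact mul_mem_Tset H ((lset_eq H h1 hc1 (u := Units.mk0 x hx0)).2 hx) hy
    · have h2 : 2 * (x * y) ∈ T := by
        have := T.sub_mem (T.sub_mem (hsqz _ (T.add_mem hx hy) 1 h1) (hsqz x hx 1 h1)) (hsqz y hy 1 h1)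
        convert this using 1
        ring
      have hodd : Odd p := (Fact.out : p.Prime).odd_of_ne_two hp
      obtain ⟨j, hj⟩ := hodd
      have := T.nsmul_mem h2 (j + 1)
      convert this using 1
      have e : ((p : ℕ) : K) = 0 := CharP.cast_eq_zero K p
      rw [hj] at e
      push_cast at e
      rw [nsmul_eq_mul]
      push_cast
      linear_combination (-(x * y)) * e
  let F0 : Subfield K :=
    { carrier := T
      mul_mem' := fun {x y} hx hy => hmul x hx y hy
      one_mem' := h1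
      add_mem' := fun {x y} hx hy => T.add_mem hx hy
      zero_mem' := T.zero_mem
      neg_mem' := fun {x} hx => T.neg_mem hx
      inv_mem' := hinv }
  have hF : Finite F0 := inferInstanceAs (Finite T)
  have hcF : Nat.card F0 = Nat.card T := rfl
  refine ⟨F0, hF, hcF ▸ h3, ?_⟩
  have htr : ∀ t ∈ T, tr t ∈ (mapG F0.subtype).range := fun t ht => ⟨tr ⟨t, ht⟩, mapG_tr _ _⟩
  have hivb : iv b ∈ (mapG F0.subtype).range :=
    ⟨iv (Units.mk0 (⟨_, hbT⟩ : F0) (fun e => b.ne_zero (congrArg Subtype.val e))),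
      (mapG_iv _ _).trans (congrArg iv (Units.ext rfl))⟩
  have hfix : ∀ g ∈ H, g • (ip : P2 K) = ip → g ∈ (mapG F0.subtype).range := by
    intro g hg hgi
    obtain ⟨t, l, rfl⟩ := exists_of_fix_ip hgi
    have ht : t ∈ T := by
      have := hmove hg _ h0
      rw [trdi_fp, mul_zero, zero_add] at this
      exact hmemT this
    have hl : (l : K) ∈ T := by
      have := mul_mem_Tset H (u := l) ⟨t, hg⟩ h1
      rwa [mul_one] at this
    refine mul_mem (htr t ht) ⟨di (Units.mk0 (⟨_, hl⟩ : F0) (fun e => l.ne_zero (congrArg Subtype.val e))), ?_⟩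
    exact (mapG_di _ _).trans (congrArg di (Units.ext rfl))
  have hle : H ≤ (mapG F0.subtype).range := by
    intro g hg
    by_cases hgi : g • (ip : P2 K) = ip
    · exact hfix g hg hgi
    obtain ⟨s, hs⟩ := (point_cases _).resolve_left hgi
    have hsT : s ∈ T := hmemT (hs ▸ hmove hg _ (MulAction.mem_orbit_self _))
    have h2 := hfix (iv b * tr (-s) * g) (mul_mem (mul_mem hb (T.neg_mem hsT)) hg)
      (by rw [mul_smul, mul_smul, hs, tr_fp, add_neg_cancel, iv_fp_zero])
    exact (Subgroup.mul_mem_cancel_left _ (mul_mem hivb (htr _ (T.neg_mem hsT)))).1 h2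
  have hge : (psl F0).map (mapG F0.subtype) ≤ H := by
    rw [Subgroup.map_le_iff_le_comap]
    refine psl_le (fun t => ?_) (fun t => ?_)
    · rw [Subgroup.mem_comap, mapG_tr]
      exact t.2
    · rw [Subgroup.mem_comap, map_mul, map_mul, mapG_iv, mapG_tr, show Units.map F0.subtype.toMonoidHom (-1) = -1 from
        Units.ext (by simp)]
      have hs : -((t : K) * b) ∈ T := T.neg_mem (hmul _ t.2 _ hbT)
      have := mul_mem (mul_mem hb hs) hb
      rw [low_eq] at this
      convert this using 4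
      show (t : K) = _
      field_simp
  haveI := hF
  haveI : Finite (G2 F0) := finite_G2
  have hcr : Nat.card (mapG F0.subtype).range = Nat.card T * (Nat.card T - 1) * (Nat.card T + 1) := by
    rw [← Nat.card_congr (MonoidHom.ofInjective (mapG_injective _)).toEquiv, card_G2, hcF]
  rcases hc with hc | hc
  · left
    haveI : Finite (mapG F0.subtype).range := Finite.of_equiv _ (MonoidHom.ofInjective (mapG_injective _)).toEquiv
    refine Subgroup.eq_of_le_of_card_ge hle (le_of_eq ?_)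
    rw [hcr, hN, hc]; ring
  · right
    have hodd : Odd (Nat.card F0) := by
      rw [hcF]; exact ⟨Nat.card (Lset H), by omega⟩
    refine ⟨hodd, (Subgroup.eq_of_le_of_card_ge hge (le_of_eq ?_)).symm⟩
    rw [Nat.card_congr ((psl F0).equivMapOfInjective _ (mapG_injective _)).symm.toEquiv]
    have hg2 := card_psl F0
    rw [hcF] at hg2
    have hgcd : Nat.gcd 2 (Nat.card T - 1) = 2 := Nat.gcd_eq_left ⟨Nat.card (Lset H), hc.symm⟩
    rw [hgcd, ← hc] at hg2
    apply Nat.eq_of_mul_eq_mul_left (by norm_num : 0 < 2)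
    rw [hN, hg2]
    ring

theorem subfield_case (p : ℕ) [Fact p.Prime] [CharP K p] (G : Subgroup (G2 K)) [Finite G] (x : P2 K) {u c : ℕ}
    (hu : uC G x = u) (hs : sC G x = u * c) (hm : Nat.card (MulAction.orbit G x) = 1 + u)
    (hN : Nat.card G = u * c * (1 + u)) (hc : c = u - 1 ∨ 2 * c = u - 1) (h3 : 3 ≤ u) :
    IsSubfieldType G := by
  classical
  obtain ⟨σ0, hσ0⟩ := exists_move_ip x
  haveI := finite_conjG G σ0
  haveI := finite_Tset (conjG σ0 G)
  have hT0 : Nat.card (Tset (conjG σ0 G)) = u := by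
    rw [← hu, ← uC_conj G σ0, hσ0]; exact (card_single_ip _).symm
  haveI : Nontrivial (Tset (conjG σ0 G)) := Finite.one_lt_card_iff_nontrivial.1 (by omega)
  obtain ⟨⟨t0, ht0⟩, ht0'⟩ := exists_ne (0 : Tset (conjG σ0 G))
  have ht00 : t0 ≠ 0 := fun e => ht0' (Subtype.ext e)
  have horb : Nat.card (MulAction.orbit (conjG σ0 G) (ip : P2 K)) = 1 + u := by
    rw [← hσ0, card_orbit_conj, hm]
  obtain ⟨y, hy, hyne⟩ : ∃ y ∈ MulAction.orbit (conjG σ0 G) (ip : P2 K), y ≠ ip := by
    by_contra hcon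
    push Not at hcon
    have : MulAction.orbit (conjG σ0 G) (ip : P2 K) = {ip} :=
      Set.Subset.antisymm hcon (Set.singleton_subset_iff.2 (MulAction.mem_orbit_self _))
    rw [this, Nat.card_coe_set_eq, Set.ncard_singleton] at horb
    omega
  obtain ⟨z0, rfl⟩ := (point_cases y).resolve_left hyne
  set τ : G2 K := di (Units.mk0 t0 ht00)⁻¹ * tr (-z0) with hτ
  set σ : G2 K := τ * σ0 with hσ
  haveI := finite_conjG G σ
  have hσx : σ • x = (ip : P2 K) := by rw [hσ, mul_smul, hσ0, hτ, mul_smul, tr_ip, di_ip]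
  have h0 : fp (0 : K) ∈ MulAction.orbit (conjG σ G) (ip : P2 K) := by
    obtain ⟨h, hh⟩ := hy
    obtain ⟨g, rfl⟩ := (conjMap G σ0).surjective h
    refine ⟨conjMap G σ g, ?_⟩
    show conjMap G σ g • (ip : P2 K) = fp (0 : K)
    rw [← hσx, conjMap_smul, hσ, mul_smul, ← conjMap_smul, hσ0]
    rw [show conjMap G σ0 g • (ip : P2 K) = fp z0 from hh, hτ, mul_smul, tr_fp, di_fp, add_neg_cancel, mul_zero]
  have h1 : (1 : K) ∈ Tset (conjG σ G) := by
    rw [mem_Tset, mem_conjG]
    have e : τ⁻¹ * tr (1 : K) * τ = tr t0 := by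
      rw [hτ, mul_inv_rev, di_inv, inv_inv, tr_inv, neg_neg]
      calc tr z0 * di (Units.mk0 t0 ht00) * tr 1 * (di (Units.mk0 t0 ht00)⁻¹ * tr (-z0))
          = tr z0 * (di (Units.mk0 t0 ht00) * tr 1) * di (Units.mk0 t0 ht00)⁻¹ * tr (-z0) := by simp only [mul_assoc]
        _ = tr z0 * tr t0 * (di (Units.mk0 t0 ht00) * di (Units.mk0 t0 ht00)⁻¹) * tr (-z0) := by
            rw [di_tr, Units.val_mk0, mul_one]; simp only [mul_assoc]
        _ = _ := by rw [di_mul, mul_inv_cancel, di_one, mul_one, tr_mul, tr_mul]; congr 1; ring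
    have := ht0
    rw [mem_Tset, mem_conjG] at this
    rw [hσ, mul_inv_rev, show σ0⁻¹ * τ⁻¹ * tr (1 : K) * (τ * σ0) = σ0⁻¹ * (τ⁻¹ * tr (1 : K) * τ) * σ0 by
      simp only [mul_assoc], e]
    exact this
  have hT : Nat.card (Tset (conjG σ G)) = u := by
    rw [← hu, ← uC_conj G σ, hσx]; exact (card_single_ip _).symm
  have hL : Nat.card (Lset (conjG σ G)) = c := by
    have := card_stab_ip (conjG σ G)
    rw [hT] at this
    have e : sC (conjG σ G) ip = u * c := by rw [← hσx, sC_conj, hs]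
    rw [sC] at e
    rw [e] at this
    exact (Nat.eq_of_mul_eq_mul_left (by omega) this).symm
  obtain ⟨F0, hF, hcard, hor⟩ := subfield_normal p (conjG σ G) h0 h1
    (by rw [← hσx, card_orbit_conj, hm, hT]) (by rw [card_conjG, hN, hT, hL]) (by rw [hT, hL]; exact hc)
    (by rw [hT]; exact h3)
  exact ⟨σ, F0, hF, hcard, hor⟩

end CfsgLib.Perm.Dickson
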