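import Cfsg.Agent.Lib.Perm.Dickson.KleinConj

/-!
# Subgroups A4 and S4, counting Klein four groups
-/

set_option autoImplicit false
set_option linter.all false

namespace CfsgLib.Perm.Dickson

open Matrix

variable {F : Type*} [Field F]

theorem conjG_mul (a b : G2 F) (H : Subgroup (G2 F)) : conjG (a * b) H = conjG a (conjG b H) := by
  ext g
  simp only [mem_conjG]
  rw [_root_.mul_inv_rev]
  simp [mul_assoc]

theorem conjG_one (H : Subgroup (G2 F)) : conjG (1 : G2 F) H = H := by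
  ext g; simp [mem_conjG]

theorem conjG_fix_iff {σ : G2 F} {H : Subgroup (G2 F)} : conjG σ H = H ↔ σ ∈ Subgroup.normalizer (H : Set (G2 F)) := by
  rw [Subgroup.mem_normalizer_iff]
  constructor
  · intro h g
    have := SetLike.ext_iff.1 h (σ * g * σ⁻¹)
    rw [mem_conjG] at this
    simpa [mul_assoc] using this
  · intro h
    ext g
    rw [mem_conjG]
    have := h (σ⁻¹ * g * σ)
    simpa [mul_assoc] using this

variable [Finite F]

theorem two_is_square_iff : IsSquare (2 : F) ↔ Nat.card F % 8 ≠ 3 ∧ Nat.card F % 8 ≠ 5 := by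
  haveI := Fintype.ofFinite F
  rw [Nat.card_eq_fintype_card]
  exact FiniteField.isSquare_two_iff

theorem IsKleinFour.exp {W : Subgroup (G2 F)} (h : IsKleinFour W) : ∀ g ∈ W, g * g = 1 := by
  intro g hg
  haveI := h
  have := Monoid.pow_exponent_eq_one (⟨g, hg⟩ : W)
  rw [IsKleinFour.exponent_two, pow_two] at this
  exact congrArg Subtype.val this

/-- the Klein four groups inside `PSL(2)` -/
def kleinSet (F : Type*) [Field F] : Set (Subgroup (G2 F)) :=
  {W | W ≤ psl F ∧ Nat.card W = 4 ∧ ∀ g ∈ W, g * g = 1}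

theorem QPar.V_mem_kleinSet (Q : QPar F) : Q.V ∈ kleinSet F := by
  refine ⟨Q.V_le_psl, Q.card_V, ?_⟩
  rintro g (rfl | rfl | rfl | rfl)
  · exact one_mul _
  · exact QPar.II
  · exact Q.JJ
  · exact Q.KK

theorem conjG_mem_kleinSet {σ : G2 F} {W : Subgroup (G2 F)} (h : W ∈ kleinSet F) : conjG σ W ∈ kleinSet F := by
  refine ⟨?_, by rw [card_conjG]; exact h.2.1, ?_⟩
  · rw [← conjG_psl σ]; exact Subgroup.map_mono h.1
  · intro g hg
    rw [mem_conjG] at hg
    have := h.2.2 _ hg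
    rwa [show σ⁻¹ * g * σ * (σ⁻¹ * g * σ) = σ⁻¹ * (g * g) * σ⁻¹⁻¹ by group, conj_eq_one_iff] at this

theorem card_kleinSet (Q : QPar F) : 24 * Nat.card (kleinSet F) = Nat.card (G2 F) := by
  haveI := finite_G2 (F := F)
  let f : G2 F ⧸ Q.N → kleinSet F := fun x => ⟨conjG x.out Q.V, conjG_mem_kleinSet Q.V_mem_kleinSet⟩
  have hf : Function.Bijective f := by
    constructor
    · intro x y e
      have e' := congrArg Subtype.val e
      rw [← QuotientGroup.out_eq' x, ← QuotientGroup.out_eq' y, QuotientGroup.eq]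
      refine (conjG_fix_iff).1 ?_
      rw [conjG_mul, show conjG y.out Q.V = conjG x.out Q.V from e'.symm, ← conjG_mul, inv_mul_cancel, conjG_one]
    · rintro ⟨W, hW⟩
      obtain ⟨σ, hσ⟩ := Q.exists_conj_V hW.1 hW.2.1 hW.2.2
      refine ⟨QuotientGroup.mk σ⁻¹, Subtype.ext ?_⟩
      obtain ⟨n, hn⟩ := QuotientGroup.mk_out_eq_mul Q.N σ⁻¹
      show conjG _ Q.V = W
      rw [hn, conjG_mul, conjG_fix_iff.2 n.2, ← hσ, ← conjG_mul, inv_mul_cancel, conjG_one]
  rw [← Nat.card_congr (Equiv.ofBijective f hf), ← Q.N.card_mul_index, Q.card_N]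
  rfl

theorem exists_s4 (h : IsSquare (2 : F)) (ho : Odd (Nat.card F)) :
    ∃ H : Subgroup (S2P F), Nonempty (H ≃* Equiv.Perm (Fin 4)) := by
  obtain ⟨Q⟩ := exists_qpar (two_ne_zero_of_odd ho)
  exact ⟨down Q.N, ⟨(downEquiv (Q.N_inf_psl_of_sq h)).trans Q.N_s4.some⟩⟩

theorem exists_a4_odd (ho : Odd (Nat.card F)) :
    ∃ H : Subgroup (S2P F), Nonempty (H ≃* alternatingGroup (Fin 4)) := by
  obtain ⟨Q⟩ := exists_qpar (two_ne_zero_of_odd ho)
  by_cases h : IsSquare (2 : F)
  · obtain ⟨e⟩ := Q.N_s4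
    let ι : alternatingGroup (Fin 4) →* G2 F := Q.N.subtype.comp (e.symm.toMonoidHom.comp (alternatingGroup (Fin 4)).subtype)
    have hι : Function.Injective ι := Q.N.subtype_injective.comp (e.symm.injective.comp Subtype.val_injective)
    have hle : ι.range ≤ psl F := by
      rintro _ ⟨x, rfl⟩
      exact Q.N_inf_psl_of_sq h (e.symm (x : Equiv.Perm (Fin 4))).2
    exact ⟨down ι.range, ⟨(downEquiv hle).trans (MonoidHom.ofInjective hι).symm⟩⟩
  · exact ⟨down (Q.N ⊓ psl F), ⟨(downEquiv inf_le_right).trans (Q.N_psl_a4 h).some⟩⟩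

theorem exists_a4_even (p : ℕ) [Fact p.Prime] [CharP F p] {m : ℕ} (hm : 1 ≤ m) (h4 : (4 : ℕ) ^ m = Nat.card F) :
    ∃ H : Subgroup (S2P F), Nonempty (H ≃* alternatingGroup (Fin 4)) := by
  obtain ⟨F1, ⟨e⟩⟩ := exists_subfield_ringEquiv (F := F) (K := GaloisField 2 2) p hm
    (by rw [GaloisField.card 2 2 two_ne_zero]; exact h4)
  have hc : Nat.card F1 = 4 := by rw [Nat.card_congr e.toEquiv, GaloisField.card 2 2 two_ne_zero]; rfl
  haveI : Finite (G2 F1) := finite_G2
  set A := (bor (ip : P2 F1)).map (mapG F1.subtype) with hA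
  haveI := finite_G2 (F := F)
  have hcA : Nat.card A = 12 := by
    rw [hA, ← Nat.card_congr ((bor (ip : P2 F1)).equivMapOfInjective _ (mapG_injective F1.subtype)).toEquiv, card_bor, hc]
  have hle : A ≤ psl F := by
    rw [psl_eq_top (by rw [← h4]; exact (Nat.even_pow.2 ⟨⟨2, rfl⟩, by omega⟩))]
    exact le_top
  obtain ⟨ω, hω⟩ : ∃ ω : F1ˣ, orderOf ω = 3 := by
    haveI : Fact (Nat.Prime 3) := ⟨Nat.prime_three⟩
    exact exists_prime_orderOf_dvd_card' 3 (by rw [Nat.card_units, hc])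
  have hmem : ∀ g : G2 F1, g • (ip : P2 F1) = ip → mapG F1.subtype g ∈ A := fun g hg => ⟨g, hg, rfl⟩
  set d : A := ⟨_, hmem (di ω) (di_ip ω)⟩
  set t : A := ⟨_, hmem (tr 1) (tr_ip 1)⟩
  have hd : orderOf d = 3 := by
    rw [← Subgroup.orderOf_coe]
    show orderOf (mapG F1.subtype (di ω)) = 3
    rw [orderOf_injective _ (mapG_injective _)]
    exact (orderOf_injective diHom di_injective ω).trans hω
  have hT : Nat.card (Subgroup.zpowers d) = 3 := by rw [Nat.card_zpowers, hd]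
  refine ⟨down A, ⟨(downEquiv hle).trans (mulEquiv_a4 hcA hT fun hn => ?_).some⟩⟩
  obtain ⟨k, hk⟩ := hn.conj_mem d (Subgroup.mem_zpowers d) t
  have e1 := congrArg Subtype.val hk
  simp only [SubgroupClass.coe_zpow, Subgroup.coe_mul, Subgroup.coe_inv, d, t] at e1
  rw [← map_zpow, ← map_inv, ← map_mul, ← map_mul] at e1
  have e2 := mapG_injective _ e1
  have e3 := congrArg (fun g => g • fp (0 : F1)) e2
  simp only [← diHom_apply, ← map_zpow] at e3
  rw [diHom_apply, di_fp, mul_zero, tr_inv, mul_smul, mul_smul, tr_fp, zero_add, diHom_apply, di_fp, tr_fp] at e3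
  have e4 := fp_inj e3
  have : ω = 1 := Units.ext (by simp only [Units.val_one]; linear_combination e4)
  rw [this, orderOf_one] at hω
  omega

theorem not_a4_even (p : ℕ) [Fact p.Prime] [CharP F p] (h2 : p = 2) {n : ℕ} (hn : Nat.card F = p ^ n) (hodd : Odd n)
    (H : Subgroup (G2 F)) (e : H ≃* alternatingGroup (Fin 4)) : False := by
  haveI := finite_G2 (F := F)
  have hc : Nat.card H = 12 := by
    rw [Nat.card_congr e.toEquiv, nat_card_alternatingGroup, Nat.card_fin]; rfl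
  haveI : Fact (Nat.Prime 3) := ⟨Nat.prime_three⟩
  obtain ⟨g, hg⟩ := exists_prime_orderOf_dvd_card' (G := H) 3 (by rw [hc]; norm_num)
  rw [← Subgroup.orderOf_coe] at hg
  obtain ⟨v, hv⟩ := exists_prime_orderOf_dvd_card' (G := H) 2 (by rw [hc]; norm_num)
  rw [← Subgroup.orderOf_coe] at hv
  have hq1 : ∀ j : ℕ, 2 ^ (2 * j + 1) % 3 = 2 := by
    intro j; rw [pow_succ, pow_mul, Nat.mul_mod, Nat.pow_mod]; norm_num
  obtain ⟨j, rfl⟩ := hodd
  have hq : Nat.card F % 3 = 2 := by rw [hn, h2]; exact hq1 j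
  have hev : Even (Nat.card F) := by rw [hn, h2]; exact Nat.even_pow.2 ⟨even_two, by omega⟩
  have hqpos := card_pos_lt (F := F)
  have tor2 : ∀ {a b : P2 (Kc F)}, GoodPair a b → ¬ 2 ∣ Nat.card (pairFix a b) := fun hg' => by
    have := not_p_dvd_torus p hg'
    rwa [h2] at this
  cases classify_finite p H with
  | borel x hx =>
    obtain ⟨a, b, hgood, hmem⟩ := exists_torus p (g := (g : G2 F)) (fun e => by rw [e, orderOf_one] at hg; omega)
      (by rw [hg, h2]; norm_num)
    have hd : orderOf (g : G2 F) ∣ Nat.card (pairFix a b) := by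
      have := orderOf_dvd_natCard (⟨(g : G2 F), hmem⟩ : pairFix a b)
      rwa [Subgroup.orderOf_mk] at this
    rw [hg] at hd
    rcases card_pairFix hgood with ⟨-, hc'⟩ | ⟨⟨ha, hb⟩, -⟩
    · rw [hc'] at hd
      omega
    · exact free_of_pair hgood.1 ha hb hmem (fun e => by rw [e, orderOf_one] at hg; omega) x (hx _ g.2)
  | cyclic a b hg' hle hne =>
    have := Subgroup.card_dvd_of_le hle
    rw [hc] at this
    exact tor2 hg' (dvd_trans (by norm_num) this)
  | dihedral a b hg' hle hn' hC =>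
    obtain ⟨hcard, -⟩ := dihedral_of_le hg'.1 (isCyclic_pairFix hg'.1) hle hn'
    have h6 : Nat.card (H ⊓ pairFix a b : Subgroup (G2 F)) = 6 := by omega
    have hd := Subgroup.card_dvd_of_le (inf_le_right : H ⊓ pairFix a b ≤ pairFix a b)
    rw [h6] at hd
    exact tor2 hg' (dvd_trans (by norm_num) hd)
  | a4 hN h h3 _ => exact h h2
  | s4 hN h h3 _ => exact h h2
  | a5 hN h h5 _ => exact h h2
  | subfield σ F1 hc3 h =>
    have h' : conjG σ H = pglSub F1 := h.resolve_right fun ⟨ho, _⟩ => by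
      obtain ⟨m, hm, hm'⟩ := exists_card_pow F1
      rw [← hm'] at hev
      exact Nat.not_even_iff_odd.2 ho ((Nat.even_pow.1 hev).1)
    have := card_pglSub F1
    rw [← h', card_conjG, hc] at this
    have h3' : 3 * 2 * 4 ≤ Nat.card F1 * (Nat.card F1 - 1) * (Nat.card F1 + 1) :=
      Nat.mul_le_mul (Nat.mul_le_mul hc3 (by omega)) (by omega)
    omega

end CfsgLib.Perm.Dickson
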