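import Cfsg.Agent.Lib.Perm.Dickson.SubfieldMax
import Cfsg.Agent.Lib.Perm.Dickson.KleinCount
import Cfsg.Agent.Lib.Perm.Dickson.Icosa

/-!
# Overgroups of the exceptional subgroups A₄, S₄, A₅ in PSL(2, q)
-/

set_option autoImplicit false
set_option linter.all false

namespace CfsgLib.Perm.Dickson

open Matrix

variable {F : Type*} [Field F] [Finite F]
variable (p : ℕ) [Fact p.Prime] [CharP F p]
include p

/-- in a point stabiliser commutators have order dividing p -/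
theorem fixed_comm_pow {H : Subgroup (G2 F)} {x : P2 F} (hx : ∀ g ∈ H, g • x = x) {g h : G2 F}
    (hg : g ∈ H) (hh : h ∈ H) : (g * h * g⁻¹ * h⁻¹) ^ p = 1 := by
  obtain ⟨σ, hσ⟩ := exists_move_ip x
  have hm : ∀ k ∈ H, MulAut.conj σ k ∈ MulAction.stabilizer (G2 F) (ip : P2 F) := fun k hk => by
    rw [MulAction.mem_stabilizer_iff, MulAut.conj_apply, ← hσ, mul_smul, inv_smul_smul, mul_smul, hx k hk]
  set a : MulAction.stabilizer (G2 F) (ip : P2 F) := ⟨_, hm g hg⟩ with ha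
  set b : MulAction.stabilizer (G2 F) (ip : P2 F) := ⟨_, hm h hh⟩ with hb
  obtain ⟨t, ht⟩ := eq_tr_of_chi (g := a * b * a⁻¹ * b⁻¹) (by
    rw [map_mul, map_mul, map_mul, map_inv, map_inv, mul_comm (chi a) (chi b), mul_inv_cancel_right, mul_inv_cancel])
  apply (MulAut.conj σ).injective
  rw [map_one, map_pow, map_mul, map_mul, map_mul, map_inv, map_inv]
  change (((a * b * a⁻¹ * b⁻¹ : MulAction.stabilizer (G2 F) (ip : P2 F))) : G2 F) ^ p = 1
  rw [ht, tr_pow, CharP.cast_eq_zero, zero_mul, tr_zero]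

omit p [Fact p.Prime] [CharP F p] in
/-- squares in a dihedral type group commute -/
theorem pairSet_squares_comm {a b : P2 (Kc F)} (hab : a ≠ b) {g h : G2 F} (hg : g ∈ pairSet a b)
    (hh : h ∈ pairSet a b) : g * g * (h * h) = h * h * (g * g) := by
  have hsq : ∀ k ∈ pairSet a b, k * k ∈ pairFix a b := fun k hk => by
    rcases mem_pairSet.1 hk with ⟨e1, e2⟩ | ⟨e1, e2⟩ <;>
      exact mem_pairFix.2 ⟨by rw [map_mul, mul_smul, e1]; assumption, by rw [map_mul, mul_smul, e2]; assumption⟩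
  letI := (isCyclic_pairFix (F := F) hab).commGroup
  exact congrArg Subtype.val (mul_comm (⟨_, hsq g hg⟩ : pairFix a b) ⟨_, hsq h hh⟩)

/-- an abstract group with an involutory commutator and non-commuting squares -/
def IsExc (X : Type*) [Group X] : Prop :=
  (∃ g h : X, g * h * g⁻¹ * h⁻¹ ≠ 1 ∧ (g * h * g⁻¹ * h⁻¹) * (g * h * g⁻¹ * h⁻¹) = 1) ∧
    ∃ g h : X, g * g * (h * h) ≠ h * h * (g * g)

omit p [Fact p.Prime] [CharP F p] in
theorem isExc_a4 : IsExc (alternatingGroup (Fin 4)) := by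
  refine ⟨⟨⟨Equiv.swap 0 1 * Equiv.swap 1 2, ?_⟩, ⟨Equiv.swap 0 1 * Equiv.swap 2 3, ?_⟩, ?_, ?_⟩,
    ⟨⟨Equiv.swap 0 1 * Equiv.swap 1 2, ?_⟩, ⟨Equiv.swap 0 1 * Equiv.swap 1 3, ?_⟩, ?_⟩⟩
  all_goals first
    | exact Equiv.Perm.mem_alternatingGroup.2 (by decide +kernel)
    | decide +kernel

omit p [Fact p.Prime] [CharP F p] in
theorem isExc_a5 : IsExc (alternatingGroup (Fin 5)) := by
  refine ⟨⟨⟨Equiv.swap 0 1 * Equiv.swap 1 2, ?_⟩, ⟨Equiv.swap 0 1 * Equiv.swap 2 3, ?_⟩, ?_, ?_⟩,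
    ⟨⟨Equiv.swap 0 1 * Equiv.swap 1 2, ?_⟩, ⟨Equiv.swap 0 1 * Equiv.swap 1 3, ?_⟩, ?_⟩⟩
  all_goals first
    | exact Equiv.Perm.mem_alternatingGroup.2 (by decide +kernel)
    | decide +kernel

omit p [Fact p.Prime] [CharP F p] in
theorem isExc_s4 : IsExc (Equiv.Perm (Fin 4)) := by
  refine ⟨⟨Equiv.swap 0 1 * Equiv.swap 1 2, Equiv.swap 0 1 * Equiv.swap 2 3, ?_, ?_⟩,
    ⟨Equiv.swap 0 1 * Equiv.swap 1 2, Equiv.swap 0 1 * Equiv.swap 1 3, ?_⟩⟩ <;> decide +kernel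

omit p [Fact p.Prime] [CharP F p] in
theorem IsExc.of_equiv {X Y : Type*} [Group X] [Group Y] (e : X ≃* Y) (hY : IsExc Y) : IsExc X := by
  obtain ⟨⟨g, h, h1, h2⟩, g', h', h3⟩ := hY
  refine ⟨⟨e.symm g, e.symm h, ?_, ?_⟩, e.symm g', e.symm h', ?_⟩
  · simpa [← map_inv, ← map_mul] using h1
  · simpa [← map_inv, ← map_mul] using h2
  · simpa [← map_mul] using h3

theorem exc_no_fixed {H : Subgroup (G2 F)} (hX : IsExc H) (h2 : p ≠ 2) (x : P2 F) :
    ¬ ∀ g ∈ H, g • x = x := by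
  intro hx
  obtain ⟨⟨g, h, hne, hsq⟩, -⟩ := hX
  have h1 : orderOf (g * h * g⁻¹ * h⁻¹) ∣ p := by
    refine orderOf_dvd_of_pow_eq_one (Subtype.ext ?_)
    simpa using fixed_comm_pow p hx g.2 h.2
  have h3 : orderOf (g * h * g⁻¹ * h⁻¹) ∣ 2 := orderOf_dvd_of_pow_eq_one (by rw [pow_two, hsq])
  have hco : Nat.gcd p 2 = 1 := (Nat.coprime_primes Fact.out Nat.prime_two).2 h2
  have h5 := Nat.dvd_gcd h1 h3
  rw [hco, Nat.dvd_one, orderOf_eq_one_iff] at h5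
  exact hne h5

omit p [Fact p.Prime] [CharP F p] in
theorem exc_no_pairSet {H : Subgroup (G2 F)} (hX : IsExc H) {a b : P2 (Kc F)} (hg : GoodPair a b) :
    ¬ H ≤ pairSet a b := by
  intro hle
  obtain ⟨-, g, h, hne⟩ := hX
  exact hne (Subtype.ext (pairSet_squares_comm hg.1 (hle g.2) (hle h.2)))

/-- overgroups of exceptional subgroups -/
theorem exc_overgroup {H M : Subgroup (G2 F)} (hX : IsExc H) (h2 : p ≠ 2) (hHM : H ≤ M) (hM : M < psl F) :
    Nat.card M = 12 ∨ Nat.card M = 24 ∨ Nat.card M = 60 ∨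
      ∃ (σ : G2 F) (F1 : Subfield F), Nat.card F1 ≠ Nat.card F ∧ conjG σ M ≤ pglSub F1 := by
  rcases classify_finite p M with ⟨x, hx⟩ | ⟨a, b, hg, h, -⟩ | ⟨a, b, hg, h, -, -⟩ | ⟨hN, -, -, -⟩ |
    ⟨hN, -, -, -⟩ | ⟨hN, -, -, -⟩ | ⟨σ, F1, -, h⟩
  · exact absurd (fun g hg => hx g (hHM hg)) (exc_no_fixed p hX h2 x)
  · exact absurd ((hHM.trans h).trans fun g hg => mem_pairSet.2 (Or.inl (mem_pairFix.1 hg))) (exc_no_pairSet hX hg)
  · exact absurd (hHM.trans h) (exc_no_pairSet hX hg)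
  · exact Or.inl hN
  · exact Or.inr (Or.inl hN)
  · exact Or.inr (Or.inr (Or.inl hN))
  · refine Or.inr (Or.inr (Or.inr ⟨σ, F1, ?_, ?_⟩))
    · refine subfield_ne_top (σ := σ) hM ?_
      rcases h with e | ⟨-, e⟩
      · rw [e]; exact pslSub_le_pglSub F1
      · exact e ▸ le_rfl
    · rcases h with e | ⟨-, e⟩
      · exact e.le
      · rw [e]; exact pslSub_le_pglSub F1

omit p [Fact p.Prime] [CharP F p] in
theorem subfield_card_eq_of_prime (hF : (Nat.card F).Prime) (F1 : Subfield F) : Nat.card F1 = Nat.card F := by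
  obtain ⟨m, hm, h⟩ := exists_card_pow F1
  exact ((Nat.Prime.pow_eq_iff hF).1 h).1

/-- 5 divides the group order -/
theorem exists_tau_of_dvd (h : 5 ∣ Nat.card (psl F)) : ∃ τ : F, τ * τ = τ + 1 := by
  haveI := finite_G2 (F := F)
  haveI : Fact (Nat.Prime 5) := ⟨by norm_num⟩
  obtain ⟨x, hx⟩ := exists_prime_orderOf_dvd_card' 5 h
  exact exists_tau p x.2 (by rw [Subgroup.orderOf_coe, hx])

end CfsgLib.Perm.Dickson
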