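import Cfsg.Agent.Lib.Perm.Dickson.KleinConj

/-!
# Cyclic subgroups of order four in SL(2, q)
-/

set_option autoImplicit false
set_option linter.all false

namespace CfsgLib.Perm.Dickson

open Matrix

variable {F : Type*} [Field F]

abbrev SL2F (F : Type*) [Field F] := Matrix.SpecialLinearGroup (Fin 2) F

/-- the standard element of order four -/
def slJ : SL2F F := ⟨!![0, -1; 1, 0], by simp [det_fin_two]⟩

theorem sl_sq_one (h2 : (2 : F) ≠ 0) (g : SL2F F) (h : g * g = 1) : g.1 = 1 ∨ g.1 = -1 := by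
  have e : g⁻¹ = g := inv_eq_of_mul_eq_one_right h
  have e00 := congrFun (congrFun (congrArg Subtype.val e) 0) 0
  have e01 := congrFun (congrFun (congrArg Subtype.val e) 0) 1
  have e10 := congrFun (congrFun (congrArg Subtype.val e) 1) 0
  simp [Matrix.SpecialLinearGroup.coe_inv, adjugate_fin_two] at e00 e01 e10
  have h01 : g.1 0 1 = 0 := (mul_eq_zero.1 (show (2 : F) * g.1 0 1 = 0 by linear_combination -e01)).resolve_left h2
  have h10 : g.1 1 0 = 0 := (mul_eq_zero.1 (show (2 : F) * g.1 1 0 = 0 by linear_combination -e10)).resolve_left h2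
  have hd := g.2
  rw [det_fin_two, e00, h01, zero_mul, sub_zero] at hd
  rcases mul_self_eq_one_iff.1 hd with h | h
  · left; ext i j; fin_cases i <;> fin_cases j <;> simp [h01, h10, h, e00]
  · right; ext i j; fin_cases i <;> fin_cases j <;> simp [h01, h10, h, e00]

theorem slJ_sq : ((slJ : SL2F F) * slJ).1 = -1 := by
  show (slJ.1 * slJ.1 : Matrix (Fin 2) (Fin 2) F) = -1
  ext i j; fin_cases i <;> fin_cases j <;> simp [slJ, Matrix.mul_apply, Fin.sum_univ_two]

theorem orderOf_slJ (h2 : (2 : F) ≠ 0) : orderOf (slJ : SL2F F) = 4 := by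
  refine orderOf_eq_prime_pow (p := 2) (n := 1) ?_ ?_
  · intro h
    rw [pow_one, pow_two] at h
    have := congrFun (congrFun ((congrArg Subtype.val h).symm.trans slJ_sq) 0) 0
    simp at this
    exact h2 (by linear_combination this)
  · refine Subtype.ext ?_
    rw [show (2 : ℕ) ^ (1 + 1) = 2 * 2 by norm_num, pow_mul, pow_two, pow_two]
    show ((slJ : SL2F F) * slJ).1 * ((slJ : SL2F F) * slJ).1 = 1
    rw [slJ_sq]; simp

variable [Finite F]

/-- a subgroup of order four is generated by a traceless element -/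
theorem exists_gen_of_card_four (h2 : (2 : F) ≠ 0) (A : Subgroup (SL2F F)) (hA : Nat.card A = 4) :
    ∃ g : SL2F F, A = Subgroup.zpowers g ∧ g.1 1 1 = -g.1 0 0 := by
  classical
  obtain ⟨g, hg, hne⟩ : ∃ g ∈ A, g * g ≠ 1 := by
    by_contra hcon
    push Not at hcon
    have hinj : Function.Injective (fun g : A => decide (g.1.1 = (1 : Matrix (Fin 2) (Fin 2) F))) := by
      intro a b hab
      simp only [decide_eq_decide] at hab
      refine Subtype.ext (Subtype.ext ?_)
      rcases sl_sq_one h2 _ (hcon a a.2) with ha | ha <;> rcases sl_sq_one h2 _ (hcon b b.2) with hb | hb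
      · rw [ha, hb]
      · rw [ha]; exact (hab.1 ha).symm
      · rw [hb]; exact hab.2 hb
      · rw [ha, hb]
    have := Nat.card_le_card_of_injective _ hinj
    rw [hA, Nat.card_eq_fintype_card, Fintype.card_bool] at this
    omega
  have h4 : g ^ 4 = 1 := by
    have := congrArg Subtype.val (pow_card_eq_one' (x := (⟨g, hg⟩ : A)))
    rw [hA] at this
    exact this
  have hord : orderOf g = 4 :=
    orderOf_eq_prime_pow (p := 2) (n := 1) (by rw [pow_one, pow_two]; exact hne) (by norm_num; exact h4)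
  refine ⟨g, (Subgroup.eq_of_le_of_card_ge (Subgroup.zpowers_le.2 hg) (by rw [hA, Nat.card_zpowers, hord])).symm, ?_⟩
  rcases sl_sq_one h2 (g * g) (by rw [show g * g * (g * g) = g ^ 4 by simp [pow_succ, mul_assoc]]; exact h4) with h | h
  · exact absurd (Subtype.ext h) hne
  · have e00 := congrFun (congrFun h 0) 0
    have e01 := congrFun (congrFun h 0) 1
    have e10 := congrFun (congrFun h 1) 0
    have e11 := congrFun (congrFun h 1) 1
    simp [Matrix.mul_apply, Fin.sum_univ_two] at e00 e01 e10 e11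
    have hd := g.2
    rw [det_fin_two] at hd
    by_contra hcon
    have ht : g.1 0 0 + g.1 1 1 ≠ 0 := fun e => hcon (by linear_combination e)
    have h01 : g.1 0 1 = 0 := (mul_eq_zero.1 (show (g.1 0 0 + g.1 1 1) * g.1 0 1 = 0 by linear_combination e01)).resolve_left ht
    rw [h01] at e00 e11 hd
    exact ht ((mul_eq_zero.1 (show (g.1 0 0 + g.1 1 1) * g.1 0 0 = 0 by linear_combination e00 + hd)).elim id
      (fun e => by rw [e] at hd; simp at hd))

/-- traceless elements are conjugate -/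
theorem exists_conj_slJ (h2 : (2 : F) ≠ 0) (g : SL2F F) (hg : g.1 1 1 = -g.1 0 0) :
    ∃ P : SL2F F, P * slJ * P⁻¹ = g := by
  set a := g.1 0 0 with ha
  set b := g.1 0 1 with hb
  set c := g.1 1 0 with hc
  have hd := g.2
  rw [det_fin_two, hg, ← ha, ← hb, ← hc] at hd
  obtain ⟨s, t, hst⟩ : ∃ s t : F, s * (c * s + (-a) * t) - t * (a * s + b * t) = 1 := by
    by_cases hc0 : c = 0
    · rw [hc0] at hd
      have ha0 : a ≠ 0 := fun e => by rw [e] at hd; simp at hd
      refine ⟨-(1 + b) / (2 * a), 1, ?_⟩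
      rw [hc0]; field_simp; ring
    · obtain ⟨X, t, h⟩ := exists_sq_add h2 (α := c) (β := c⁻¹) hc0 (inv_ne_zero hc0) 1
      refine ⟨X + a * t / c, t, ?_⟩
      field_simp at h ⊢
      linear_combination h + t ^ 2 * hd
  set P : SL2F F := ⟨!![s, a * s + b * t; t, c * s + (-a) * t], by rw [det_fin_two]; simp; linear_combination hst⟩
  refine ⟨P, mul_inv_eq_iff_eq_mul.2 (Subtype.ext ?_)⟩
  show (P.1 * slJ.1 : Matrix (Fin 2) (Fin 2) F) = g.1 * P.1
  have eg : g.1 = !![a, b; c, -a] := by
    ext i j; fin_cases i <;> fin_cases j <;> simp [ha, hb, hc, hg]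
  rw [eg]
  ext i j
  fin_cases i <;> fin_cases j <;> simp [P, slJ, Matrix.mul_apply, Fin.sum_univ_two] <;>
    first
      | ring1
      | linear_combination s * hd
      | linear_combination -s * hd
      | linear_combination t * hd
      | linear_combination -t * hd

theorem conj_four (h2 : (2 : F) ≠ 0) (A : Subgroup (SL2F F)) (hA : Nat.card A = 4) :
    ∃ P : SL2F F, (Subgroup.zpowers (slJ : SL2F F)).map (MulAut.conj P).toMonoidHom = A := by
  obtain ⟨g, rfl, hg⟩ := exists_gen_of_card_four h2 A hA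
  obtain ⟨P, hP⟩ := exists_conj_slJ h2 g hg
  refine ⟨P, ?_⟩
  rw [MonoidHom.map_zpowers]
  exact congrArg Subgroup.zpowers hP

theorem mem_normalizer_slJ (h2 : (2 : F) ≠ 0) (h : SL2F F) :
    h ∈ Subgroup.normalizer ((Subgroup.zpowers (slJ : SL2F F)) : Set (SL2F F)) ↔
      (h.1 1 1 = h.1 0 0 ∧ h.1 1 0 = -h.1 0 1) ∨ (h.1 1 1 = -h.1 0 0 ∧ h.1 1 0 = h.1 0 1) := by
  have hJ3 : ((slJ : SL2F F)⁻¹).1 = !![0, 1; -1, 0] := by
    rw [Matrix.SpecialLinearGroup.coe_inv, slJ, adjugate_fin_two]; simp
  constructor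
  · intro hh
    have hm := (Subgroup.mem_normalizer_iff.1 hh slJ).1 (Subgroup.mem_zpowers _)
    obtain ⟨k, hk⟩ := mem_powers_iff_mem_zpowers.2 hm
    simp only at hk
    have hord : orderOf (h * slJ * h⁻¹) = 4 := by
      rw [← MulAut.conj_apply, MulEquiv.orderOf_eq, orderOf_slJ h2]
    rw [← hk] at hord
    have hred : (slJ : SL2F F) ^ k = slJ ^ (k % 4) := by
      conv_lhs => rw [← pow_mod_orderOf, orderOf_slJ h2]
    rw [hred] at hord hk
    rcases (show k % 4 = 0 ∨ k % 4 = 1 ∨ k % 4 = 2 ∨ k % 4 = 3 by omega) with e | e | e | e <;> rw [e] at hord hk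
    · rw [pow_zero, orderOf_one] at hord; omega
    · left
      rw [pow_one] at hk
      have e1 : (slJ : SL2F F) * h = h * slJ := eq_mul_inv_iff_mul_eq.1 hk
      have em : (slJ.1 * h.1 : Matrix (Fin 2) (Fin 2) F) = h.1 * slJ.1 := congrArg Subtype.val e1
      have a1 := congrFun (congrFun em 1) 0
      have a2 := congrFun (congrFun em 0) 0
      simp [slJ, Matrix.mul_apply, Fin.sum_univ_two] at a1 a2
      exact ⟨a1.symm, by linear_combination -a2⟩
    · exfalso
      have : (slJ : SL2F F) ^ 4 = 1 := orderOf_slJ h2 ▸ pow_orderOf_eq_one _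
      have hle := orderOf_le_of_pow_eq_one (n := 2) (by norm_num) (show ((slJ : SL2F F) ^ 2) ^ 2 = 1 by rw [← pow_mul]; exact this)
      omega
    · right
      have e3 : (slJ : SL2F F) ^ 3 = slJ⁻¹ := eq_inv_of_mul_eq_one_left (by
        rw [← pow_succ]; have hp := pow_orderOf_eq_one (slJ : SL2F F); rw [orderOf_slJ h2] at hp; exact hp)
      rw [e3] at hk
      have e1 : (slJ : SL2F F)⁻¹ * h = h * slJ := eq_mul_inv_iff_mul_eq.1 hk
      have em : ((slJ : SL2F F)⁻¹.1 * h.1 : Matrix (Fin 2) (Fin 2) F) = h.1 * slJ.1 := congrArg Subtype.val e1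
      rw [hJ3] at em
      have a1 := congrFun (congrFun em 1) 0
      have a2 := congrFun (congrFun em 0) 0
      simp [slJ, Matrix.mul_apply, Fin.sum_univ_two] at a1 a2
      exact ⟨by linear_combination -a1, a2⟩
  · intro hh
    have key : h * slJ * h⁻¹ = slJ ∨ h * slJ * h⁻¹ = slJ⁻¹ := by
      rw [mul_inv_eq_iff_eq_mul, mul_inv_eq_iff_eq_mul]
      rcases hh with ⟨e1, e2⟩ | ⟨e1, e2⟩
      · left; refine Subtype.ext ?_
        show (h.1 * slJ.1 : Matrix (Fin 2) (Fin 2) F) = slJ.1 * h.1
        ext i j; fin_cases i <;> fin_cases j <;> simp [slJ, Matrix.mul_apply, Fin.sum_univ_two, e1, e2]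
      · right; refine Subtype.ext ?_
        show (h.1 * slJ.1 : Matrix (Fin 2) (Fin 2) F) = (slJ⁻¹ : SL2F F).1 * h.1
        rw [hJ3]
        ext i j; fin_cases i <;> fin_cases j <;> simp [slJ, Matrix.mul_apply, Fin.sum_univ_two, e1, e2]
    rw [Subgroup.mem_normalizer_iff_map_conj_eq]
    show (Subgroup.zpowers (slJ : SL2F F)).map (MulAut.conj h).toMonoidHom = _
    rw [MonoidHom.map_zpowers]
    show Subgroup.zpowers (h * slJ * h⁻¹) = _
    rcases key with k | k <;> rw [k]
    exact Subgroup.zpowers_inv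

/-- points of the conic `a² + b² = d` -/
abbrev Circ (F : Type*) [Field F] (d : F) := {v : F × F // v.1 * v.1 + v.2 * v.2 = d}

theorem card_circ_eq {d : F} (hd : d ≠ 0) (h2 : (2 : F) ≠ 0) : Nat.card (Circ F d) = Nat.card (Circ F (1 : F)) := by
  obtain ⟨x, y, hxy⟩ := exists_sq_add h2 (one_ne_zero' F) (one_ne_zero' F) d
  refine (Nat.card_congr ?_).symm
  exact
    { toFun := fun v => ⟨(x * v.1.1 - y * v.1.2, y * v.1.1 + x * v.1.2), by
        have := v.2; linear_combination d * this + (v.1.1 * v.1.1 + v.1.2 * v.1.2) * hxy⟩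
      invFun := fun v => ⟨((x * v.1.1 + y * v.1.2) / d, (-(y * v.1.1) + x * v.1.2) / d), by
        have := v.2; field_simp; linear_combination d * this + (v.1.1 * v.1.1 + v.1.2 * v.1.2) * hxy⟩
      left_inv := fun v => by
        apply Subtype.ext; apply Prod.ext <;> simp <;> field_simp
        · linear_combination v.1.1 * hxy
        · linear_combination v.1.2 * hxy
      right_inv := fun v => by
        apply Subtype.ext; apply Prod.ext <;> simp <;> field_simp
        · linear_combination v.1.1 * hxy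
        · linear_combination v.1.2 * hxy }

theorem card_circ_zero_ns (hns : ¬ IsSquare (-1 : F)) : Nat.card (Circ F (0 : F)) = 1 := by
  rw [Nat.card_eq_one_iff_unique]
  refine ⟨⟨fun a b => ?_⟩, ⟨⟨(0, 0), by simp⟩⟩⟩
  have z : ∀ v : Circ F (0 : F), v.1 = (0, 0) := fun v => by
    obtain ⟨⟨a, b⟩, h⟩ := v
    simp only at h ⊢
    by_cases hb : b = 0
    · subst hb
      simp at h
      rw [h]
    · exact absurd ⟨a / b, by field_simp; linear_combination -h⟩ hns
  exact Subtype.ext ((z a).trans (z b).symm)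

theorem card_circ_zero_sq (h2 : (2 : F) ≠ 0) {i : F} (hi : i * i = -1) :
    Nat.card (Circ F (0 : F)) + 1 = 2 * Nat.card F := by
  classical
  haveI := Fintype.ofFinite F
  have hi0 : i ≠ 0 := fun e => by rw [e] at hi; simp at hi
  have e : (Finset.univ.filter fun v : F × F => v.1 * v.1 + v.2 * v.2 = 0) =
      (Finset.univ.image fun t : F => (t, i * t)) ∪ (Finset.univ.image fun t : F => (t, -(i * t))) := by
    ext ⟨a, b⟩
    simp only [Finset.mem_filter, Finset.mem_univ, true_and, Finset.mem_union, Finset.mem_image, Prod.mk.injEq]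
    constructor
    · intro h
      rcases mul_self_eq_mul_self_iff.1 (show b * b = (i * a) * (i * a) by linear_combination h - a * a * hi) with e | e
      · exact Or.inl ⟨a, rfl, e.symm⟩
      · exact Or.inr ⟨a, rfl, e.symm⟩
    · rintro (⟨t, rfl, rfl⟩ | ⟨t, rfl, rfl⟩) <;> linear_combination t * t * hi
  have hinter : (Finset.univ.image fun t : F => (t, i * t)) ∩ (Finset.univ.image fun t : F => (t, -(i * t))) = {((0 : F), (0 : F))} := by
    ext ⟨a, b⟩
    simp only [Finset.mem_inter, Finset.mem_image, Finset.mem_univ, true_and, Prod.mk.injEq, Finset.mem_singleton]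
    constructor
    · rintro ⟨⟨t, rfl, rfl⟩, s, rfl, hs⟩
      have hs0 : s = 0 := (mul_eq_zero.1 (show (2 * i) * s = 0 by linear_combination -hs)).resolve_left (mul_ne_zero h2 hi0)
      simp [hs0]
    · rintro ⟨rfl, rfl⟩; exact ⟨⟨0, rfl, by simp⟩, 0, rfl, by simp⟩
  have h := Finset.card_union_add_card_inter (Finset.univ.image fun t : F => (t, i * t)) (Finset.univ.image fun t : F => (t, -(i * t)))
  rw [← e, hinter, Finset.card_singleton,
    Finset.card_image_of_injective _ (fun a b e => congrArg Prod.fst e),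
    Finset.card_image_of_injective _ (fun a b e => congrArg Prod.fst e), Finset.card_univ] at h
  rw [Nat.card_eq_fintype_card, Fintype.card_subtype, Nat.card_eq_fintype_card]
  omega

theorem card_circ (h2 : (2 : F) ≠ 0) :
    Nat.card (Circ F (1 : F)) * (Nat.card F - 1) + Nat.card (Circ F (0 : F)) = Nat.card F * Nat.card F := by
  classical
  haveI := Fintype.ofFinite F
  have e := Nat.card_congr (Equiv.sigmaFiberEquiv (fun v : F × F => v.1 * v.1 + v.2 * v.2))
  rw [Nat.card_sigma, Nat.card_prod] at e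
  rw [← e, ← Finset.sum_erase_add _ _ (Finset.mem_univ (0 : F))]
  congr 1
  rw [Finset.sum_congr rfl fun d hd => card_circ_eq (Finset.ne_of_mem_erase hd) h2, Finset.sum_const,
    Finset.card_erase_of_mem (Finset.mem_univ _), Finset.card_univ, smul_eq_mul, mul_comm, Nat.card_eq_fintype_card (α := F)]

theorem card_normalizer_slJ (h2 : (2 : F) ≠ 0) :
    Nat.card (Subgroup.normalizer ((Subgroup.zpowers (slJ : SL2F F)) : Set (SL2F F))) = 2 * Nat.card (Circ F (1 : F)) := by
  classical
  have hne : (-1 : F) ≠ 0 := neg_ne_zero.2 one_ne_zero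
  rw [two_mul]
  nth_rewrite 2 [← card_circ_eq hne h2]
  rw [← Nat.card_sum]
  have hdet : ∀ h : SL2F F, h.1 0 0 * h.1 1 1 - h.1 0 1 * h.1 1 0 = 1 := fun h => by
    rw [← det_fin_two]; exact h.2
  let f : Circ F (1 : F) ⊕ Circ F (-1 : F) → Subgroup.normalizer ((Subgroup.zpowers (slJ : SL2F F)) : Set (SL2F F)) :=
    Sum.elim
      (fun v => ⟨⟨!![v.1.1, v.1.2; -v.1.2, v.1.1], by rw [det_fin_two]; simp; linear_combination v.2⟩,
        (mem_normalizer_slJ h2 _).2 (Or.inl ⟨by simp, by simp⟩)⟩)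
      (fun v => ⟨⟨!![v.1.1, v.1.2; v.1.2, -v.1.1], by rw [det_fin_two]; simp; linear_combination -v.2⟩,
        (mem_normalizer_slJ h2 _).2 (Or.inr ⟨by simp, by simp⟩)⟩)
  refine (Nat.card_congr (Equiv.ofBijective f ⟨?_, ?_⟩)).symm
  · intro u v huv
    have hm := congrArg (fun z => (z.1 : Matrix (Fin 2) (Fin 2) F)) huv
    have e1 := congrFun (congrFun hm 0) 0
    have e2 := congrFun (congrFun hm 0) 1
    have e3 := congrFun (congrFun hm 1) 0
    have e4 := congrFun (congrFun hm 1) 1
    rcases u with u | u <;> rcases v with v | v <;> simp [f] at e1 e2 e3 e4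
    · exact congrArg Sum.inl (Subtype.ext (Prod.ext e1 e2))
    · exfalso
      have za : u.1.1 = 0 := (mul_eq_zero.1 (show (2 : F) * u.1.1 = 0 by linear_combination e1 + e4)).resolve_left h2
      have zb : u.1.2 = 0 := (mul_eq_zero.1 (show (2 : F) * u.1.2 = 0 by linear_combination e2 - e3)).resolve_left h2
      have := u.2; rw [za, zb] at this; simp at this
    · exfalso
      have za : u.1.1 = 0 := (mul_eq_zero.1 (show (2 : F) * u.1.1 = 0 by linear_combination e1 - e4)).resolve_left h2
      have zb : u.1.2 = 0 := (mul_eq_zero.1 (show (2 : F) * u.1.2 = 0 by linear_combination e2 + e3)).resolve_left h2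
      have := u.2; rw [za, zb] at this; simp at this
    · exact congrArg Sum.inr (Subtype.ext (Prod.ext e1 e2))
  · rintro ⟨h, hh⟩
    have hd := hdet h
    rcases (mem_normalizer_slJ h2 h).1 hh with ⟨e1, e2⟩ | ⟨e1, e2⟩
    · refine ⟨Sum.inl ⟨(h.1 0 0, h.1 0 1), by rw [e1, e2] at hd; linear_combination hd⟩, Subtype.ext (Subtype.ext ?_)⟩
      ext i j; fin_cases i <;> fin_cases j <;> simp [f, e1, e2]
    · refine ⟨Sum.inr ⟨(h.1 0 0, h.1 0 1), by rw [e1, e2] at hd; linear_combination -hd⟩, Subtype.ext (Subtype.ext ?_)⟩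
      ext i j; fin_cases i <;> fin_cases j <;> simp [f, e1, e2]

end CfsgLib.Perm.Dickson
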