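import Cfsg.Agent.Lib.Perm.Dickson.ListExc
import Cfsg.Agent.Lib.Perm.Dickson.SLFour

/-!
# Groups generated by two transvections
-/

set_option autoImplicit false
set_option linter.all false

namespace CfsgLib.Perm.Dickson

open Matrix

variable {F : Type*} [Field F]

/-- projection to PGL -/
noncomputable def slToG2 : SL2F F →* G2 F := ProjGenLinGroup.mk.comp Matrix.SpecialLinearGroup.toGL

theorem slToG2_eq_one (g : SL2F F) (h : slToG2 g = 1) : g.1 = 1 ∨ g.1 = -1 := by
  change ProjGenLinGroup.mk (Matrix.SpecialLinearGroup.toGL g) = 1 at h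
  rw [← map_one ProjGenLinGroup.mk] at h
  obtain ⟨c, hc, e⟩ := exists_smul_of_mk_eq h
  change c • g.1 = 1 at e
  have hd := congrArg Matrix.det e
  rw [det_smul, g.2, mul_one, Fintype.card_fin, det_one] at hd
  rcases sq_eq_one_iff.1 hd with rfl | rfl
  · left; rwa [one_smul] at e
  · right; rw [neg_smul, one_smul] at e; rw [← e, neg_neg]

theorem slToG2_trace_sq {F1 : Subfield F} {σ : G2 F} {g : SL2F F} (h : σ * slToG2 g * σ⁻¹ ∈ pglSub F1) :
    (g.1 0 0 + g.1 1 1) ^ 2 ∈ F1 := by
  obtain ⟨k, hk⟩ := h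
  cases σ using Matrix.ProjGenLinGroup.induction_on with
  | mk S =>
  cases k using Matrix.ProjGenLinGroup.induction_on with
  | mk B =>
    rw [mapG, ProjGenLinGroup.map_mk, slToG2, MonoidHom.comp_apply, ← map_inv, ← map_mul, ← map_mul] at hk
    obtain ⟨c, hc, e⟩ := exists_smul_of_mk_eq hk
    change c • B.1.map F1.subtype = S.1 * g.1 * (S⁻¹).1 at e
    have ht := congrArg Matrix.trace e
    rw [trace_smul, Matrix.trace_mul_cycle, Units.inv_mul, one_mul, trace_fin_two, trace_fin_two, smul_eq_mul] at ht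
    have hd := congrArg Matrix.det e
    rw [det_smul, det_mul, det_mul, g.2, mul_one, ← det_mul, Units.mul_inv, det_one, Fintype.card_fin,
      ← RingHom.mapMatrix_apply, ← RingHom.map_det] at hd
    have hdB : (B.1.det : F) ≠ 0 := fun e' => by
      rw [show F1.subtype B.1.det = (B.1.det : F) from rfl, e', mul_zero] at hd
      exact zero_ne_one hd
    have : (g.1 0 0 + g.1 1 1) ^ 2 = ((B.1 0 0 : F) + (B.1 1 1 : F)) ^ 2 / (B.1.det : F) := by
      rw [eq_div_iff hdB, ← ht]
      simp [Matrix.map_apply]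
      change c ^ 2 * (B.1.det : F) = 1 at hd
      linear_combination ((B.1 0 0 : F) + (B.1 1 1 : F)) ^ 2 * hd
    rw [this]
    exact div_mem (pow_mem (add_mem (B.1 0 0).2 (B.1 1 1).2) 2) B.1.det.2

theorem slToG2_pow_cases {g : SL2F F} (h : slToG2 g ^ 2 = 1 ∨ slToG2 g ^ 3 = 1 ∨ slToG2 g ^ 5 = 1) :
    let t := g.1 0 0 + g.1 1 1
    t = 0 ∨ t ^ 2 = 1 ∨ t ^ 2 = 4 ∨ t ^ 4 - 3 * t ^ 2 + 1 = 0 := by
  intro t
  by_cases h1 : slToG2 g = 1
  · refine Or.inr (Or.inr (Or.inl ?_))
    rcases slToG2_eq_one g h1 with e | e <;>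
      · show (g.1 0 0 + g.1 1 1) ^ 2 = 4
        rw [e]; norm_num
  have hd : (Matrix.SpecialLinearGroup.toGL g).1.det = 1 := g.2
  rcases h with h | h | h
  · left
    change ProjGenLinGroup.mk (Matrix.SpecialLinearGroup.toGL g) ^ 2 = 1 at h
    rw [mk_pow, ← map_one ProjGenLinGroup.mk] at h
    obtain ⟨k, hk, e⟩ := exists_smul_of_mk_eq h
    rw [Units.val_pow_eq_pow_val, pow_two, mat_sq, Units.val_one] at e
    exact coeff_eq_zero_of_scalar h1 (a := t) (c := k⁻¹) (b := (Matrix.SpecialLinearGroup.toGL g).1.det)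
      (by conv_rhs => rw [← e, smul_smul, inv_mul_cancel₀ hk, one_smul]
          rfl)
  · have := trace_of_pow_three h1 h
    rw [hd] at this
    exact Or.inr (Or.inl this)
  · have := trace_of_pow_five h1 h
    rw [hd, mul_one, one_pow] at this
    exact Or.inr (Or.inr (Or.inr this))

theorem closure_pair_sq {G : Type*} [Group G] (a b : G) (h : (b * a) ^ 5 = 1) :
    Subgroup.closure {a, b} = Subgroup.closure {b, (b * a) ^ 2} := by
  refine le_antisymm ((Subgroup.closure_le _).2 ?_) ((Subgroup.closure_le _).2 ?_)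
  · have hb : b ∈ Subgroup.closure {b, (b * a) ^ 2} := Subgroup.subset_closure (Or.inl rfl)
    have hx : (b * a) ^ 2 ∈ Subgroup.closure {b, (b * a) ^ 2} := Subgroup.subset_closure (Set.mem_insert_of_mem _ rfl)
    rintro x (rfl | rfl)
    · have e : x = b⁻¹ * ((b * x) ^ 2) ^ 3 := by
        rw [← pow_mul, show 2 * 3 = 5 + 1 by norm_num, pow_succ, h, one_mul, inv_mul_cancel_left]
      have hm := mul_mem (inv_mem hb) (pow_mem hx 3)
      rw [← e] at hm
      exact hm
    · exact hb
  · have h1 : a ∈ Subgroup.closure {a, b} := Subgroup.subset_closure (Or.inl rfl)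
    have h2 : b ∈ Subgroup.closure {a, b} := Subgroup.subset_closure (Set.mem_insert_of_mem _ rfl)
    rintro x (rfl | rfl)
    · exact h2
    · exact pow_mem (mul_mem h2 h1) _

def trA (l : F) : SL2F F := ⟨!![1, l; 0, 1], by simp [det_fin_two]⟩
def trB : SL2F F := ⟨!![1, 0; 1, 1], by simp [det_fin_two]⟩

theorem slToG2_trA (l : F) : slToG2 (trA l) = tr l := by
  rw [slToG2, MonoidHom.comp_apply, tr]
  exact mk_eq_of_smul 1 one_ne_zero (one_smul _ _)

theorem trA_mul_trB (l : F) : (trA l * trB).1 = !![1 + l, l; 1, 1] := by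
  show (trA l).1 * (trB : SL2F F).1 = _
  simp [trA, trB, Matrix.mul_fin_two]

theorem trA_mul_trB_inv (l : F) : (trA l * trB⁻¹).1 = !![1 - l, l; -1, 1] := by
  show (trA l).1 * ((trB : SL2F F)⁻¹).1 = _
  rw [Matrix.SpecialLinearGroup.coe_inv]
  simp [trA, trB, adjugate_fin_two, Matrix.mul_fin_two, sub_eq_add_neg]

theorem slToG2_range : (slToG2 (F := F)).range = psl F := rfl

variable [Finite F]

theorem card_le_of_fixed (p : ℕ) [Fact p.Prime] [CharP F p] (k : ℕ) {l : F} (hl : l ^ p ^ k = l) (hk : 1 ≤ k)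
    (hgen : Subfield.closure ({l} : Set F) = ⊤) : Nat.card F ≤ p ^ k := by
  have hle : Subfield.closure ({l} : Set F) ≤ RingHom.eqLocusField (iterateFrobenius F p k) (RingHom.id F) := by
    rw [Subfield.closure_le]
    rintro x rfl
    exact (iterateFrobenius_def (R := F) p k x).trans hl
  have hall : ∀ x : F, x ^ p ^ k = x := fun x => by
    have := hle (show x ∈ Subfield.closure ({l} : Set F) by rw [hgen]; exact Subfield.mem_top x)
    exact (iterateFrobenius_def (R := F) p k x).symm.trans this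
  have h2 : 2 ≤ p ^ k := le_trans (Fact.out : p.Prime).two_le (Nat.le_self_pow (by omega) p)
  have := ncard_pow_fixed_le (F := F) h2
  have hu : {x : F | x ^ p ^ k = x} = Set.univ := Set.eq_univ_of_forall hall
  rwa [hu, Set.ncard_univ] at this

variable (p : ℕ) [Fact p.Prime] [CharP F p]
include p

theorem transv_image_cases (h2 : (2 : F) ≠ 0) (hp2 : p ≠ 2) {l : F} (hl : l ≠ 0)
    (hgen : Subfield.closure ({l} : Set F) = ⊤) :
    (Subgroup.closure {trA l, trB}).map slToG2 = psl F ∨ (Nat.card F = 9 ∧ l ^ 2 = -1) := by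
  haveI := finite_G2 (F := F)
  have hp : p.Prime := Fact.out
  set L := Subgroup.closure {trA l, (trB : SL2F F)} with hL
  set H := L.map slToG2 with hH
  have hAm : trA l ∈ L := Subgroup.subset_closure (Or.inl rfl)
  have hBm : (trB : SL2F F) ∈ L := Subgroup.subset_closure (Or.inr rfl)
  have hHp : H ≤ psl F := by rintro _ ⟨g, -, rfl⟩; exact ⟨g, rfl⟩
  have htr : tr l ∈ H := ⟨_, hAm, slToG2_trA l⟩
  have hord : orderOf (tr l : G2 F) = p := by
    refine orderOf_eq_prime (by rw [tr_pow, CharP.cast_eq_zero, zero_mul, tr_zero]) fun e => hl ?_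
    exact tr_injective (e.trans tr_zero.symm)
  have hdvd : p ∣ Nat.card H := by
    rw [← hord, ← Subgroup.orderOf_mk (tr l) htr]; exact orderOf_dvd_natCard _
  have hfix : ∀ a b : P2 (Kc F), GoodPair a b → ¬ tr l ∈ pairSet a b := by
    intro a b hg hmem
    have h1 : tr l ∈ pairFix a b := by
      by_contra hn
      have hsq := sq_of_swap hg.1 hmem hn
      have : orderOf (tr l : G2 F) ∣ 2 := orderOf_dvd_of_pow_eq_one (by rw [pow_two]; exact hsq)
      rw [hord] at this
      exact hp2 ((Nat.prime_dvd_prime_iff_eq hp Nat.prime_two).1 this)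
    refine not_p_dvd_torus p hg ?_
    rw [← hord, ← Subgroup.orderOf_mk (tr l) h1]; exact orderOf_dvd_natCard _
  cases classify_finite p H with
  | borel x hx =>
    exfalso
    obtain rfl | ⟨z, rfl⟩ := point_cases x
    · have := hx _ ⟨_, hBm, rfl⟩
      rw [slToG2, MonoidHom.comp_apply, ip, mk_smul, mk_eq_fp] at this
      · exact fp_ne_ip _ this
      · simp [trB, Matrix.SpecialLinearGroup.toGL, Matrix.mulVec, dotProduct, Fin.sum_univ_two]
    · have := fp_inj ((tr_fp l z).symm.trans (hx _ htr))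
      exact hl (by linear_combination this)
  | cyclic a b hg h hne => exact absurd (mem_pairSet.2 (Or.inl (mem_pairFix.1 (h htr)))) (hfix a b hg)
  | dihedral a b hg h hn hC => exact absurd (h htr) (hfix a b hg)
  | a4 hN h2' h3' e =>
    exfalso
    rw [hN] at hdvd
    rcases (hp.dvd_mul (m := 4) (n := 3)).1 hdvd with h | h
    · exact h2' ((Nat.prime_dvd_prime_iff_eq hp Nat.prime_two).1 (hp.dvd_of_dvd_pow (show p ∣ 2 ^ 2 from h)))
    · exact h3' ((Nat.prime_dvd_prime_iff_eq hp Nat.prime_three).1 h)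
  | s4 hN h2' h3' e =>
    exfalso
    rw [hN] at hdvd
    rcases (hp.dvd_mul (m := 8) (n := 3)).1 hdvd with h | h
    · exact h2' ((Nat.prime_dvd_prime_iff_eq hp Nat.prime_two).1 (hp.dvd_of_dvd_pow (show p ∣ 2 ^ 3 from h)))
    · exact h3' ((Nat.prime_dvd_prime_iff_eq hp Nat.prime_three).1 h)
  | a5 hN h2' h5' e =>
    right
    rw [hN] at hdvd
    obtain rfl : p = 3 := by
      rcases (hp.dvd_mul (m := 4) (n := 15)).1 hdvd with h | h
      · exact absurd ((Nat.prime_dvd_prime_iff_eq hp Nat.prime_two).1 (hp.dvd_of_dvd_pow (show p ∣ 2 ^ 2 from h))) h2'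
      · rcases (hp.dvd_mul (m := 3) (n := 5)).1 h with h | h
        · exact (Nat.prime_dvd_prime_iff_eq hp Nat.prime_three).1 h
        · exact absurd ((Nat.prime_dvd_prime_iff_eq hp (by norm_num)).1 h) h5'
    have h3 : (3 : F) = 0 := CharP.cast_eq_zero F 3
    obtain ⟨f⟩ := e
    have cases3 : ∀ g ∈ L, let t := g.1 0 0 + g.1 1 1; t ^ 3 = t ∨ t ^ 4 = -1 := by
      intro g hg t
      have hpw : slToG2 g ^ 2 = 1 ∨ slToG2 g ^ 3 = 1 ∨ slToG2 g ^ 5 = 1 := by
        set x : H := ⟨slToG2 g, g, hg, rfl⟩ with hx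
        rcases alt_five_pow (f x) with h | h | h
        · left; exact congrArg Subtype.val (f.injective (show f (x ^ 2) = f 1 by rw [map_pow, h, map_one]))
        · right; left; exact congrArg Subtype.val (f.injective (show f (x ^ 3) = f 1 by rw [map_pow, h, map_one]))
        · right; right; exact congrArg Subtype.val (f.injective (show f (x ^ 5) = f 1 by rw [map_pow, h, map_one]))
      rcases slToG2_pow_cases hpw with h | h | h | h
      · left; simp only [t]; rw [h]; ring
      · left; linear_combination t * h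
      · left; linear_combination t * h + t * h3
      · right; linear_combination h + t ^ 2 * h3
    have c1 := cases3 _ (mul_mem hAm hBm)
    have c2 := cases3 _ (mul_mem hAm (inv_mem hBm))
    rw [trA_mul_trB] at c1
    rw [trA_mul_trB_inv] at c2
    simp at c1 c2
    obtain ⟨n, hn, hq⟩ := card_eq_pow (F := F) 3
    have hd60 : 60 ∣ Nat.card (psl F) := hN ▸ Subgroup.card_dvd_of_le hHp
    have not3 : l ^ 3 = l → False := fun h => by
      have hle := card_le_of_fixed 3 1 (l := l) (by rw [pow_one]; exact h) le_rfl hgen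
      obtain rfl : n = 1 := by
        by_contra hne
        have := Nat.pow_le_pow_right (show 0 < 3 by norm_num) (show 2 ≤ n by omega)
        omega
      have hc := card_psl F
      rw [gcd_odd (by rw [hq]; decide), hq] at hc
      simp only [pow_one, Nat.reduceSub, Nat.reduceAdd, Nat.reduceMul] at hc
      have := Nat.le_of_dvd (Nat.card_pos) hd60
      omega
    have hl2 : l ^ 2 = -1 := by
      rcases c1 with h | h
      · exfalso; apply not3; linear_combination h + (-(2 * l ^ 2) - 4 * l - 2) * h3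
      rcases c2 with h' | h'
      · exfalso; apply not3; linear_combination -h' + (2 * l ^ 2 - 4 * l + 2) * h3
      have h0 : (8 : F) * (2 * l * (l ^ 2 + 4)) = 0 := by linear_combination h - h'
      have h8 : (8 : F) * 2 ≠ 0 := by
        rw [show (8 : F) * 2 = 2 * 2 * 2 * 2 by norm_num]
        exact mul_ne_zero (mul_ne_zero (mul_ne_zero h2 h2) h2) h2
      have : l * (l ^ 2 + 4) = 0 := (mul_eq_zero.1 (show ((8 : F) * 2) * (l * (l ^ 2 + 4)) = 0 by linear_combination h0)).resolve_left h8
      linear_combination (mul_eq_zero.1 this).resolve_left hl - h3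
    refine ⟨?_, hl2⟩
    have hle := card_le_of_fixed 3 2 (l := l) (by
      show l ^ (3 ^ 2) = l
      linear_combination (l ^ 7 - l ^ 5 + l ^ 3 - l) * hl2) (by norm_num) hgen
    have hn1 : n ≠ 1 := by
      rintro rfl
      have hc := card_psl F
      rw [gcd_odd (by rw [hq]; decide), hq] at hc
      simp only [pow_one, Nat.reduceSub, Nat.reduceAdd, Nat.reduceMul] at hc
      have := Nat.le_of_dvd (Nat.card_pos) hd60
      omega
    obtain rfl : n = 2 := by
      by_contra hne
      have := Nat.pow_le_pow_right (show 0 < 3 by norm_num) (show 3 ≤ n by omega)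
      omega
    rw [hq]; norm_num
  | subfield σ F1 h3 h =>
    left
    have hle : conjG σ H ≤ pglSub F1 := by
      rcases h with e | ⟨-, e⟩
      · exact e.le
      · rw [e]; exact pslSub_le_pglSub F1
    have htop : F1 = ⊤ := by
      have hm : ∀ g ∈ L, (g.1 0 0 + g.1 1 1) ^ 2 ∈ F1 := fun g hg =>
        slToG2_trace_sq (σ := σ) (hle ⟨_, ⟨g, hg, rfl⟩, rfl⟩)
      have c1 := hm _ (mul_mem hAm hBm)
      have c2 := hm _ (mul_mem hAm (inv_mem hBm))
      rw [trA_mul_trB] at c1
      rw [trA_mul_trB_inv] at c2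
      simp at c1 c2
      have h8 : (8 : F) ≠ 0 := by
        rw [show (8 : F) = 2 * 2 * 2 by norm_num]; exact mul_ne_zero (mul_ne_zero h2 h2) h2
      have h8m : (8 : F) ∈ F1 := ofNat_mem F1 8
      have hlm : l ∈ F1 := by
        have := div_mem (sub_mem c1 c2) h8m
        convert this using 1
        field_simp; ring
      rw [eq_top_iff, ← hgen, Subfield.closure_le]
      rintro x rfl; exact hlm
    have hc1 : Nat.card F1 = Nat.card F := by rw [htop]; exact Nat.card_congr (Subfield.topEquiv (K := F)).toEquiv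
    refine Subgroup.eq_of_le_of_card_ge hHp ?_
    have h1 : Nat.card (pslSub F1) = Nat.card (psl F) := by
      have e := card_pslSub F1
      rw [card_pglSub, hc1, ← card_G2, ← psl_index] at e
      exact Nat.eq_of_mul_eq_mul_left (Nat.gcd_pos_of_pos_left _ (by norm_num)) e
    rw [← h1, ← card_conjG (G := H) σ]
    refine Nat.card_le_card_of_injective _ (Subgroup.inclusion_injective ?_)
    rcases h with e | ⟨-, e⟩
    · rw [e]; exact pslSub_le_pglSub F1
    · exact e ▸ le_rfl

omit p [Fact p.Prime] [CharP F p] in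
theorem icosa_transv {l : F} (h2 : (2 : F) ≠ 0) (h3 : (3 : F) = 0) (hl : l ^ 2 = -1) :
    Nat.card ((Subgroup.closure {trA l, (trB : SL2F F)}).map slToG2) = 60 := by
  set b := slToG2 (trB : SL2F F) with hb
  set M : SL2F F := trB * trA l with hM
  have hMm : M.1 = !![1, l; 1, 1 + l] := by
    rw [hM]; show (trB : SL2F F).1 * (trA l).1 = _
    simp [trA, trB, Matrix.mul_fin_two, add_comm]
  have hdM : (Matrix.SpecialLinearGroup.toGL M).1.det = 1 := M.2
  have hM5 : slToG2 M ^ 5 = 1 := by
    refine pow_five_eq_one _ ?_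
    rw [hdM, show (Matrix.SpecialLinearGroup.toGL M).1 = M.1 from rfl, hMm]
    simp
    linear_combination (l ^ 2 + 8 * l + 20) * hl + (4 * l - 5) * h3
  have hb3 : b ^ 3 = 1 := by
    refine pow_three_eq_one _ ?_
    show ((trB : SL2F F).1 0 0 + (trB : SL2F F).1 1 1) ^ 2 = (trB : SL2F F).1.det
    rw [(trB : SL2F F).2]; simp [trB]; linear_combination h3
  set X : SL2F F := trB * (M * M) with hX
  have htX : (Matrix.SpecialLinearGroup.toGL X).1 0 0 + (Matrix.SpecialLinearGroup.toGL X).1 1 1 = 0 := by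
    show ((trB : SL2F F).1 * (M.1 * M.1)) 0 0 + ((trB : SL2F F).1 * (M.1 * M.1)) 1 1 = 0
    rw [hMm]
    simp [trB, Matrix.mul_fin_two]
    linear_combination 2 * hl + 2 * l * h3
  have hab : (b * slToG2 M ^ 2) ^ 2 = 1 := by
    rw [hb, ← map_pow, ← map_mul, show (trB : SL2F F) * M ^ 2 = X by rw [hX, pow_two]]
    change ProjGenLinGroup.mk (Matrix.SpecialLinearGroup.toGL X) ^ 2 = 1
    rw [mk_pow]
    refine mk_eq_one_of_scalar _ (-1) ?_
    rw [Units.val_pow_eq_pow_val, pow_two, mat_sq, htX, show (Matrix.SpecialLinearGroup.toGL X).1.det = 1 from X.2,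
      zero_smul, zero_sub, neg_smul, one_smul]
  have hb1 : b ≠ 1 := fun e => by
    rcases slToG2_eq_one _ e with e | e <;> simpa [trB] using congrFun (congrFun e 1) 0
  have hgen : (Subgroup.closure {trA l, (trB : SL2F F)}).map slToG2 = Subgroup.closure {b, slToG2 M ^ 2} := by
    have e : slToG2 M = b * slToG2 (trA l) := map_mul slToG2 trB (trA l)
    rw [MonoidHom.map_closure, Set.image_pair, e]
    exact closure_pair_sq _ _ (e ▸ hM5)
  obtain ⟨e⟩ := a5_of_relations b (slToG2 M ^ 2) hb3 (by rw [← pow_mul, mul_comm, pow_mul, hM5, one_pow]) hab hb1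
  rw [hgen, Nat.card_congr e.toEquiv, Nat.card_eq_fintype_card]
  rfl

end CfsgLib.Perm.Dickson
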