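import Cfsg.Agent.Lib.Perm.Dickson.Fields
import Cfsg.Agent.Lib.Perm.Dickson.Borel

/-!
# Transfer to the projective special linear group
-/

set_option autoImplicit false
set_option linter.all false

namespace CfsgLib.Perm.Dickson

open Matrix

variable {F : Type*} [Field F]

/-- `PSL(2)` -/
abbrev S2P (F : Type*) [Field F] := Matrix.ProjectiveSpecialLinearGroup (Fin 2) F

/-- the inclusion in `PGL(2)` -/
noncomputable abbrev incl : S2P F →* G2 F := Matrix.ProjectiveSpecialLinearGroup.toPGL

theorem incl_injective : Function.Injective (incl (F := F)) := Matrix.ProjectiveSpecialLinearGroup.toPGL_injective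

theorem incl_range : (incl (F := F)).range = psl F := range_toPGL F

theorem incl_mem (g : S2P F) : incl g ∈ psl F := incl_range (F := F) ▸ ⟨g, rfl⟩

/-- image of a subgroup of `PSL(2)` -/
noncomputable def up (H : Subgroup (S2P F)) : Subgroup (G2 F) := H.map incl

theorem up_le (H : Subgroup (S2P F)) : up H ≤ psl F := by
  rintro _ ⟨g, -, rfl⟩; exact incl_mem g

noncomputable def upEquiv (H : Subgroup (S2P F)) : H ≃* up H := H.equivMapOfInjective _ incl_injective

theorem card_up (H : Subgroup (S2P F)) : Nat.card (up H) = Nat.card H := (Nat.card_congr (upEquiv H).toEquiv).symm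

theorem mem_up {H : Subgroup (S2P F)} {g : S2P F} : incl g ∈ up H ↔ g ∈ H :=
  Subgroup.mem_map_iff_mem incl_injective

theorem up_top : up (⊤ : Subgroup (S2P F)) = psl F := by rw [up, ← MonoidHom.range_eq_map, incl_range]

theorem up_injective : Function.Injective (up : Subgroup (S2P F) → Subgroup (G2 F)) :=
  Subgroup.map_injective incl_injective

theorem up_le_iff {H K : Subgroup (S2P F)} : up H ≤ up K ↔ H ≤ K :=
  Subgroup.map_le_map_iff_of_injective incl_injective

/-- preimage in `PSL(2)` -/
noncomputable def down (H : Subgroup (G2 F)) : Subgroup (S2P F) := H.comap incl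

theorem up_down {H : Subgroup (G2 F)} (h : H ≤ psl F) : up (down H) = H :=
  Subgroup.map_comap_eq_self (incl_range (F := F) ▸ h)

theorem down_up (H : Subgroup (S2P F)) : down (up H) = H := Subgroup.comap_map_eq_self_of_injective incl_injective H

noncomputable def downEquiv {H : Subgroup (G2 F)} (h : H ≤ psl F) : down H ≃* H :=
  (upEquiv (down H)).trans (MulEquiv.subgroupCongr (up_down h))

theorem isCoatom_down {H : Subgroup (G2 F)} (h : H < psl F)
    (hmax : ∀ M, H ≤ M → M < psl F → M ≤ H) : IsCoatom (down H) := by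
  refine ⟨fun e => h.ne ?_, fun b hb => ?_⟩
  · rw [← up_down h.le, e, up_top]
  · by_contra hne
    have hle : H ≤ up b := by rw [← up_down h.le]; exact up_le_iff.2 hb.le
    have hlt : up b < psl F := lt_of_le_of_ne (up_le b) fun e => hne (up_injective (e.trans up_top.symm))
    exact hb.ne (by rw [← down_up b, le_antisymm hle (hmax _ hle hlt)])

theorem exists_coatom {H : Subgroup (G2 F)} {X : Type*} [Group X] (h : H < psl F)
    (hmax : ∀ M, H ≤ M → M < psl F → M ≤ H) (e : Nonempty (H ≃* X)) :
    ∃ H' : Subgroup (S2P F), IsCoatom H' ∧ Nonempty (H' ≃* X) :=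
  ⟨down H, isCoatom_down h hmax, ⟨(downEquiv h.le).trans e.some⟩⟩

/-- ring isomorphisms induce isomorphisms of `PGL(2)` -/
noncomputable def g2Congr {K : Type*} [Field K] (e : F ≃+* K) : G2 F ≃* G2 K :=
  MulEquiv.ofBijective (mapG (e : F →+* K)) ⟨mapG_injective _, mapG_surjective e⟩

/-- ring isomorphisms induce isomorphisms of `PSL(2)` -/
noncomputable def s2Congr {K : Type*} [Field K] (e : F ≃+* K) : S2P F ≃* S2P K :=
  ((pslEquiv F).trans (((psl F).equivMapOfInjective _ (mapG_injective (e : F →+* K))).trans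
    (MulEquiv.subgroupCongr (psl_map_equiv e)))).trans (pslEquiv K).symm

variable [Finite F]

theorem card_S2P : Nat.card (S2P F) = Nat.card (psl F) := Nat.card_congr (pslEquiv F).toEquiv

noncomputable def pglSubEquiv {K : Type*} [Field K] (F1 : Subfield F) (e : F1 ≃+* K) : pglSub F1 ≃* G2 K :=
  (MonoidHom.ofInjective (mapG_injective F1.subtype)).symm.trans (g2Congr e)

noncomputable def pslSubEquiv {K : Type*} [Field K] (F1 : Subfield F) (e : F1 ≃+* K) : pslSub F1 ≃* S2P K :=
  (((psl F1).equivMapOfInjective _ (mapG_injective F1.subtype)).symm.trans (pslEquiv F1).symm).trans (s2Congr e)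

/-- conjugation by `σ` as an isomorphism -/
noncomputable def conjEquiv (σ : G2 F) (H : Subgroup (G2 F)) : H ≃* conjG σ H := conjMap H σ

variable (p : ℕ) [Fact p.Prime] [CharP F p]
include p

theorem exists_subfield_ringEquiv {K : Type*} [Field K] [Finite K] {m : ℕ} (hm : 1 ≤ m)
    (h : Nat.card K ^ m = Nat.card F) : ∃ F1 : Subfield F, Nonempty (F1 ≃+* K) := by
  obtain ⟨f⟩ := exists_embedding p hm h
  exact ⟨f.fieldRange, ⟨(RingEquiv.ofBijective f.rangeRestrictField ⟨fun a b e => f.injective (congrArg Subtype.val e),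
    fun ⟨y, x, hx⟩ => ⟨x, Subtype.ext hx⟩⟩).symm⟩⟩

theorem factorization_card_psl {n : ℕ} (hn : Nat.card F = p ^ n) :
    (Nat.card (psl F)).factorization p = n := by
  haveI := finite_G2 (F := F)
  have h := card_psl F
  have hp : p.Prime := Fact.out
  have h1 : Nat.card F - 1 ≠ 0 := by have := card_pos_lt (F := F); omega
  have hg : ¬ p ∣ Nat.gcd 2 (Nat.card F - 1) := fun hd => not_dvd_q_sub_one (F := F) p (hd.trans (Nat.gcd_dvd_right _ _))
  have hq0 : Nat.card F ≠ 0 := Nat.card_pos.ne'
  have hd0 : Nat.gcd 2 (Nat.card F - 1) ≠ 0 := (Nat.gcd_pos_of_pos_left _ (by norm_num)).ne'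
  have hN0 : Nat.card (psl F) ≠ 0 := Nat.card_pos.ne'
  have h2 : Nat.card F + 1 ≠ 0 := by omega
  have e : (Nat.gcd 2 (Nat.card F - 1) * Nat.card (psl F)).factorization p =
      (Nat.card F * ((Nat.card F - 1) * (Nat.card F + 1))).factorization p := by rw [h]
  rw [Nat.factorization_mul hd0 hN0, Nat.factorization_mul hq0 (Nat.mul_ne_zero h1 h2),
    Nat.factorization_mul h1 h2] at e
  simp only [Finsupp.add_apply, Nat.factorization_eq_zero_of_not_dvd hg,
    Nat.factorization_eq_zero_of_not_dvd (not_dvd_q_sub_one (F := F) p),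
    Nat.factorization_eq_zero_of_not_dvd (not_dvd_q_add_one (F := F) p), zero_add, add_zero] at e
  rw [e, hn, hp.factorization_pow, Finsupp.single_eq_same]

/-- a subgroup fixing a point lies in a Sylow normaliser -/
theorem exists_sylow_normalizer {H : Subgroup (S2P F)} {x : P2 F} (hx : ∀ g ∈ up H, g • x = x) :
    ∃ P : Sylow p (S2P F), H ≤ Subgroup.normalizer ((P : Subgroup (S2P F)) : Set (S2P F)) := by
  haveI := finite_G2 (F := F)
  haveI : Finite (S2P F) := Finite.of_equiv _ (pslEquiv F).symm.toEquiv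
  obtain ⟨σ, hσ⟩ := exists_move_ip x
  let τ : Multiplicative F →* G2 F :=
    MonoidHom.mk' (fun t => σ⁻¹ * tr (Multiplicative.toAdd t) * σ) fun s t => by
      rw [toAdd_mul, ← tr_mul]; group
  have hτ : τ.range ≤ psl F := by
    rintro _ ⟨t, rfl⟩
    have := (psl_normal F).conj_mem _ (tr_mem_psl (Multiplicative.toAdd t)) σ⁻¹
    rw [inv_inv] at this
    exact this
  obtain ⟨n, -, hn⟩ := card_eq_pow (F := F) p
  have hcard : Nat.card (down τ.range) = p ^ (Nat.card (S2P F)).factorization p := by
    rw [card_S2P, factorization_card_psl p hn, ← hn, Nat.card_congr (downEquiv hτ).toEquiv,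
      ← Nat.card_congr (MonoidHom.ofInjective (f := τ) (fun s t e => Multiplicative.toAdd.injective
        (tr_injective (mul_left_cancel (mul_right_cancel e))))).toEquiv]
    exact Nat.card_congr Multiplicative.toAdd
  refine ⟨Sylow.ofCard (down τ.range) hcard, fun g hg => ?_⟩
  rw [Sylow.coe_ofCard, Subgroup.mem_normalizer_iff]
  have hfix : ∀ k : G2 F, k • x = x → ∀ y ∈ τ.range, k * y * k⁻¹ ∈ τ.range := by
    rintro k hk _ ⟨t, rfl⟩
    obtain ⟨s, u, hu⟩ := exists_of_fix_ip (g := σ * k * σ⁻¹) (by rw [conj_smul_eq hσ, hk, hσ])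
    refine ⟨Multiplicative.ofAdd ((u : F) * Multiplicative.toAdd t), ?_⟩
    have e : tr s * di u * tr (Multiplicative.toAdd t) * (tr s * di u)⁻¹ = tr ((u : F) * Multiplicative.toAdd t) := by
      rw [mul_assoc (tr s), di_tr, ← mul_assoc, tr_mul, _root_.mul_inv_rev, mul_assoc, ← mul_assoc (di u), mul_inv_cancel,
        one_mul, tr_inv, tr_mul]
      congr 1
      ring
    show σ⁻¹ * tr ((u : F) * Multiplicative.toAdd t) * σ = k * (σ⁻¹ * tr (Multiplicative.toAdd t) * σ) * k⁻¹
    rw [← e, ← hu]
    group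
  have hgx := hx _ (mem_up.2 hg)
  intro y
  constructor
  · intro hy
    show incl (g * y * g⁻¹) ∈ τ.range
    rw [map_mul, map_mul, map_inv]
    exact hfix _ hgx _ hy
  · intro hy
    have := hfix _ (show (incl g)⁻¹ • x = x by rw [inv_smul_eq_iff, hgx]) _ (show incl (g * y * g⁻¹) ∈ τ.range from hy)
    show incl y ∈ τ.range
    rw [map_mul, map_mul, map_inv] at this
    simpa [mul_assoc] using this

end CfsgLib.Perm.Dickson
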