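import Mathlib
import Cfsg.Agent.Lib.Classical.ProjLine
import Cfsg.Agent.Lib.Classical.DihedralO2
import Cfsg.Agent.Lib.Invol.SimpleSixty

/-!
# Recognition of A4, S4, A5 and dihedral groups
-/

set_option autoImplicit false
set_option linter.all false

namespace CfsgLib.Perm.Dickson

open scoped Pointwise

variable {G : Type*} [Group G] [Finite G]

theorem sylow_card {p : ℕ} [Fact p.Prime] (hp : p ∣ Nat.card G) (hp2 : ¬ p ^ 2 ∣ Nat.card G) (P : Sylow p G) :
    Nat.card (P : Subgroup G) = p := by
  rw [P.card_eq_multiplicity]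
  have hpr : p.Prime := Fact.out
  have h1 : 1 ≤ (Nat.card G).factorization p := (hpr.dvd_iff_one_le_factorization Nat.card_pos.ne').1 hp
  have h2 : ¬ 2 ≤ (Nat.card G).factorization p := fun h =>
    hp2 ((pow_dvd_pow p h).trans (Nat.ordProj_dvd _ _))
  rw [show (Nat.card G).factorization p = 1 by omega, pow_one]

/-- `P` as a Sylow subgroup -/
noncomputable def sylowPrime {p : ℕ} [Fact p.Prime] (hp2 : ¬ p ^ 2 ∣ Nat.card G) (P : Subgroup G) (hP : Nat.card P = p) :
    Sylow p G :=
  Sylow.ofCard P (by
    obtain ⟨S⟩ : Nonempty (Sylow p G) := inferInstance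
    rw [hP, ← S.card_eq_multiplicity, sylow_card (hP ▸ Subgroup.card_subgroup_dvd_card P) hp2])

theorem card_normalizer_mul {p : ℕ} [Fact p.Prime] (hp2 : ¬ p ^ 2 ∣ Nat.card G)
    {P : Subgroup G} (hP : Nat.card P = p) :
    Nat.card (Sylow p G) * Nat.card (Subgroup.normalizer (P : Set G)) = Nat.card G := by
  rw [Sylow.card_eq_index_normalizer (sylowPrime hp2 P hP), mul_comm]
  exact Subgroup.card_mul_index _

theorem sylow_count {p : ℕ} [Fact p.Prime] (hp2 : ¬ p ^ 2 ∣ Nat.card G)
    {P : Subgroup G} (hP : Nat.card P = p) (hn : ¬ P.Normal) :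
    Nat.card (Sylow p G) % p = 1 ∧ Nat.card (Sylow p G) * p ∣ Nat.card G ∧ Nat.card (Sylow p G) ≠ 1 := by
  have h := card_normalizer_mul hp2 hP
  refine ⟨?_, ?_, fun h1 => hn ?_⟩
  · rw [card_sylow_modEq_one p G]; exact Nat.one_mod_eq_one.2 (Fact.out : p.Prime).ne_one
  · obtain ⟨c, hc⟩ : p ∣ Nat.card (Subgroup.normalizer (P : Set G)) := hP ▸ Subgroup.card_dvd_of_le Subgroup.le_normalizer
    exact ⟨c, by rw [← h, hc]; ring⟩
  · rw [h1, one_mul] at h
    exact Subgroup.normalizer_eq_top_iff.1 (Subgroup.eq_top_of_card_eq _ h)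

/-- a normal subgroup of order divisible by `p` contains every element of order `p` -/
theorem mem_of_normal {p : ℕ} [Fact p.Prime] (hp2 : ¬ p ^ 2 ∣ Nat.card G) {N : Subgroup G} [N.Normal]
    (hN : p ∣ Nat.card N) {y : G} (hy : orderOf y = p) : y ∈ N := by
  obtain ⟨x, hx⟩ := exists_prime_orderOf_dvd_card' (G := N) p hN
  rw [← Subgroup.orderOf_coe] at hx
  obtain ⟨g, hg⟩ := MulAction.exists_smul_eq G (sylowPrime hp2 (Subgroup.zpowers (x : G)) (by rw [Nat.card_zpowers, hx]))
    (sylowPrime hp2 (Subgroup.zpowers y) (by rw [Nat.card_zpowers, hy]))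
  have hmem : y ∈ ((MulAut.conj g) • (Subgroup.zpowers (x : G)) : Subgroup G) := by
    have e := congrArg (fun S : Sylow p G => (S : Subgroup G)) hg
    simp only [Sylow.coe_subgroup_smul, sylowPrime, Sylow.coe_ofCard] at e
    exact e.symm ▸ Subgroup.mem_zpowers y
  obtain ⟨z, hz, rfl⟩ := hmem
  exact Subgroup.Normal.conj_mem inferInstance z (Subgroup.zpowers_le.2 x.2 hz) g

theorem card_order_eq {p : ℕ} [Fact p.Prime] (hp : p ∣ Nat.card G) (hp2 : ¬ p ^ 2 ∣ Nat.card G) :
    Nat.card {x : G // orderOf x = p} = Nat.card (Sylow p G) * (p - 1) := by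
  classical
  haveI := Fintype.ofFinite G
  have hgen : ∀ (S : Sylow p G) (x : G), orderOf x = p → (x ∈ (S : Subgroup G) ↔ (S : Subgroup G) = Subgroup.zpowers x) := by
    intro S x ho
    refine ⟨fun hx => (Subgroup.eq_of_le_of_card_ge (Subgroup.zpowers_le.2 hx) ?_).symm, fun e => e ▸ Subgroup.mem_zpowers x⟩
    rw [Nat.card_zpowers, ho, sylow_card hp hp2 S]
  let f : {x : G // orderOf x = p} → Sylow p G := fun x =>
    sylowPrime hp2 (Subgroup.zpowers x.1) (by rw [Nat.card_zpowers, x.2])
  have hfib : ∀ S : Sylow p G, Nat.card {x // f x = S} = p - 1 := by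
    intro S
    have e : {x // f x = S} ≃ {x : (S : Subgroup G) // x ≠ 1} :=
      { toFun := fun x => ⟨⟨x.1.1, by
            have := congrArg (fun T : Sylow p G => (T : Subgroup G)) x.2
            exact this ▸ Subgroup.mem_zpowers x.1.1⟩, fun e => (Fact.out : p.Prime).ne_one (by
            rw [← x.1.2, show x.1.1 = 1 from congrArg Subtype.val e, orderOf_one])⟩
        invFun := fun x => ⟨⟨x.1.1, by
            have hd := orderOf_dvd_natCard x.1
            rw [sylow_card hp hp2 S, Nat.dvd_prime Fact.out, orderOf_eq_one_iff] at hd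
            rw [Subgroup.orderOf_coe]; exact hd.resolve_left x.2⟩, by
            refine Sylow.ext ?_
            exact ((hgen S x.1.1 (by
              have hd := orderOf_dvd_natCard x.1
              rw [sylow_card hp hp2 S, Nat.dvd_prime Fact.out, orderOf_eq_one_iff] at hd
              rw [Subgroup.orderOf_coe]; exact hd.resolve_left x.2)).1 x.1.2).symm⟩
        left_inv := fun _ => rfl
        right_inv := fun _ => rfl }
    haveI := Fintype.ofFinite (S : Subgroup G)
    rw [Nat.card_congr e, Nat.card_eq_fintype_card, Fintype.card_subtype_compl, Fintype.card_subtype_eq,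
      ← Nat.card_eq_fintype_card, sylow_card hp hp2 S]
  haveI := Fintype.ofFinite (Sylow p G)
  rw [← Nat.card_congr (Equiv.sigmaFiberEquiv f), Nat.card_sigma, Finset.sum_congr rfl fun S _ => hfib S,
    Finset.sum_const, Finset.card_univ, smul_eq_mul, Nat.card_eq_fintype_card]

/-- an element of order five fixes every small set normalised by it -/
theorem comm_of_small {z : G} (hz : z ^ 5 = 1) (T : Subgroup G) (hT : Nat.card T < 5)
    (hzT : z ∈ Subgroup.normalizer (T : Set G)) {t : G} (ht : t ∈ T) : z * t = t * z := by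
  classical
  haveI := Fintype.ofFinite T
  let σ : Equiv.Perm T :=
    { toFun := fun s => ⟨z * s * z⁻¹, (Subgroup.mem_normalizer_iff.1 hzT s).1 s.2⟩
      invFun := fun s => ⟨z⁻¹ * s * z, by
        have := (Subgroup.mem_normalizer_iff.1 (inv_mem hzT) s).1 s.2
        simpa using this⟩
      left_inv := fun s => Subtype.ext (by simp [mul_assoc])
      right_inv := fun s => Subtype.ext (by simp [mul_assoc]) }
  have hpow : ∀ (n : ℕ) (s : T), (((σ ^ n) s : T) : G) = z ^ n * s * (z ^ n)⁻¹ := by
    intro n
    induction n with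
    | zero => simp
    | succ n ih =>
      intro s
      rw [pow_succ', Equiv.Perm.mul_apply]
      show z * ((σ ^ n) s : G) * z⁻¹ = _
      rw [ih, pow_succ' z n]
      group
  have h5 : σ ^ 5 = 1 := Equiv.ext fun s => Subtype.ext (by rw [hpow, hz]; simp)
  have hd : orderOf σ ∣ 5 := orderOf_dvd_of_pow_eq_one h5
  rcases (Nat.dvd_prime Nat.prime_five).1 hd with h | h
  · rw [orderOf_eq_one_iff] at h
    have := congrArg (fun τ : Equiv.Perm T => ((τ ⟨t, ht⟩ : T) : G)) h
    change z * t * z⁻¹ = t at this
    exact mul_inv_eq_iff_eq_mul.1 this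
  · have hd2 := orderOf_dvd_card (x := σ)
    rw [h, Fintype.card_perm, ← Nat.card_eq_fintype_card] at hd2
    interval_cases hc : Nat.card T <;> norm_num [Nat.factorial] at hd2

/-- a group of order sixty with a non-normal subgroup of order five is simple -/
theorem simple_of_sixty (h : Nat.card G = 60) {P : Subgroup G} (hP : Nat.card P = 5) (hn : ¬ P.Normal) :
    IsSimpleGroup G := by
  classical
  haveI : Fact (Nat.Prime 5) := ⟨Nat.prime_five⟩
  haveI : Fact (Nat.Prime 3) := ⟨Nat.prime_three⟩
  have h25 : ¬ 5 ^ 2 ∣ Nat.card G := by rw [h]; norm_num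
  have h9 : ¬ 3 ^ 2 ∣ Nat.card G := by rw [h]; norm_num
  have n5 : Nat.card (Sylow 5 G) = 6 := by
    obtain ⟨h1, h2, h3⟩ := sylow_count h25 hP hn
    rw [h] at h2
    have : Nat.card (Sylow 5 G) ∣ 12 := Nat.dvd_of_mul_dvd_mul_right (by norm_num) (show _ * 5 ∣ 12 * 5 from h2)
    have := Nat.le_of_dvd (by norm_num) this
    interval_cases (Nat.card (Sylow 5 G)) <;> omega
  have hN10 : Nat.card (Subgroup.normalizer (P : Set G)) = 10 := by
    have := card_normalizer_mul h25 hP
    rw [n5, h] at this
    omega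
  obtain ⟨z, hzP, hzo⟩ : ∃ z ∈ P, orderOf z = 5 := by
    obtain ⟨x, hx⟩ := exists_prime_orderOf_dvd_card' (G := P) 5 (by rw [hP])
    exact ⟨x, x.2, by rw [Subgroup.orderOf_coe, hx]⟩
  have hzP' : Subgroup.zpowers z = P :=
    Subgroup.eq_of_le_of_card_ge (Subgroup.zpowers_le.2 hzP) (by rw [Nat.card_zpowers, hzo, hP])
  have hzpow : z ^ 5 = 1 := hzo ▸ pow_orderOf_eq_one z
  -- commuting with `z` forces membership in the normaliser
  have hcomm : ∀ t : G, z * t = t * z → t ∈ Subgroup.normalizer (P : Set G) := by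
    intro t ht
    have hc : ∀ x ∈ P, t * x * t⁻¹ = x := by
      intro x hx
      rw [← hzP', Subgroup.mem_zpowers_iff] at hx
      obtain ⟨k, rfl⟩ := hx
      rw [((show Commute t z from ht.symm).zpow_right k).eq, mul_inv_cancel_right]
    rw [Subgroup.mem_normalizer_iff]
    refine fun x => ⟨fun hx => (hc x hx).symm ▸ hx, fun hx => ?_⟩
    have := hc _ hx
    have e : x = t * x * t⁻¹ := by
      have e1 : t * x * t⁻¹ = t * (t * x * t⁻¹) * t⁻¹ := this.symm
      exact mul_left_cancel (a := t) (mul_right_cancel e1)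
    exact e ▸ hx
  have n3 : Nat.card (Sylow 3 G) = 10 := by
    obtain ⟨T0⟩ : Nonempty (Sylow 3 G) := inferInstance
    have hno : ∀ S : Sylow 3 G, z ∉ Subgroup.normalizer ((S : Subgroup G) : Set G) := by
      intro S hz
      have hS := sylow_card (by rw [h]; norm_num) h9 S
      have hle : (S : Subgroup G) ≤ Subgroup.normalizer (P : Set G) := fun t ht =>
        hcomm t (comm_of_small hzpow _ (by omega) hz ht)
      have := Subgroup.card_dvd_of_le hle
      rw [hS, hN10] at this
      norm_num at this
    have h5 : 5 ∣ Nat.card (Sylow 3 G) := by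
      by_contra hnd
      have hPp : IsPGroup 5 P := IsPGroup.of_card (n := 1) (by rw [hP, pow_one])
      obtain ⟨S, hS⟩ := hPp.nonempty_fixed_point_of_prime_not_dvd_card (Sylow 3 G) hnd
      exact hno S (Sylow.smul_eq_iff_mem_normalizer.1 (hS ⟨z, hzP⟩))
    have hd : Nat.card (Sylow 3 G) ∣ 60 := h ▸ (T0.card_dvd_index.trans (T0 : Subgroup G).index_dvd_card)
    have hm : Nat.card (Sylow 3 G) % 3 = 1 := by
      rw [card_sylow_modEq_one 3 G]
    have := Nat.le_of_dvd (by norm_num) hd
    obtain ⟨c, hc⟩ := h5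
    rw [hc] at hd hm ⊢
    have hd' : c ∣ 12 := Nat.dvd_of_mul_dvd_mul_left (by norm_num : 0 < 5) hd
    have := Nat.le_of_dvd (by norm_num) hd'
    interval_cases c <;> omega
  have c5 : Nat.card {x : G // orderOf x = 5} = 24 := by rw [card_order_eq (by rw [h]; norm_num) h25, n5]
  have c3 : Nat.card {x : G // orderOf x = 3} = 20 := by rw [card_order_eq (by rw [h]; norm_num) h9, n3]
  haveI := Fintype.ofFinite G
  simp only [Nat.card_eq_fintype_card, Fintype.card_subtype] at c5 c3
  haveI : Nontrivial G := Finite.one_lt_card_iff_nontrivial.1 (by omega)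
  refine ⟨fun N hN => ?_⟩
  have hd : Nat.card N ∣ 60 := h ▸ N.card_subgroup_dvd_card
  have hNf : Nat.card N = (Finset.univ.filter fun x => x ∈ N).card := by
    rw [Nat.card_eq_fintype_card, Fintype.card_subtype]
  have hsub : ∀ p : ℕ, p.Prime → ¬ p ^ 2 ∣ Nat.card G → p ∣ Nat.card N →
      (Finset.univ.filter fun x : G => orderOf x = p) ⊆ (Finset.univ.filter fun x => x ∈ N).erase 1 := by
    intro p hp hp2 hdp x hx
    haveI := Fact.mk hp
    simp only [Finset.mem_filter, Finset.mem_univ, true_and] at hx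
    refine Finset.mem_erase.2 ⟨fun e => hp.ne_one (by rw [← hx, e, orderOf_one]), ?_⟩
    simpa using mem_of_normal hp2 hdp hx
  have herase : ((Finset.univ.filter fun x => x ∈ N).erase 1).card = Nat.card N - 1 := by
    rw [Finset.card_erase_of_mem (by simp), hNf]
  have hle60 := Nat.le_of_dvd (by norm_num) hd
  by_cases h5 : 5 ∣ Nat.card N
  · by_cases h3 : 3 ∣ Nat.card N
    · right
      have hu := Finset.card_le_card (Finset.union_subset (hsub 5 Nat.prime_five h25 h5) (hsub 3 Nat.prime_three h9 h3))
      rw [Finset.card_union_of_disjoint, c5, c3, herase] at hu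
      · obtain ⟨c, hc⟩ := hd
        have : c ≤ 1 := by
          by_contra hc2
          have : Nat.card N * 2 ≤ 60 := hc ▸ Nat.mul_le_mul_left _ (by omega)
          omega
        interval_cases c
        · omega
        · exact Subgroup.eq_top_of_card_eq _ (by omega)
      · simp only [Finset.disjoint_left, Finset.mem_filter]
        intro x h1 h2; omega
    · exfalso
      have hu := Finset.card_le_card (hsub 5 Nat.prime_five h25 h5)
      rw [c5, herase] at hu
      have := Nat.le_of_dvd (by norm_num) (Nat.Coprime.dvd_of_dvd_mul_left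
        ((Nat.Prime.coprime_iff_not_dvd Nat.prime_three).2 h3).symm (show Nat.card N ∣ 3 * 20 from hd))
      omega
  · have hd12 : Nat.card N ∣ 12 := Nat.Coprime.dvd_of_dvd_mul_left
      ((Nat.Prime.coprime_iff_not_dvd Nat.prime_five).2 h5).symm (show Nat.card N ∣ 5 * 12 from hd)
    have := Nat.le_of_dvd (by norm_num) hd12
    by_cases h3 : 3 ∣ Nat.card N
    · exfalso
      have hu := Finset.card_le_card (hsub 3 Nat.prime_three h9 h3)
      rw [c3, herase] at hu
      omega
    · left
      have hd4 : Nat.card N ∣ 4 := Nat.Coprime.dvd_of_dvd_mul_left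
        ((Nat.Prime.coprime_iff_not_dvd Nat.prime_three).2 h3).symm (show Nat.card N ∣ 3 * 4 from hd12)
      have hle4 := Nat.le_of_dvd (by norm_num) hd4
      have hNP : N ≤ Subgroup.normalizer (P : Set G) := fun t ht => hcomm t
        (comm_of_small hzpow N (by omega) (by rw [Subgroup.normalizer_eq_top]; exact Subgroup.mem_top z) ht)
      have hd2 : Nat.card N ∣ 2 := by
        have := Nat.dvd_gcd hd4 (hN10 ▸ Subgroup.card_dvd_of_le hNP)
        simpa using this
      rcases (Nat.dvd_prime Nat.prime_two).1 hd2 with h1 | h2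
      · exact Subgroup.eq_bot_of_card_eq _ h1
      · exfalso
        obtain ⟨w, hw⟩ := exists_prime_orderOf_dvd_card' (G := N) 2 (by rw [h2])
        rw [← Subgroup.orderOf_coe] at hw
        have hall : ∀ g : G, Commute g (w : G) := by
          intro g
          have hmem : g * w * g⁻¹ ∈ N := hN.conj_mem _ w.2 g
          have hne : g * w * g⁻¹ ≠ 1 := fun e => by
            rw [conj_eq_one_iff] at e
            rw [e, orderOf_one] at hw
            omega
          have hcase : ∀ x ∈ N, x = 1 ∨ x = (w : G) := by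
            intro x hx
            have hz : Subgroup.zpowers (w : G) = N :=
              Subgroup.eq_of_le_of_card_ge (Subgroup.zpowers_le.2 w.2) (by rw [Nat.card_zpowers, hw, h2])
            rw [← hz, mem_zpowers_iff_mem_range_orderOf, hw, Finset.mem_image] at hx
            obtain ⟨i, hi, rfl⟩ := hx
            rw [Finset.mem_range] at hi
            interval_cases i <;> simp
          have e := (hcase _ hmem).resolve_left hne
          show g * w = w * g
          exact mul_inv_eq_iff_eq_mul.1 e
        let m : G ↪ G := ⟨fun x => x * w, fun a b e => mul_right_cancel e⟩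
        have h6 : ∀ x, orderOf x = 3 → orderOf (x * (w : G)) = 6 := fun x hx => by
          rw [(hall x).orderOf_mul_eq_mul_orderOf_of_coprime (by rw [hx, hw]; norm_num), hx, hw]
        have hu := Finset.card_le_univ ((Finset.univ.filter fun x : G => orderOf x = 5) ∪
          ((Finset.univ.filter fun x : G => orderOf x = 3) ∪ (Finset.univ.filter fun x : G => orderOf x = 3).map m))
        rw [← Nat.card_eq_fintype_card, h, Finset.card_union_of_disjoint, Finset.card_union_of_disjoint,
          Finset.card_map, c5, c3] at hu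
        · omega
        all_goals
          simp only [Finset.disjoint_left, Finset.mem_union, Finset.mem_map, Finset.mem_filter, Finset.mem_univ,
            true_and]
        · rintro x hx ⟨y, hy, rfl⟩
          have e : orderOf (m y) = 6 := h6 y hy
          simp_all
        · rintro x hx (h1 | ⟨y, hy, rfl⟩)
          · omega
          · have e : orderOf (m y) = 6 := h6 y hy
            simp_all

theorem mulEquiv_a5 (h : Nat.card G = 60) {P : Subgroup G} (hP : Nat.card P = 5) (hn : ¬ P.Normal) :
    Nonempty (G ≃* alternatingGroup (Fin 5)) := by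
  haveI := simple_of_sixty h hP hn
  exact CfsgLib.Invol.mulEquiv_alternating_five h

/-- the action on the cosets of the normalizer of a subgroup of order three -/
theorem embed_four {n : ℕ} (hn : Nat.card G = n) (hcases : n = 12 ∨ n = 24) {T : Subgroup G} (hT : Nat.card T = 3)
    (hnT : ¬ T.Normal) (h6 : n = 24 → ∀ g : G, orderOf g ≠ 6) :
    ∃ f : G →* Equiv.Perm (Fin 4), Function.Injective f := by
  classical
  haveI : Fact (Nat.Prime 3) := ⟨Nat.prime_three⟩
  subst hn
  have h9 : ¬ 3 ^ 2 ∣ Nat.card G := by rcases hcases with h | h <;> rw [h] <;> norm_num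
  obtain ⟨hm, hd, h1⟩ := sylow_count h9 hT hnT
  have n3 : Nat.card (Sylow 3 G) = 4 := by
    rcases hcases with h | h <;> rw [h] at hd
    · have := Nat.le_of_dvd (by norm_num) (Nat.dvd_of_mul_dvd_mul_right (by norm_num) (show _ * 3 ∣ 4 * 3 from hd))
      omega
    · have hd8 := Nat.dvd_of_mul_dvd_mul_right (by norm_num) (show _ * 3 ∣ 8 * 3 from hd)
      have := Nat.le_of_dvd (by norm_num) hd8
      interval_cases (Nat.card (Sylow 3 G)) <;> omega
  have hmul := card_normalizer_mul h9 hT
  rw [n3] at hmul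
  set M := Subgroup.normalizer (T : Set G) with hM
  have hidx : M.index = 4 := by
    have := M.card_mul_index
    rcases hcases with h | h <;> rw [h] at this hmul <;> nlinarith
  let e : G ⧸ M ≃ Fin 4 :=
    (Nat.equivFinOfCardPos (by rw [← Subgroup.index_eq_card, hidx]; norm_num)).trans
      (finCongr (by rw [← Subgroup.index_eq_card, hidx]))
  refine ⟨e.permCongrHom.toMonoidHom.comp (MulAction.toPermHom G (G ⧸ M)), e.permCongrHom.injective.comp ?_⟩
  rw [← MonoidHom.ker_eq_bot_iff, ← Subgroup.normalCore_eq_ker]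
  have hcore : M.normalCore ≤ M := Subgroup.normalCore_le M
  have h3 : ¬ 3 ∣ Nat.card M.normalCore := by
    intro h3
    apply hnT
    have hTsub : ∀ {S : Subgroup G}, Nat.card S = 3 → S ≤ M → S = T := by
      intro S hS hSM
      have hTM : T ≤ M := Subgroup.le_normalizer
      have hn' : (T.subgroupOf M).Normal := Subgroup.normal_in_normalizer
      have h9' : ¬ 3 ^ 2 ∣ Nat.card M := fun hh => h9 (hh.trans M.card_subgroup_dvd_card)
      obtain ⟨g, hg⟩ := MulAction.exists_smul_eq M
        (sylowPrime h9' (T.subgroupOf M) (by rw [Nat.card_congr (Subgroup.subgroupOfEquivOfLe hTM).toEquiv, hT]))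
        (sylowPrime h9' (S.subgroupOf M) (by rw [Nat.card_congr (Subgroup.subgroupOfEquivOfLe hSM).toEquiv, hS]))
      have e := congrArg (fun S : Sylow 3 M => (S : Subgroup M)) hg
      simp only [Sylow.coe_subgroup_smul, sylowPrime, Sylow.coe_ofCard] at e
      rw [show MulAut.conj g • T.subgroupOf M = T.subgroupOf M from Subgroup.Normal.conj_smul_eq_self g _, Subgroup.subgroupOf_inj, inf_eq_left.2 hTM, inf_eq_left.2 hSM] at e
      exact e.symm
    haveI : M.normalCore.Normal := Subgroup.normalCore_normal M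
    refine ⟨fun x hx g => ?_⟩
    have hTN : T ≤ M.normalCore := by
      intro y hy
      have hd3 : orderOf y ∣ 3 := hT ▸ (Subgroup.orderOf_mk y hy ▸ orderOf_dvd_natCard (⟨y, hy⟩ : T))
      rcases (Nat.dvd_prime Nat.prime_three).1 hd3 with ho | ho
      · rw [orderOf_eq_one_iff] at ho; rw [ho]; exact one_mem _
      · exact mem_of_normal h9 h3 ho
    have : T.map (MulAut.conj g).toMonoidHom = T := hTsub
      (by rw [Nat.card_congr (T.equivMapOfInjective _ (MulAut.conj g).injective).symm.toEquiv, hT])
      (by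
        rintro _ ⟨y, hy, rfl⟩
        exact hcore (Subgroup.Normal.conj_mem inferInstance y (hTN hy) g))
    rw [← this]
    exact ⟨x, hx, rfl⟩
  rcases hcases with h | h
  · have hc : Nat.card M = 3 := by omega
    have := Subgroup.card_dvd_of_le hcore
    rw [hc, Nat.dvd_prime Nat.prime_three] at this
    rcases this with h' | h'
    · exact Subgroup.eq_bot_of_card_eq _ h'
    · exact absurd (by rw [h']) h3
  · have hc : Nat.card M = 6 := by omega
    have hdv := Subgroup.card_dvd_of_le hcore
    rw [hc] at hdv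
    have hd2 : Nat.card M.normalCore ∣ 2 := Nat.Coprime.dvd_of_dvd_mul_left
      ((Nat.Prime.coprime_iff_not_dvd Nat.prime_three).2 h3).symm (show _ ∣ 3 * 2 from hdv)
    rcases (Nat.dvd_prime Nat.prime_two).1 hd2 with h' | h'
    · exact Subgroup.eq_bot_of_card_eq _ h'
    · exfalso
      obtain ⟨w, hw⟩ := exists_prime_orderOf_dvd_card' (G := M.normalCore) 2 (by rw [h'])
      rw [← Subgroup.orderOf_coe] at hw
      obtain ⟨t, ht⟩ := exists_prime_orderOf_dvd_card' (G := T) 3 (by rw [hT])
      rw [← Subgroup.orderOf_coe] at ht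
      haveI : M.normalCore.Normal := Subgroup.normalCore_normal M
      have hmem : (t : G) * w * (t : G)⁻¹ ∈ M.normalCore := Subgroup.Normal.conj_mem inferInstance _ w.2 _
      have hz : Subgroup.zpowers (w : G) = M.normalCore :=
        Subgroup.eq_of_le_of_card_ge (Subgroup.zpowers_le.2 w.2) (by rw [Nat.card_zpowers, hw, h'])
      replace hmem : (t : G) * w * (t : G)⁻¹ ∈ Subgroup.zpowers (w : G) := by rw [hz]; exact hmem
      rw [mem_zpowers_iff_mem_range_orderOf, hw, Finset.mem_image] at hmem
      obtain ⟨i, hi, hi'⟩ := hmem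
      rw [Finset.mem_range] at hi
      interval_cases i
      · rw [pow_zero] at hi'
        have := conj_eq_one_iff.1 hi'.symm
        rw [this, orderOf_one] at hw
        omega
      · rw [pow_one] at hi'
        have hcm : Commute (t : G) (w : G) := mul_inv_eq_iff_eq_mul.1 hi'.symm
        exact h6 h _ (by rw [hcm.orderOf_mul_eq_mul_orderOf_of_coprime (by rw [ht, hw]; norm_num), ht, hw])

theorem mulEquiv_a4 (h : Nat.card G = 12) {T : Subgroup G} (hT : Nat.card T = 3) (hnT : ¬ T.Normal) :
    Nonempty (G ≃* alternatingGroup (Fin 4)) := by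
  obtain ⟨f, hf⟩ := embed_four h (Or.inl rfl) hT hnT (fun e => absurd e (by norm_num))
  exact CfsgLib.Classical.mulEquiv_alternating_of_card f hf (by rw [h]; rfl)

theorem mulEquiv_s4 (h : Nat.card G = 24) {T : Subgroup G} (hT : Nat.card T = 3) (hnT : ¬ T.Normal)
    (h6 : ∀ g : G, orderOf g ≠ 6) : Nonempty (G ≃* Equiv.Perm (Fin 4)) := by
  obtain ⟨f, hf⟩ := embed_four h (Or.inr rfl) hT hnT (fun _ => h6)
  refine ⟨MulEquiv.ofBijective f ((Nat.bijective_iff_injective_and_card f).2 ⟨hf, ?_⟩)⟩
  rw [h, Nat.card_perm, Nat.card_fin]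
  rfl

/-- a cyclic subgroup of index two with involutions outside gives a dihedral group -/
theorem mulEquiv_dihedral {C : Subgroup G} (hC : IsCyclic C) (h2 : 2 * Nat.card C = Nat.card G)
    (hinv : ∀ g : G, g ∉ C → g * g = 1) : Nonempty (G ≃* DihedralGroup (Nat.card C)) := by
  obtain ⟨⟨c, hc⟩⟩ := hC
  obtain ⟨x, hx⟩ : ∃ x, x ∉ C := by
    by_contra hcon
    push Not at hcon
    have : C = ⊤ := eq_top_iff.2 fun g _ => hcon g
    rw [this, Subgroup.card_top] at h2
    have := Nat.card_pos (α := G)
    omega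
  have hz : Subgroup.zpowers (c : G) = C := by
    ext g
    refine ⟨fun hg => Subgroup.zpowers_le.2 c.2 hg, fun hg => ?_⟩
    obtain ⟨k, hk⟩ := hc ⟨g, hg⟩
    exact ⟨k, congrArg Subtype.val hk⟩
  have hidx : C.index = 2 := by
    have := C.card_mul_index
    rw [← h2, mul_comm 2] at this
    exact Nat.eq_of_mul_eq_mul_left Nat.card_pos this
  have hxc : x * (c : G) ∉ C := fun hh => hx ((C.mul_mem_cancel_right c.2).1 hh)
  have e1 := hinv x hx
  have e2 := hinv _ hxc
  have hinvert : x * c * x = (c : G)⁻¹ := by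
    rw [eq_inv_iff_mul_eq_one]
    simpa [mul_assoc] using e2
  have := CfsgLib.Classical.mulEquiv_dihedral_of_inverting (x := x) (M := (c : G)) e1
    (fun e => hx (e ▸ one_mem C)) hinvert (fun e => hxc (e ▸ one_mem C)) (fun g => ?_)
  · rwa [← Nat.card_zpowers, hz] at this
  · rw [hz]
    by_cases hg : g ∈ C
    · exact Or.inl hg
    · exact Or.inr ((Subgroup.mul_mem_iff_of_index_two hidx).2 ⟨fun h => absurd h hx, fun h => absurd h hg⟩)

end CfsgLib.Perm.Dickson
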