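import Cfsg.Agent.Lib.Perm.Dickson.Subfield
import Cfsg.Agent.Lib.Perm.Dickson.Recog

/-!
# Dickson's list
-/

set_option autoImplicit false
set_option linter.all false

namespace CfsgLib.Perm.Dickson

variable {K : Type*} [Field K]

/-- the multiplier of an element fixing infinity -/
noncomputable def chiFun (g : MulAction.stabilizer (G2 K) (ip : P2 K)) : Kˣ :=
  (exists_of_fix_ip (g := (g : G2 K)) g.2).choose_spec.choose

theorem chiFun_spec {g : MulAction.stabilizer (G2 K) (ip : P2 K)} {t : K} {u : Kˣ} (h : (g : G2 K) = tr t * di u) :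
    chiFun g = u :=
  (trdi_inj ((exists_of_fix_ip (g := (g : G2 K)) g.2).choose_spec.choose_spec.symm.trans h)).2

/-- the multiplier as a homomorphism -/
noncomputable def chi : MulAction.stabilizer (G2 K) (ip : P2 K) →* Kˣ :=
  MonoidHom.mk' chiFun fun a b => by
    obtain ⟨s, u, ha⟩ := exists_of_fix_ip (g := (a : G2 K)) a.2
    obtain ⟨t, v, hb⟩ := exists_of_fix_ip (g := (b : G2 K)) b.2
    rw [chiFun_spec ha, chiFun_spec hb, chiFun_spec (t := s + (u : K) * t) (u := u * v)]
    rw [Subgroup.coe_mul, ha, hb, trdi_mul]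

theorem chi_spec {g : MulAction.stabilizer (G2 K) (ip : P2 K)} {t : K} {u : Kˣ} (h : (g : G2 K) = tr t * di u) :
    chi g = u :=
  chiFun_spec h

theorem eq_tr_of_chi {g : MulAction.stabilizer (G2 K) (ip : P2 K)} (h : chi g = 1) : ∃ t, (g : G2 K) = tr t := by
  obtain ⟨t, u, hg⟩ := exists_of_fix_ip (g := (g : G2 K)) g.2
  rw [chi_spec hg] at h
  exact ⟨t, by rw [hg, h, di_one, mul_one]⟩

/-- a group fixing a point without unipotent elements is cyclic -/
theorem isCyclic_of_fix (H : Subgroup (G2 K)) [Finite H] {x : P2 K} (hx : ∀ g ∈ H, g • x = x)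
    (h1 : ∀ g ∈ H, (∀ y : P2 K, g • y = y → y = x) → g = 1) : IsCyclic H := by
  obtain ⟨σ, hσ⟩ := exists_move_ip x
  have hmem : ∀ g : H, σ * (g : G2 K) * σ⁻¹ ∈ MulAction.stabilizer (G2 K) (ip : P2 K) := fun g => by
    rw [MulAction.mem_stabilizer_iff, ← hσ, mul_smul, inv_smul_smul, mul_smul, hx g.1 g.2]
  let f : H →* Kˣ := chi.comp (MonoidHom.codRestrict ((MulAut.conj σ).toMonoidHom.comp H.subtype) _ hmem)
  refine isCyclic_of_subgroup_isDomain ((Units.coeHom K).comp f) (Units.val_injective.comp ?_)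
  rw [injective_iff_map_eq_one]
  intro g hg
  obtain ⟨t, ht⟩ := eq_tr_of_chi hg
  change σ * (g : G2 K) * σ⁻¹ = tr t at ht
  by_cases ht0 : t = 0
  · refine Subtype.ext ?_
    rw [ht0, tr_zero, conj_eq_one_iff] at ht
    exact ht
  refine Subtype.ext (h1 g.1 g.2 fun y hy => ?_)
  refine MulAction.injective σ ?_
  show σ • y = σ • x
  rw [hσ]
  refine ((single_fix_iff t 1).2 ⟨rfl, ht0⟩) _ ?_
  rw [di_one, mul_one, ← ht, mul_smul, inv_smul_smul, mul_smul, hy]

variable (p : ℕ) (G : Subgroup (G2 K))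

/-- Dickson's list for finite subgroups -/
inductive DType : Prop
  | fix (x : P2 K) (h : ∀ g : G, g • x = x) : DType
  | dihedral (C : Subgroup G) (hC : IsCyclic C) (h2 : 2 * Nat.card C = Nat.card G) (hp : ¬ p ∣ Nat.card C)
      (a b : P2 K) (hab : a ≠ b) (ha : ∀ g ∈ C, g • a = a) (hb : ∀ g ∈ C, g • b = b)
      (hinv : ∀ g : G, g ∉ C → g * g = 1) : DType
  | a4 (hN : Nat.card G = 12) (h2 : p ≠ 2) (h3 : p ≠ 3) (h : Nonempty (G ≃* alternatingGroup (Fin 4))) : DType
  | s4 (hN : Nat.card G = 24) (h2 : p ≠ 2) (h3 : p ≠ 3) (h : Nonempty (G ≃* Equiv.Perm (Fin 4))) : DType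
  | a5 (hN : Nat.card G = 60) (h2 : p ≠ 2) (h5 : p ≠ 5) (h : Nonempty (G ≃* alternatingGroup (Fin 5))) : DType
  | subfield (h : IsSubfieldType G) : DType

variable {p G} [Finite G]

theorem orderOf_dvd_sC {g : G} {x : P2 K} (h : g • x = x) : orderOf g ∣ sC G x := by
  have h' : g ∈ MulAction.stabilizer G x := h
  have := orderOf_dvd_natCard (⟨g, h'⟩ : MulAction.stabilizer G x)
  rwa [Subgroup.orderOf_mk] at this

theorem stab_not_normal {x : P2 K} (hs : 2 ≤ sC G x) (hm : 3 ≤ Nat.card (MulAction.orbit G x)) :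
    ¬ (MulAction.stabilizer G x).Normal := by
  intro hn
  haveI : Nontrivial (MulAction.stabilizer G x) := Finite.one_lt_card_iff_nontrivial.1 hs
  obtain ⟨⟨g, hg⟩, hg1⟩ := exists_ne (1 : MulAction.stabilizer G x)
  have hg1' : g ≠ 1 := fun e => hg1 (Subtype.ext e)
  obtain ⟨y, -, hxy⟩ := fixed_pair G hg1' (x := x) hg
  have hsub : MulAction.orbit G x ⊆ {x, y} := by
    rintro z ⟨h, rfl⟩
    refine hxy _ ?_
    have := hn.conj_mem g hg h⁻¹
    rw [inv_inv, MulAction.mem_stabilizer_iff, mul_smul, mul_smul, inv_smul_eq_iff] at this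
    exact this
  have := Set.ncard_le_ncard hsub (Set.toFinite _)
  have h2 : ({x, y} : Set (P2 K)).ncard ≤ 2 := (Set.ncard_insert_le _ _).trans (by rw [Set.ncard_singleton])
  rw [← Nat.card_coe_set_eq] at this
  omega

theorem card_stab_group (x : P2 K) : Nat.card (MulAction.stabilizer G x) = sC G x := rfl

variable [Fact p.Prime] [CharP K p]

theorem dihedral_case {z : P2 K} (hzP : z ∈ Pts G) (h2 : Nat.card G = 2 * sC G z) (hu : uC G z = 1)
    (hs : ∀ g : G, g ≠ 1 → ∃ x : P2 K, g • x = x)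
    (hw : ∀ w ∈ Pts G, w ∈ MulAction.orbit G z ∨ sC G w = 2) : DType p G := by
  set C := MulAction.stabilizer G z with hC
  have hcard : Nat.card (MulAction.orbit G z) = 2 := by
    have := orbit_stab G z
    rw [h2] at this
    have hpos : 0 < sC G z := by have := two_le_sC G hzP; omega
    exact Nat.eq_of_mul_eq_mul_right hpos this
  have hidx : C.index = 2 := by rw [hC, MulAction.index_stabilizer, ← Nat.card_coe_set_eq, hcard]
  haveI hn : C.Normal := Subgroup.normal_of_index_eq_two hidx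
  obtain ⟨c, k, hsc, -, hk, hpc, -⟩ := point_facts G p z
  rw [hu, one_mul] at hsc
  obtain ⟨g0, hg0⟩ : ∃ g0 : G, g0 • z ≠ z := by
    by_contra hcon
    push Not at hcon
    have : MulAction.orbit G z = {z} := Set.Subset.antisymm (by rintro _ ⟨g, rfl⟩; exact hcon g)
      (Set.singleton_subset_iff.2 (MulAction.mem_orbit_self _))
    rw [this, Nat.card_coe_set_eq, Set.ncard_singleton] at hcard
    omega
  have hfix2 : ∀ g ∈ C, g • g0 • z = g0 • z := by
    intro g hg
    have := hn.conj_mem g hg g0⁻¹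
    rw [inv_inv, hC, MulAction.mem_stabilizer_iff, mul_smul, mul_smul, inv_smul_eq_iff] at this
    exact this
  refine DType.dihedral C ?_ (by rw [card_stab_group, h2]) (by rw [card_stab_group, hsc]; exact hpc) z (g0 • z)
    (Ne.symm hg0) (fun g hg => hg) hfix2 ?_
  · haveI : Finite (C.map G.subtype) := Finite.of_equiv _ (C.equivMapOfInjective _ G.subtype_injective).toEquiv
    have := isCyclic_of_fix (C.map G.subtype) (x := z) (by rintro _ ⟨g, hg, rfl⟩; exact hg) (by
      rintro _ ⟨g, hg, rfl⟩ hy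
      by_contra hne
      have hsub := (Nat.card_eq_one_iff_unique.1 hu).1
      have := @Subsingleton.elim _ hsub ⟨g, hg, fun _ y h => hy y h⟩ ⟨1, one_smul _ z, fun h => absurd rfl h⟩
      exact hne (congrArg (fun a : G => (a : G2 K)) (congrArg Subtype.val this)))
    exact (C.equivMapOfInjective _ G.subtype_injective).isCyclic.2 this
  · intro g hg
    have hg1 : g ≠ 1 := fun e => hg (e ▸ one_mem C)
    obtain ⟨w, hwg⟩ := hs g hg1
    have hwP : w ∈ Pts G := (mem_Pts G).2 ⟨g, hg1, hwg⟩
    rcases hw w hwP with ⟨h, rfl⟩ | h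
    · exfalso
      apply hg
      have : h⁻¹ * g * h ∈ C := by
        rw [hC, MulAction.mem_stabilizer_iff, mul_smul, mul_smul, inv_smul_eq_iff]
        exact hwg
      have := hn.conj_mem _ this h
      rwa [mul_assoc h⁻¹, mul_inv_cancel_left, mul_inv_cancel_right] at this
    · have := orderOf_dvd_sC hwg
      rw [h] at this
      rw [← pow_two]
      exact orderOf_dvd_iff_pow_eq_one.1 this

theorem arith_one {u c m a k : ℕ} (hu : 3 ≤ u) (hk : 1 ≤ k) (hc0 : 0 < c) (hc : c ∣ u - 1) (hm : m = 1 + k * u)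
    (hN : a * (m * (u - 2) + 2) = u * c * m) :
    (k = 1 ∧ (c = u - 1 ∨ 2 * c = u - 1)) ∨ (u = 3 ∧ k = 3 ∧ c = 2 ∧ a = 5) := by
  obtain ⟨v, rfl⟩ : ∃ v, u = v + 2 := ⟨u - 2, by omega⟩
  rw [Nat.add_sub_cancel] at hN
  rw [show v + 2 - 1 = v + 1 by omega] at hc ⊢
  have hd : a * (1 + k * v) = c * m := by
    apply Nat.eq_of_mul_eq_mul_left (by omega : 0 < v + 2)
    rw [← mul_assoc (v + 2) c, ← hN, hm]
    ring
  have hd2 : (1 + k * v) ∣ 2 * c := by
    have h1 : (1 + k * v) ∣ c * (2 * k) + c * (1 + k * v) := ⟨a, by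
      rw [mul_comm (1 + k * v) a, hd, hm]; ring⟩
    have h2 : (1 + k * v) ∣ c * (2 * k) := (Nat.dvd_add_left (dvd_mul_left _ _)).1 h1
    have hcop : Nat.Coprime (1 + k * v) k := by
      rw [Nat.coprime_comm, show 1 + k * v = 1 + v * k by ring, Nat.coprime_add_mul_right_right]
      exact Nat.coprime_one_right k
    exact hcop.dvd_of_dvd_mul_right (by rw [show 2 * c * k = c * (2 * k) by ring]; exact h2)
  have hcle : c ≤ v + 1 := Nat.le_of_dvd (by omega) hc
  have hle : 1 + k * v ≤ 2 * c := Nat.le_of_dvd (by omega) hd2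
  rcases (show k = 1 ∨ k = 2 ∨ 3 ≤ k by omega) with rfl | rfl | h3
  · left
    refine ⟨rfl, ?_⟩
    rw [one_mul] at hd2 hle
    obtain ⟨e, he⟩ := hc
    rcases e with _ | _ | _ | e
    · omega
    · omega
    · omega
    · exfalso
      have : c * 3 ≤ v + 1 := by rw [he]; exact Nat.mul_le_mul_left _ (by omega)
      omega
  · exfalso
    obtain ⟨e, he⟩ := hc
    rcases e with _ | _ | e
    · omega
    · rw [show c = v + 1 by omega, show 2 * (v + 1) = (1 + 2 * v) + 1 by ring, Nat.dvd_add_right dvd_rfl,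
        Nat.dvd_one] at hd2
      omega
    · have : c * 2 ≤ v + 1 := by rw [he]; exact Nat.mul_le_mul_left _ (by omega)
      omega
  · right
    have hkv : 3 * v ≤ k * v := Nat.mul_le_mul_right _ h3
    obtain rfl : v = 1 := by omega
    obtain rfl : k = 3 := by omega
    obtain rfl : c = 2 := by omega
    subst hm
    omega

/-- Dickson's classification of the finite subgroups of `PGL(2, K)` -/
theorem classify (hs : ∀ g : G, g ≠ 1 → ∃ x : P2 K, g • x = x) : DType p G := by
  classical
  rcases shape G p hs with ⟨x, h⟩ | ⟨x, y, u, c, m, a, k, cover, hu, hsx, hm, huy, hsy, hxP, hyP, h2u, h2a, hk, hc,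
    hc0, hmk, hN, hNa⟩ | ⟨x, y, z, hone, cover, hxP, hyP, hzP, hx, hyz⟩
  · exact DType.fix x h
  · obtain ⟨c', k', -, -, hpu, -, -⟩ := point_facts G p x
    rw [hu] at hpu
    rcases Nat.lt_or_ge u 3 with hu3 | hu3
    · obtain rfl : u = 2 := by omega
      obtain rfl : c = 1 := Nat.dvd_one.1 hc
      refine dihedral_case hyP (by rw [hsy]; omega) huy hs fun w hw => ?_
      rcases cover w hw with ⟨g, rfl⟩ | h
      · right; show sC G (g • x) = 2; rw [sC_smul, hsx]
      · exact Or.inl h
    · rcases arith_one hu3 hk hc0 hc hmk (hNa.trans hN) with ⟨rfl, hcase⟩ | ⟨rfl, rfl, rfl, rfl⟩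
      · exact DType.subfield (subfield_case p G x hu hsx (by rw [hm, hmk, one_mul]) (by rw [hN, hmk, one_mul]) hcase hu3)
      · have h60 : Nat.card G = 60 := by rw [hN, hmk]
        have h12 : Nat.card (MulAction.orbit G y) = 12 := by
          have := orbit_stab G y
          rw [hsy, h60] at this
          omega
        have hp3 : p = 3 := ((Nat.prime_dvd_prime_iff_eq (Fact.out : p.Prime) Nat.prime_three).1 (by
          rw [hpu]; exact dvd_pow_self _ (fun e => by rw [e, pow_zero] at hpu; omega)))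
        exact DType.a5 h60 (by omega) (by omega) (mulEquiv_a5 h60 (P := MulAction.stabilizer G y) hsy
          (stab_not_normal (by rw [hsy]; omega) (by omega)))
  · have hpN : ¬ p ∣ Nat.card G := by
      intro hd
      obtain ⟨g, hg⟩ := exists_prime_orderOf_dvd_card' p hd
      have hg1 : g ≠ 1 := fun e => (Fact.out : p.Prime).ne_one (by rw [← hg, e, orderOf_one])
      obtain ⟨w, hw⟩ := hs g hg1
      obtain ⟨c', k', hsw, -, -, hpc, -⟩ := point_facts G p w
      have := orderOf_dvd_sC hw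
      rw [hsw, hone w ((mem_Pts G).2 ⟨g, hg1, hw⟩), one_mul, hg] at this
      exact hpc this
    have hsC : ∀ {a w : P2 K}, w ∈ MulAction.orbit G a → sC G w = sC G a := by
      rintro a _ ⟨g, rfl⟩
      exact sC_smul G g a
    have orb : ∀ {w : P2 K} {n s : ℕ}, Nat.card G = n → sC G w = s → Nat.card (MulAction.orbit G w) * s = n := by
      rintro w n s rfl rfl
      exact orbit_stab G w
    rcases hyz with ⟨hy, h2⟩ | ⟨hy, hz⟩
    · refine dihedral_case hzP h2 (hone z hzP) hs fun w hw => ?_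
      rcases cover w hw with h | h | h
      · exact Or.inr ((hsC h).trans hx)
      · exact Or.inr ((hsC h).trans hy)
      · exact Or.inl h
    · rcases hz with ⟨hz, hN⟩ | ⟨hz, hN⟩ | ⟨hz, hN⟩
      · have := orb hN hy
        exact DType.a4 hN (fun e => hpN (by rw [e, hN]; norm_num)) (fun e => hpN (by rw [e, hN]; norm_num))
          (mulEquiv_a4 hN (T := MulAction.stabilizer G y) hy (stab_not_normal (by omega) (by omega)))
      · have := orb hN hy
        refine DType.s4 hN (fun e => hpN (by rw [e, hN]; norm_num)) (fun e => hpN (by rw [e, hN]; norm_num))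
          (mulEquiv_s4 hN (T := MulAction.stabilizer G y) hy (stab_not_normal (by omega) (by omega)) fun g hg => ?_)
        have hg1 : g ≠ 1 := fun e => by rw [e, orderOf_one] at hg; omega
        obtain ⟨w, hw⟩ := hs g hg1
        have hd := orderOf_dvd_sC hw
        rcases cover w ((mem_Pts G).2 ⟨g, hg1, hw⟩) with h | h | h
        · rw [hsC h, hx, hg] at hd; norm_num at hd
        · rw [hsC h, hy, hg] at hd; norm_num at hd
        · rw [hsC h, hz, hg] at hd; norm_num at hd
      · have := orb hN hz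
        exact DType.a5 hN (fun e => hpN (by rw [e, hN]; norm_num)) (fun e => hpN (by rw [e, hN]; norm_num))
          (mulEquiv_a5 hN (P := MulAction.stabilizer G z) hz (stab_not_normal (by omega) (by omega)))

end CfsgLib.Perm.Dickson
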