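import Cfsg.Agent.Lib.Perm.Dickson.KleinCount

/-!
# Conjugacy of A₄ and S₄ in PSL(2, q)
-/

set_option autoImplicit false
set_option linter.all false

namespace CfsgLib.Perm.Dickson

open Matrix

/-- the Klein four group of S₄ -/
def vS4 : Subgroup (Equiv.Perm (Fin 4)) where
  carrier := {g | g * g = 1 ∧ Equiv.Perm.sign g = 1}
  one_mem' := ⟨mul_one 1, map_one _⟩
  mul_mem' := fun {a b} ha hb => by
    have key : ∀ a b : Equiv.Perm (Fin 4), (a * a ≠ 1 ∨ Equiv.Perm.sign a ≠ 1) ∨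
        (b * b ≠ 1 ∨ Equiv.Perm.sign b ≠ 1) ∨ ((a * b) * (a * b) = 1 ∧ Equiv.Perm.sign (a * b) = 1) := by
      decide +kernel
    rcases key a b with (h | h) | (h | h) | h
    exacts [absurd ha.1 h, absurd ha.2 h, absurd hb.1 h, absurd hb.2 h, h]
  inv_mem' := fun {a} ha => by
    show a⁻¹ * a⁻¹ = 1 ∧ Equiv.Perm.sign a⁻¹ = 1
    rw [← _root_.mul_inv_rev, ha.1, inv_one, map_inv, ha.2, inv_one]
    exact ⟨rfl, rfl⟩

theorem mem_vS4 {g : Equiv.Perm (Fin 4)} : g ∈ vS4 ↔ g * g = 1 ∧ Equiv.Perm.sign g = 1 := Iff.rfl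

theorem card_vS4 : Nat.card vS4 = 4 := by
  have e : Nat.card vS4 = (Finset.univ.filter fun g : Equiv.Perm (Fin 4) => g * g = 1 ∧ Equiv.Perm.sign g = 1).card := by
    rw [← Nat.card_eq_finsetCard]
    exact Nat.card_congr (Equiv.subtypeEquivRight fun g => by simp [mem_vS4])
  rw [e]
  decide +kernel

theorem vS4_normal : vS4.Normal :=
  ⟨fun n hn g => ⟨by rw [conj_mul, hn.1, mul_one, mul_inv_cancel],
    by rw [map_mul, map_mul, map_inv, hn.2, mul_one, mul_inv_cancel]⟩⟩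

theorem vS4_le : vS4 ≤ alternatingGroup (Fin 4) := fun g hg => Equiv.Perm.mem_alternatingGroup.2 hg.2

/-- the Klein four group of A₄ -/
def vA4 : Subgroup (alternatingGroup (Fin 4)) := vS4.subgroupOf (alternatingGroup (Fin 4))

theorem card_vA4 : Nat.card vA4 = 4 := by
  rw [vA4, Nat.card_congr (Subgroup.subgroupOfEquivOfLe vS4_le).toEquiv, card_vS4]

theorem vA4_normal : vA4.Normal := vS4_normal.subgroupOf _

theorem vA4_exp {v : alternatingGroup (Fin 4)} (h : v ∈ vA4) : v * v = 1 := Subtype.ext h.1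

variable {F : Type*} [Field F] [Finite F]

namespace QPar

variable (Q : QPar F)

/-- a subgroup with a normal four group is conjugate into the standard normaliser -/
theorem exists_conj_le_N {M : Subgroup (G2 F)} (hM : M ≤ psl F) {X : Type*} [Group X] (e : M ≃* X)
    (V0 : Subgroup X) [V0.Normal] (hc : Nat.card V0 = 4) (hexp : ∀ v ∈ V0, v * v = 1) :
    ∃ σ, conjG σ M ≤ Q.N ⊓ psl F := by
  set j : M →* G2 F := M.subtype with hj
  set W : Subgroup (G2 F) := V0.map (j.comp e.symm.toMonoidHom) with hW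
  have hinj : Function.Injective (j.comp e.symm.toMonoidHom) := Subtype.val_injective.comp e.symm.injective
  have hWc : Nat.card W = 4 := by rw [hW, ← Nat.card_congr (V0.equivMapOfInjective _ hinj).toEquiv, hc]
  have hWp : W ≤ psl F := by
    rintro _ ⟨v, -, rfl⟩
    exact hM (e.symm v).2
  have hWe : ∀ g ∈ W, g * g = 1 := by
    rintro _ ⟨v, hv, rfl⟩
    rw [← map_mul, hexp v hv, map_one]
  have hmem : ∀ m ∈ M, ∀ w ∈ W, m * w * m⁻¹ ∈ W := by
    rintro m hm _ ⟨v, hv, rfl⟩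
    refine ⟨e ⟨m, hm⟩ * v * (e ⟨m, hm⟩)⁻¹, Subgroup.Normal.conj_mem inferInstance v hv _, ?_⟩
    simp [hj]
  have hN : M ≤ Subgroup.normalizer (W : Set (G2 F)) := fun m hm => by
    rw [Subgroup.mem_normalizer_iff]
    intro w
    refine ⟨hmem m hm w, fun hw => ?_⟩
    have := hmem _ (inv_mem hm) _ hw
    simpa [mul_assoc] using this
  obtain ⟨σ, hσ⟩ := Q.exists_conj_V hWp hWc hWe
  refine ⟨σ, le_inf ((Subgroup.map_mono hN).trans ?_) ((Subgroup.map_mono hM).trans (conjG_psl σ).le)⟩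
  show conjG σ (Subgroup.normalizer (W : Set (G2 F))) ≤ Q.N
  rw [conjG_normalizer, hσ, QPar.N]

theorem exists_conj_eq_of_s4 {M : Subgroup (G2 F)} (hM : M ≤ psl F) (e : M ≃* Equiv.Perm (Fin 4)) :
    ∃ σ, conjG σ M = Q.N := by
  haveI := finite_G2 (F := F)
  haveI := vS4_normal
  obtain ⟨σ, hσ⟩ := Q.exists_conj_le_N hM e vS4 card_vS4 fun v hv => hv.1
  refine ⟨σ, Subgroup.eq_of_le_of_card_ge (hσ.trans inf_le_left) ?_⟩
  rw [Q.card_N, card_conjG, Nat.card_congr e.toEquiv, Nat.card_eq_fintype_card]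
  decide

theorem exists_conj_le_of_a4 {M : Subgroup (G2 F)} (hM : M ≤ psl F) (e : M ≃* alternatingGroup (Fin 4)) :
    ∃ σ, conjG σ M ≤ Q.N ⊓ psl F := by
  haveI := vA4_normal
  exact Q.exists_conj_le_N hM e vA4 card_vA4 fun v hv => vA4_exp hv

theorem exists_conj_eq_of_a4 (h : ¬ IsSquare (2 : F)) {M : Subgroup (G2 F)} (hM : M ≤ psl F)
    (e : M ≃* alternatingGroup (Fin 4)) : ∃ σ, conjG σ M = Q.N ⊓ psl F := by
  haveI := finite_G2 (F := F)
  obtain ⟨σ, hσ⟩ := Q.exists_conj_le_of_a4 hM e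
  refine ⟨σ, Subgroup.eq_of_le_of_card_ge hσ ?_⟩
  rw [Q.card_N_psl h, card_conjG, Nat.card_congr e.toEquiv, Nat.card_eq_fintype_card]
  decide +kernel

end QPar

theorem conjG_inv_eq {σ : G2 F} {A B : Subgroup (G2 F)} (h : conjG σ A = B) : conjG σ⁻¹ B = A := by
  rw [← h, ← conjG_mul, inv_mul_cancel, conjG_one]

/-- any two S₄ are conjugate -/
theorem s4_conj (h2 : (2 : F) ≠ 0) {A B : Subgroup (G2 F)} (hA : A ≤ psl F) (hB : B ≤ psl F)
    (ea : A ≃* Equiv.Perm (Fin 4)) (eb : B ≃* Equiv.Perm (Fin 4)) : ∃ σ, conjG σ A = B := by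
  obtain ⟨Q⟩ := exists_qpar h2
  obtain ⟨s, hs⟩ := Q.exists_conj_eq_of_s4 hA ea
  obtain ⟨t, ht⟩ := Q.exists_conj_eq_of_s4 hB eb
  exact ⟨t⁻¹ * s, by rw [conjG_mul, hs, conjG_inv_eq ht]⟩

/-- any two A₄ are conjugate when two is a non-square -/
theorem a4_conj (h2 : (2 : F) ≠ 0) (h : ¬ IsSquare (2 : F)) {A B : Subgroup (G2 F)} (hA : A ≤ psl F) (hB : B ≤ psl F)
    (ea : A ≃* alternatingGroup (Fin 4)) (eb : B ≃* alternatingGroup (Fin 4)) : ∃ σ, conjG σ A = B := by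
  obtain ⟨Q⟩ := exists_qpar h2
  obtain ⟨s, hs⟩ := Q.exists_conj_eq_of_a4 h hA ea
  obtain ⟨t, ht⟩ := Q.exists_conj_eq_of_a4 h hB eb
  exact ⟨t⁻¹ * s, by rw [conjG_mul, hs, conjG_inv_eq ht]⟩

end CfsgLib.Perm.Dickson
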