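import Cfsg.Agent.Lib.Perm.Dickson.Bridge

/-!
# Maximality of dihedral subgroups of PSL(2, q)
-/

set_option autoImplicit false
set_option linter.all false

namespace CfsgLib.Perm.Dickson

open Matrix

variable {F : Type*} [Field F] [Finite F]

theorem exists_free : ∃ g : G2 F, ∀ x : P2 F, g • x ≠ x := by
  haveI := Fintype.ofFinite F
  have hns : ¬ Function.Surjective (fun z : F => z * z - z) := fun h => by
    have hi := Finite.injective_iff_surjective.2 h
    exact zero_ne_one (hi (show (0 : F) * 0 - 0 = 1 * 1 - 1 by ring))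
  simp only [Function.Surjective, not_forall, not_exists] at hns
  obtain ⟨c, hc⟩ := hns
  have hdet : (!![0, c; 1, -1] : Matrix (Fin 2) (Fin 2) F).det ≠ 0 := by
    intro h
    simp [Matrix.det_fin_two] at h
    exact hc 0 (by rw [h]; ring)
  refine ⟨ProjGenLinGroup.mk (GeneralLinearGroup.mkOfDetNeZero _ hdet), fun x => ?_⟩
  obtain rfl | ⟨z, rfl⟩ := point_cases x
  · rw [ip, mk_smul, mk_eq_fp]
    · exact fp_ne_ip _
    · simp [Matrix.mulVec, dotProduct, Fin.sum_univ_two]
  · rw [fp, mk_smul, ← fp]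
    by_cases hz : z - 1 = 0
    · rw [mk_eq_ip _ (by simp [Matrix.mulVec, dotProduct, Fin.sum_univ_two, ← sub_eq_add_neg, hz])]
      exact ip_ne_fp _
    · rw [mk_eq_fp _ (by simp [Matrix.mulVec, dotProduct, Fin.sum_univ_two, ← sub_eq_add_neg, hz])]
      intro e
      have e' := fp_inj e
      simp [Matrix.mulVec, dotProduct, Fin.sum_univ_two] at e'
      rw [← sub_eq_add_neg, div_eq_iff hz] at e'
      exact hc z (by linear_combination -e')

theorem exists_elliptic (p : ℕ) [Fact p.Prime] [CharP F p] :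
    ∃ a b : P2 (Kc F), GoodPair a b ∧ Nat.card (pairFix a b) = Nat.card F + 1 := by
  obtain ⟨g, hg⟩ := exists_free (F := F)
  have h1 : g ≠ 1 := fun e => hg ip (by rw [e, one_smul])
  obtain ⟨a, ha⟩ := exists_fixed_of_isAlgClosed (mapG (iF F) g)
  obtain ⟨b, hb, hne⟩ : ∃ b : P2 (Kc F), mapG (iF F) g • b = b ∧ b ≠ a := by
    by_contra hcon
    push Not at hcon
    obtain ⟨z, hz⟩ := isRat_of_single p ha hcon
    exact hg z ((fix_map_iff g z).1 (by rw [hz]; exact ha))
  have hr : ∀ {w : P2 (Kc F)}, mapG (iF F) g • w = w → ¬ IsRat w := by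
    rintro w hw ⟨z, rfl⟩
    exact hg z ((fix_map_iff g z).1 hw)
  exact ⟨a, b, goodPair_of_fix p h1 hne.symm ha hb,
    card_pairFix_ell hne.symm (hr ha) (hr hb) (mem_pairFix.2 ⟨ha, hb⟩) h1⟩

theorem exists_split : ∃ a b : P2 (Kc F), GoodPair a b ∧ Nat.card (pairFix a b) = Nat.card F - 1 := by
  have hne : mapP (iF F) ip ≠ mapP (iF F) (fp (0 : F)) := fun e => ip_ne_fp _ (mapP_injective _ e)
  exact ⟨_, _, ⟨hne, Or.inl ⟨⟨_, rfl⟩, ⟨_, rfl⟩⟩⟩, card_pairFix_rat hne ⟨_, rfl⟩ ⟨_, rfl⟩⟩

theorem perm_four_pow : ∀ x : Equiv.Perm (Fin 4), x ^ 3 = 1 ∨ x ^ 4 = 1 := by decide +kernel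

theorem alt_five_pow : ∀ x : alternatingGroup (Fin 5), x ^ 2 = 1 ∨ x ^ 3 = 1 ∨ x ^ 5 = 1 := by decide +kernel

theorem alt_four_squares : 6 < (Finset.univ.image fun x : alternatingGroup (Fin 4) => x * x).card := by decide +kernel

theorem no_six_in_a4 (H : Subgroup (alternatingGroup (Fin 4))) : Nat.card H ≠ 6 := by
  classical
  intro h
  have hidx : H.index = 2 := by
    have := H.card_mul_index
    rw [h, nat_card_alternatingGroup, Nat.card_fin, show Nat.factorial 4 / 2 = 12 from rfl] at this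
    omega
  have hsub : (Finset.univ.image fun x : alternatingGroup (Fin 4) => x * x) ⊆ Finset.univ.filter (· ∈ H) := by
    intro y hy
    simp only [Finset.mem_image, Finset.mem_univ, true_and, Finset.mem_filter] at hy ⊢
    obtain ⟨x, rfl⟩ := hy
    exact Subgroup.mul_self_mem_of_index_two hidx x
  have := Finset.card_le_card hsub
  rw [Nat.card_eq_fintype_card, Fintype.card_subtype] at h
  have := alt_four_squares
  omega

theorem orderOf_le_of_equiv {G X : Type*} [Group G] [Group X] (e : G ≃* X) (g : G) : orderOf g = orderOf (e g) :=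
  (orderOf_injective e.toMonoidHom e.injective g).symm

theorem subfield_card_sq_le {F1 : Subfield F} (h : Nat.card F1 ≠ Nat.card F) : Nat.card F1 * Nat.card F1 ≤ Nat.card F := by
  obtain ⟨m, hm, hc⟩ := exists_card_pow F1
  rcases Nat.lt_or_ge m 2 with h1 | h1
  · obtain rfl : m = 1 := by omega
    rw [pow_one] at hc
    exact absurd hc h
  · rw [← pow_two, ← hc]
    exact Nat.pow_le_pow_right (by have := two_le_card_subfield F1; omega) h1

/-- a subfield group is proper only for a proper subfield -/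
theorem subfield_ne_top {M : Subgroup (G2 F)} (hM : M < psl F) {σ : G2 F} {F1 : Subfield F}
    (h : pslSub F1 ≤ conjG σ M) : Nat.card F1 ≠ Nat.card F := by
  haveI := finite_G2 (F := F)
  intro he
  have h1 := Subgroup.card_dvd_of_le h
  rw [card_conjG] at h1
  have h2 : Nat.card (psl F) ≤ Nat.card (pslSub F1) := by
    have e1 := card_pslSub F1
    rw [card_pglSub, he, ← card_G2, ← psl_index] at e1
    exact (Nat.eq_of_mul_eq_mul_left (Nat.gcd_pos_of_pos_left _ (by norm_num)) e1).ge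
  have h3 : Nat.card M < Nat.card (psl F) := by
    by_contra hcon
    exact hM.ne (Subgroup.eq_of_le_of_card_ge hM.le (by omega))
  have := Nat.le_of_dvd Nat.card_pos h1
  omega

variable (p : ℕ) [Fact p.Prime] [CharP F p]
include p

theorem orderOf_le_subfield {F1 : Subfield F} {g : G2 F} (hg : g ∈ pglSub F1) : orderOf g ≤ Nat.card F1 + 1 := by
  haveI : CharP F1 p := (RingHom.charP_iff_charP F1.subtype p).2 inferInstance
  obtain ⟨g0, rfl⟩ := hg
  rw [orderOf_injective _ (mapG_injective _)]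
  have h2 := two_le_card_subfield F1
  rcases order_cases p g0 with h | h | h
  · have := Nat.le_of_dvd (by omega) h; omega
  · exact Nat.le_of_dvd (by omega) h
  · obtain ⟨a, ha, hc⟩ := card_eq_pow (F := F1) p
    have : p ∣ Nat.card F1 := hc ▸ dvd_pow_self p (by omega)
    have := Nat.le_of_dvd (by omega) this
    omega

theorem dihedral_maximal {a b : P2 (Kc F)} (hg : GoodPair a b) {k : ℕ}
    (hk : Nat.card (pairFix a b ⊓ psl F : Subgroup (G2 F)) = k) (h3 : 3 ≤ k)
    (hS4 : k = 3 ∨ k = 4 → ¬ 24 ∣ Nat.card (psl F))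
    (hA5 : k = 3 ∨ k = 5 → Nat.card (psl F) = 60 ∨ ¬ 60 ∣ Nat.card (psl F))
    (hsub : ∀ c, 3 ≤ c → c * c ≤ Nat.card F → (∃ n, Nat.card F = c ^ n) → k ≤ c + 1 → False) :
    ∀ M, pairSet a b ⊓ psl F ≤ M → M < psl F → M ≤ pairSet a b ⊓ psl F := by
  intro M hDM hM
  haveI := finite_G2 (F := F)
  haveI := isCyclic_pairFix (F := F) hg.1
  haveI : IsCyclic ((pairFix a b ⊓ psl F).subgroupOf (pairFix a b)) := inferInstance
  haveI : IsCyclic (pairFix a b ⊓ psl F : Subgroup (G2 F)) :=
    (Subgroup.subgroupOfEquivOfLe inf_le_left).isCyclic.1 inferInstance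
  obtain ⟨⟨g, hgT⟩, hgen⟩ := IsCyclic.exists_generator (α := (pairFix a b ⊓ psl F : Subgroup (G2 F)))
  have hord : orderOf g = k := by
    rw [← hk, ← orderOf_eq_card_of_forall_mem_zpowers hgen, Subgroup.orderOf_mk]
  have hg1 : g ≠ 1 := fun e => by rw [e, orderOf_one] at hord; omega
  have hgD : g ∈ pairSet a b ⊓ psl F := ⟨pairFix_le_pairSet a b hgT.1, hgT.2⟩
  have hgM := hDM hgD
  obtain ⟨w, hwp, hws, hwn⟩ := exists_swap hg
  obtain ⟨hwa, hwb⟩ := swap_of_not_mem hws hwn
  have hwM := hDM ⟨hws, hwp⟩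
  have hga := hgT.1
  have hone : mapG (iF F) g ≠ 1 := fun e => hg1 ((map_eq_one_iff _ (mapG_injective _)).1 e)
  have hcase : ∀ y : P2 (Kc F), mapG (iF F) g • y = y → y = a ∨ y = b := by
    intro y hy
    by_contra hcon
    push Not at hcon
    exact hone (eq_one_of_three hg.1 (Ne.symm hcon.1) (Ne.symm hcon.2) hga.1 hga.2 hy)
  have hpair : ∀ {a' b'}, a' ≠ b' → g ∈ pairFix a' b' → (a' = a ∧ b' = b) ∨ (a' = b ∧ b' = a) := by
    intro a' b' hne hmem
    rcases hcase a' hmem.1 with rfl | rfl <;> rcases hcase b' hmem.2 with rfl | rfl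
    · exact absurd rfl hne
    · exact Or.inl ⟨rfl, rfl⟩
    · exact Or.inr ⟨rfl, rfl⟩
    · exact absurd rfl hne
  have hDcard : Nat.card (pairSet a b ⊓ psl F : Subgroup (G2 F)) = 2 * k := by
    obtain ⟨hc, -⟩ := dihedral_of_le hg.1 inferInstance (inf_le_left : pairSet a b ⊓ psl F ≤ pairSet a b)
      (fun h => hwn (h ⟨hws, hwp⟩))
    rw [hc, ← hk]
    congr 2
    rw [inf_right_comm, inf_eq_right.2 (pairFix_le_pairSet a b)]
  have hdvd : 2 * k ∣ Nat.card M := hDcard ▸ Subgroup.card_dvd_of_le hDM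
  have heq : Nat.card M ≤ 2 * k → M ≤ pairSet a b ⊓ psl F := fun h =>
    (Subgroup.eq_of_le_of_card_ge hDM (by omega)).ge
  have hordM : ∀ {X : Type} [Group X] (e : M ≃* X), orderOf (e ⟨g, hgM⟩) = k := fun e => by
    rw [← orderOf_le_of_equiv e, Subgroup.orderOf_mk, hord]
  cases classify_finite p M with
  | borel x hx =>
    exfalso
    rcases hcase _ ((fix_map_iff g x).2 (hx g hgM)) with e | e
    · have := (fix_map_iff w x).2 (hx w hwM)
      rw [e, hwa] at this
      exact hg.1 this.symm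
    · have := (fix_map_iff w x).2 (hx w hwM)
      rw [e, hwb] at this
      exact hg.1 this
  | cyclic a' b' hg' hle hne =>
    exfalso
    rcases hpair hg'.1 (hle hgM) with ⟨rfl, rfl⟩ | ⟨rfl, rfl⟩
    · exact hwn (hle hwM)
    · exact hwn ⟨(hle hwM).2, (hle hwM).1⟩
  | dihedral a' b' hg' hle hn hC =>
    have hmem : g ∈ pairFix a' b' := by
      by_contra hnm
      have := sq_of_swap hg'.1 (hle hgM) hnm
      rw [← pow_two, ← orderOf_dvd_iff_pow_eq_one, hord] at this
      have := Nat.le_of_dvd (by norm_num) this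
      omega
    refine le_inf (fun h hh => ?_) hM.le
    rcases hpair hg'.1 hmem with ⟨rfl, rfl⟩ | ⟨rfl, rfl⟩
    · exact hle hh
    · rcases mem_pairSet.1 (hle hh) with ⟨h1, h2⟩ | ⟨h1, h2⟩
      · exact mem_pairSet.2 (Or.inl ⟨h2, h1⟩)
      · exact mem_pairSet.2 (Or.inr ⟨h2, h1⟩)
  | a4 hN h2 hp3 h =>
    rw [hN] at hdvd
    have hkd : k ∣ 6 := Nat.dvd_of_mul_dvd_mul_left (by norm_num : 0 < 2) hdvd
    have := Nat.le_of_dvd (by norm_num) hkd
    by_cases hk6 : k = 6
    · exact heq (by omega)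
    exfalso
    have hk3 : k = 3 := by interval_cases k <;> omega
    obtain ⟨e⟩ := h
    refine no_six_in_a4 (((pairSet a b ⊓ psl F).subgroupOf M).map e.toMonoidHom) ?_
    rw [← Nat.card_congr (((pairSet a b ⊓ psl F).subgroupOf M).equivMapOfInjective _ e.injective).toEquiv,
      Nat.card_congr (Subgroup.subgroupOfEquivOfLe hDM).toEquiv, hDcard, hk3]
  | s4 hN h2 hp3 h =>
    exfalso
    obtain ⟨e⟩ := h
    have hk4 : k = 3 ∨ k = 4 := by
      rcases perm_four_pow (e ⟨g, hgM⟩) with h | h <;> have hd := orderOf_dvd_of_pow_eq_one h <;>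
        rw [hordM e] at hd <;> have := Nat.le_of_dvd (by norm_num) hd <;> omega
    exact hS4 hk4 (hN ▸ Subgroup.card_dvd_of_le hM.le)
  | a5 hN h2 h5 h =>
    exfalso
    obtain ⟨e⟩ := h
    have hk5 : k = 3 ∨ k = 5 := by
      rcases alt_five_pow (e ⟨g, hgM⟩) with h | h | h <;> have hd := orderOf_dvd_of_pow_eq_one h <;>
        rw [hordM e] at hd <;> have := Nat.le_of_dvd (by norm_num) hd
      · omega
      · omega
      · rcases (Nat.dvd_prime Nat.prime_five).1 hd with h | h <;> omega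
    rcases hA5 hk5 with h60 | h60
    · exact hM.ne (Subgroup.eq_of_le_of_card_ge hM.le (by omega))
    · exact h60 (hN ▸ Subgroup.card_dvd_of_le hM.le)
  | subfield σ F1 hc3 h =>
    exfalso
    have hps : pslSub F1 ≤ conjG σ M := by
      rcases h with h | ⟨-, h⟩ <;> rw [h]
      exact pslSub_le_pglSub F1
    have hle : conjG σ M ≤ pglSub F1 := by
      rcases h with h | ⟨-, h⟩ <;> rw [h]
      exact pslSub_le_pglSub F1
    obtain ⟨m, -, hm⟩ := exists_card_pow F1
    refine hsub _ hc3 (subfield_card_sq_le (subfield_ne_top hM hps)) ⟨m, hm.symm⟩ ?_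
    have := orderOf_le_subfield p (hle (show σ * g * σ⁻¹ ∈ conjG σ M by rw [mem_conjG]; simpa [mul_assoc] using hgM))
    rwa [show orderOf (σ * g * σ⁻¹) = orderOf g from orderOf_injective (MulAut.conj σ).toMonoidHom (MulAut.conj σ).injective g,
      hord] at this

end CfsgLib.Perm.Dickson
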