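import Cfsg.Agent.Lib.Perm.Dickson.Maximal

/-!
# Subfield subgroups and their maximality
-/

set_option autoImplicit false
set_option linter.all false

namespace CfsgLib.Perm.Dickson

open Matrix

variable {F : Type*} [Field F] [Finite F] (p : ℕ) [Fact p.Prime] [CharP F p]
include p

omit p in
theorem tr_mem_pslSub {F1 : Subfield F} {t : F} (ht : t ∈ F1) : tr t ∈ pslSub F1 :=
  ⟨tr ⟨t, ht⟩, tr_mem_psl _, mapG_tr _ _⟩

omit p in
theorem low_mem_pslSub (F1 : Subfield F) : iv (-1 : Fˣ) * tr 1 * iv (-1) ∈ pslSub F1 := by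
  refine ⟨iv (-1) * tr 1 * iv (-1), mul_mem (mul_mem iv_neg_one_mem_psl (tr_mem_psl _)) iv_neg_one_mem_psl, ?_⟩
  rw [map_mul, map_mul, mapG_iv, mapG_tr, map_one,
    show Units.map F1.subtype.toMonoidHom (-1) = -1 from Units.ext (by simp)]

omit p in
theorem single_tr {t : F} (ht : t ≠ 0) : ∀ w : P2 F, tr t • w = w → w = ip := fun w hw =>
  (single_fix_iff t 1).2 ⟨rfl, ht⟩ w (by rw [di_one, mul_one]; exact hw)

omit p in
theorem single_low : ∀ w : P2 F, (iv (-1 : Fˣ) * tr 1 * iv (-1)) • w = w → w = fp 0 := by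
  intro w hw
  rw [mul_smul, mul_smul] at hw
  have h' : tr (1 : F) • (iv (-1 : Fˣ) • w) = iv (-1 : Fˣ) • w := by
    conv_rhs => rw [← hw, ← mul_smul, iv_sq, one_smul]
  have h'' := single_tr one_ne_zero _ h'
  rw [smul_eq_iff_eq_inv_smul, inv_eq_of_mul_eq_one_right (iv_sq (-1 : Fˣ)), iv_ip] at h''
  exact h''

theorem rational_of_single {F2 : Subfield F} {g : G2 F} {z : P2 F} (hg : g ∈ pglSub F2) (hz : g • z = z)
    (huniq : ∀ w : P2 F, g • w = w → w = z) : z ∈ Set.range (mapP F2.subtype) := by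
  haveI : CharP F2 p := (RingHom.charP_iff_charP F2.subtype p).2 inferInstance
  obtain ⟨g0, rfl⟩ := hg
  have hp := pow_char_of_single p hz huniq
  rw [← map_pow, map_eq_one_iff _ (mapG_injective _)] at hp
  obtain ⟨w, hw⟩ : ∃ w : P2 F2, g0 • w = w := by
    by_contra hcon
    push Not at hcon
    rcases (Nat.dvd_prime (Fact.out : p.Prime)).1 (orderOf_dvd_of_pow_eq_one hp) with h1 | h1
    · rw [orderOf_eq_one_iff] at h1
      exact hcon ip (by rw [h1, one_smul])
    · exact not_dvd_q_add_one (F := F2) p (h1 ▸ orderOf_dvd_of_free hcon)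
  exact ⟨w, huniq _ (by rw [map_smul_pt, hw])⟩

/-- a subfield subgroup contains smaller ones only in standard position -/
theorem rigid {F1 F2 : Subfield F} {σ : G2 F} (h : pslSub F1 ≤ conjG σ (pglSub F2)) :
    F1 ≤ F2 ∧ σ ∈ pglSub F2 ∧ conjG σ (pglSub F2) = pglSub F2 := by
  have hrat : ∀ {g : G2 F} {z : P2 F}, g ∈ pslSub F1 → g • z = z → (∀ w, g • w = w → w = z) →
      σ⁻¹ • z ∈ Set.range (mapP F2.subtype) := by
    intro g z hg hgz huniq
    refine rational_of_single p (g := σ⁻¹ * g * σ) (mem_conjG.1 (h hg)) ?_ ?_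
    · rw [mul_smul, mul_smul, smul_inv_smul, hgz]
    · intro w hw
      rw [mul_smul, mul_smul, inv_smul_eq_iff] at hw
      rw [← huniq _ hw, inv_smul_smul]
  have hu := tr_mem_pslSub (F1 := F1) F1.one_mem
  have hl := low_mem_pslSub F1
  have hlfix0 : (iv (-1 : Fˣ) * tr 1 * iv (-1)) • fp (0 : F) = fp 0 := by
    rw [mul_smul, mul_smul, iv_fp_zero, tr_ip, iv_ip]
  set l := iv (-1 : Fˣ) * tr (1 : F) * iv (-1) with hldef
  have hcfix : (tr 1 * l * (tr 1)⁻¹) • fp (1 : F) = fp 1 := by
    rw [show fp (1 : F) = tr (1 : F) • fp 0 by rw [tr_fp, zero_add], mul_smul, mul_smul, inv_smul_smul, hlfix0]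
  have hcuniq : ∀ w : P2 F, (tr 1 * l * (tr 1)⁻¹) • w = w → w = fp 1 := by
    intro w hw
    rw [mul_smul, mul_smul, ← eq_inv_smul_iff] at hw
    have := single_low _ hw
    rw [inv_smul_eq_iff, tr_fp, zero_add] at this
    exact this
  have hσ' := range_of_rational (i := F2.subtype) (g := σ⁻¹) (hrat hu (tr_ip _) (single_tr one_ne_zero))
    (hrat hl hlfix0 single_low) (hrat (mul_mem (mul_mem hu hl) (inv_mem hu)) hcfix hcuniq)
  have hσ : σ ∈ pglSub F2 := by simpa using inv_mem hσ'
  have heq := conjG_self (pglSub F2) hσ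
  refine ⟨fun t ht => ?_, hσ, heq⟩
  have hmem := h (tr_mem_pslSub ht)
  rw [heq] at hmem
  obtain ⟨k, hk⟩ := hmem
  have h1 : mapP F2.subtype (k • fp (0 : F2)) = fp t := by
    rw [← map_smul_pt, hk, mapP_fp, map_zero, tr_fp, zero_add]
  obtain e | ⟨z, hz⟩ := point_cases (k • fp (0 : F2))
  · rw [e, mapP_ip] at h1
    exact absurd h1 (ip_ne_fp t)
  · rw [hz, mapP_fp] at h1
    rw [← fp_inj h1]
    exact z.2

omit p in
theorem card_pslSub_ge (F1 : Subfield F) :
    Nat.card F1 * (Nat.card F1 - 1) * (Nat.card F1 + 1) ≤ 2 * Nat.card (pslSub F1) := by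
  rw [← card_pglSub, ← card_pslSub]
  exact Nat.mul_le_mul_right _ (Nat.le_of_dvd (by norm_num) (Nat.gcd_dvd_left _ _))

/-- overgroups of a subfield subgroup are exceptional or of subfield type -/
theorem overgroup_cases {F1 : Subfield F} (h3 : 3 ≤ Nat.card F1) {M : Subgroup (G2 F)} (hHM : pslSub F1 ≤ M) :
    (p ≠ 2 ∧ Nat.card M ∈ ({12, 24, 60} : Finset ℕ)) ∨
      ∃ (σ : G2 F) (F2 : Subfield F), F1 ≤ F2 ∧ M ≤ pglSub F2 ∧ pslSub F2 ≤ conjG σ M ∧
        (conjG σ M = pglSub F2 ∨ (Odd (Nat.card F2) ∧ conjG σ M = pslSub F2)) := by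
  haveI := finite_G2 (F := F)
  have h1 : tr (1 : F) ∈ pslSub F1 := tr_mem_pslSub F1.one_mem
  have hne1 : tr (1 : F) ≠ 1 := fun e => one_ne_zero (α := F) (tr_injective (e.trans tr_zero.symm))
  have hpow : ∀ t : F, tr t ^ p = 1 := fun t => by rw [tr_pow, CharP.cast_eq_zero F p, zero_mul, tr_zero]
  have hnot : ∀ {a b : P2 (Kc F)}, GoodPair a b → ∀ {t : F}, t ≠ 0 → tr t ∉ pairFix a b := by
    intro a b hg t ht hm
    apply not_p_dvd_torus p hg
    have ho : orderOf (tr t) = p := orderOf_eq_prime (hpow t) fun e => ht (tr_injective (e.trans tr_zero.symm))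
    have := orderOf_dvd_natCard (⟨tr t, hm⟩ : pairFix a b)
    rwa [Subgroup.orderOf_mk, ho] at this
  cases classify_finite p M with
  | borel x hx =>
    exfalso
    have e1 := single_tr one_ne_zero x (hx _ (hHM h1))
    have e2 := single_low x (hx _ (hHM (low_mem_pslSub F1)))
    exact ip_ne_fp (0 : F) (e1.symm.trans e2)
  | cyclic a b hg hle hne => exact absurd (hle (hHM h1)) (hnot hg one_ne_zero)
  | dihedral a b hg hle hn hC =>
    exfalso
    haveI : Finite F1 := inferInstance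
    obtain ⟨t, ht, ht1⟩ : ∃ t : F1, t ≠ 0 ∧ t ≠ -1 := by
      by_contra hcon
      push Not at hcon
      classical
      haveI := Fintype.ofFinite F1
      have hs : (Finset.univ : Finset F1) ⊆ {0, -1} := fun x _ => by
        rw [Finset.mem_insert, Finset.mem_singleton]
        exact or_iff_not_imp_left.2 (hcon x)
      have := (Finset.card_le_card hs).trans (Finset.card_insert_le _ _)
      rw [Finset.card_univ, ← Nat.card_eq_fintype_card, Finset.card_singleton] at this
      omega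
    have hm1 := hnot hg (one_ne_zero (α := F))
    have hmt := hnot hg (t := (t : F)) (fun e => ht (Subtype.ext e))
    have := mul_mem_of_swap (hle (hHM h1)) hm1 (hle (hHM (tr_mem_pslSub t.2))) hmt
    rw [tr_mul] at this
    refine hnot hg (fun e => ht1 (Subtype.ext ?_)) this
    push_cast
    linear_combination e
  | a4 hN h2 _ _ => exact Or.inl ⟨h2, by rw [hN]; decide⟩
  | s4 hN h2 _ _ => exact Or.inl ⟨h2, by rw [hN]; decide⟩
  | a5 hN h2 _ _ => exact Or.inl ⟨h2, by rw [hN]; decide⟩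
  | subfield σ F2 hc h =>
    right
    have hle : conjG σ M ≤ pglSub F2 := by
      rcases h with h | ⟨-, h⟩ <;> rw [h]
      exact pslSub_le_pglSub F2
    have hge : pslSub F2 ≤ conjG σ M := by
      rcases h with h | ⟨-, h⟩ <;> rw [h]
      exact pslSub_le_pglSub F2
    have hM : M ≤ conjG σ⁻¹ (pglSub F2) := fun g hg => by
      rw [mem_conjG, inv_inv]
      exact hle (by rw [mem_conjG]; simpa [mul_assoc] using hg)
    obtain ⟨hFF, -, heq⟩ := rigid p (hHM.trans hM)
    exact ⟨σ, F2, hFF, heq ▸ hM, hge, h⟩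

theorem proper_subfield {F1 : Subfield F} {M : Subgroup (G2 F)} (hM : M < psl F) {σ : G2 F} {F2 : Subfield F}
    (h : pslSub F2 ≤ conjG σ M) (hle : F1 ≤ F2) :
    Nat.card F2 * Nat.card F2 ≤ Nat.card F ∧ ∃ k, 1 ≤ k ∧ Nat.card F1 ^ k = Nat.card F2 :=
  ⟨subfield_card_sq_le (subfield_ne_top hM h), exists_card_pow_of_le hle⟩

theorem pgl_square_max {F1 : Subfield F} (hsq : Nat.card F1 * Nat.card F1 = Nat.card F) (ho : Odd (Nat.card F)) :
    ∀ M, pglSub F1 ≤ M → M < psl F → M ≤ pglSub F1 := by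
  intro M hHM hM
  haveI := finite_G2 (F := F)
  have ho1 := odd_subfield ho F1
  have h2 := two_le_card_subfield F1
  have h3 : 3 ≤ Nat.card F1 := by obtain ⟨t, ht⟩ := ho1; omega
  have hc := card_pglSub F1
  have hdvd := Subgroup.card_dvd_of_le hHM
  have hge : Nat.card M ≤ Nat.card (pglSub F1) → M ≤ pglSub F1 := fun h => (Subgroup.eq_of_le_of_card_ge hHM h).ge
  rcases overgroup_cases p h3 ((pslSub_le_pglSub F1).trans hHM) with ⟨-, hN⟩ | ⟨σ, F2, hFF, hle, hps, -⟩
  · simp only [Finset.mem_insert, Finset.mem_singleton] at hN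
    rcases Nat.lt_or_ge (Nat.card F1) 5 with h | h
    · have e : Nat.card F1 = 3 := by obtain ⟨t, ht⟩ := ho1; omega
      rw [e] at hc
      rw [hc] at hdvd hge
      rcases hN with hN | hN | hN <;> rw [hN] at hdvd hge
      · norm_num at hdvd
      · exact hge (by norm_num)
      · norm_num at hdvd
    · exfalso
      have := Nat.le_of_dvd Nat.card_pos hdvd
      have h120 : 5 * 4 * 6 ≤ Nat.card F1 * (Nat.card F1 - 1) * (Nat.card F1 + 1) :=
        Nat.mul_le_mul (Nat.mul_le_mul h (by omega)) (by omega)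
      omega
  · obtain ⟨hsq2, -⟩ := proper_subfield p hM hps hFF
    have hle12 : Nat.card F2 ≤ Nat.card F1 := by
      by_contra hlt
      have : Nat.card F1 * Nat.card F1 < Nat.card F2 * Nat.card F2 := Nat.mul_lt_mul'' (by omega) (by omega)
      omega
    refine hge ((Nat.card_le_card_of_injective _ (Subgroup.inclusion_injective hle)).trans ?_)
    rw [hc, card_pglSub]
    exact Nat.mul_le_mul (Nat.mul_le_mul hle12 (by omega)) (by omega)

theorem psl_prime_max {F1 : Subfield F} {r : ℕ} (hr : r.Prime) (hq : Nat.card F1 ^ r = Nat.card F)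
    (h : (Odd (Nat.card F) ∧ r ≠ 2) ∨ (Even (Nat.card F) ∧ 4 ≤ Nat.card F1)) :
    ∀ M, pslSub F1 ≤ M → M < psl F → M ≤ pslSub F1 := by
  intro M hHM hM
  haveI := finite_G2 (F := F)
  have h2 := two_le_card_subfield F1
  have h3 : 3 ≤ Nat.card F1 := by
    rcases h with ⟨ho, -⟩ | ⟨-, h⟩
    · obtain ⟨t, ht⟩ := odd_subfield ho F1; omega
    · omega
  have hge : Nat.card M ≤ Nat.card (pslSub F1) → M ≤ pslSub F1 := fun h => (Subgroup.eq_of_le_of_card_ge hHM h).ge
  rcases overgroup_cases p h3 hHM with ⟨hp2, hN⟩ | ⟨σ, F2, hFF, hle, hps, -⟩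
  · simp only [Finset.mem_insert, Finset.mem_singleton] at hN
    have hdvd := Subgroup.card_dvd_of_le hHM
    have hMd := Subgroup.card_dvd_of_le hM.le
    rcases h with ⟨ho, hr2⟩ | ⟨he, -⟩
    · have ho1 := odd_subfield ho F1
      have hc := card_pslSub F1
      rw [card_pglSub, gcd_odd ho1] at hc
      rcases (show Nat.card F1 = 3 ∨ Nat.card F1 = 5 ∨ 7 ≤ Nat.card F1 by obtain ⟨t, ht⟩ := ho1; omega) with e | e | e
      · rw [e] at hc hq
        have h12 : Nat.card (pslSub F1) = 12 := by omega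
        rcases hN with hN | hN | hN
        · exact hge (by omega)
        all_goals exfalso
        all_goals
          have hpsl := card_psl F
          rw [gcd_odd ho, ← hq] at hpsl
          rw [hN] at hMd
          obtain ⟨j, hj⟩ := hr.odd_of_ne_two hr2
          have hsq : (3 ^ r - 1) * (3 ^ r + 1) = 3 ^ r * 3 ^ r - 1 := by
            rw [mul_comm, ← Nat.sq_sub_sq, one_pow, pow_two]
          have hmod : (3 ^ r * 3 ^ r) % 16 = 9 ∧ (3 ^ r * 3 ^ r) % 5 = 4 := by
            rw [hj]; clear hj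
            induction j with
            | zero => decide
            | succ j ih =>
              have e3 : 3 ^ (2 * (j + 1) + 1) * 3 ^ (2 * (j + 1) + 1) = 3 ^ (2 * j + 1) * 3 ^ (2 * j + 1) * 81 := by
                ring
              rw [e3]
              omega
          rw [hsq] at hpsl
          have hgt : 0 < 3 ^ r * 3 ^ r := by positivity
          have hodd3 : ¬ 2 ∣ 3 ^ r := fun hd => by
            have := Nat.prime_two.dvd_of_dvd_pow hd; norm_num at this
          have h5 : ¬ 5 ∣ 3 ^ r := fun hd => by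
            have := Nat.prime_five.dvd_of_dvd_pow hd; norm_num at this
        · obtain ⟨c, hc'⟩ := hMd
          have h16 : 16 ∣ 3 ^ r * (3 ^ r * 3 ^ r - 1) := ⟨3 * c, by rw [← hpsl, hc']; ring⟩
          have := (Nat.Coprime.pow_left 4 ((Nat.Prime.coprime_iff_not_dvd Nat.prime_two).2 hodd3)).dvd_of_dvd_mul_left h16
          omega
        · obtain ⟨c, hc'⟩ := hMd
          have h16 : 5 ∣ 3 ^ r * (3 ^ r * 3 ^ r - 1) := ⟨24 * c, by rw [← hpsl, hc']; ring⟩
          have := ((Nat.Prime.coprime_iff_not_dvd Nat.prime_five).2 h5).dvd_of_dvd_mul_left h16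
          omega
      · rw [e] at hc
        exact hge (by omega)
      · exfalso
        have := Nat.le_of_dvd Nat.card_pos hdvd
        have h336 : 7 * 6 * 8 ≤ Nat.card F1 * (Nat.card F1 - 1) * (Nat.card F1 + 1) :=
          Nat.mul_le_mul (Nat.mul_le_mul e (by omega)) (by omega)
        omega
    · exfalso
      obtain ⟨n, hn, hcard⟩ := card_eq_pow (F := F) p
      rw [hcard] at he
      exact hp2 ((Nat.prime_dvd_prime_iff_eq Nat.prime_two Fact.out).1 (even_iff_two_dvd.1 (Nat.even_pow.1 he).1)).symm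
  · obtain ⟨hsq2, k, hk, hk'⟩ := proper_subfield p hM hps hFF
    obtain ⟨m, hm, hm'⟩ := exists_card_pow F2
    rw [← hk', ← pow_mul, ← hq] at hm'
    have hkm := Nat.pow_right_injective h2 hm'
    have hk1 : k = 1 := by
      rcases (Nat.dvd_prime hr).1 ⟨m, hkm.symm⟩ with h | h
      · exact h
      · exfalso
        subst h
        rw [← hk', ← hq] at hsq2
        have : 2 ≤ Nat.card F1 ^ k := h2.trans (Nat.le_self_pow hr.ne_zero _)
        nlinarith
    rw [hk1, pow_one] at hk'
    obtain rfl := subfield_eq_of_card hk'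
    rcases h with ⟨ho, hr2⟩ | ⟨he, -⟩
    · rw [← pglSub_inf_psl F1 hq (hr.odd_of_ne_two hr2)]
      exact le_inf hle hM.le
    · rw [show pslSub F1 = pglSub F1 by
        rw [pslSub, psl_eq_top (by rw [← hq] at he; exact (Nat.even_pow.1 he).1), pglSub, MonoidHom.range_eq_map]]
      exact hle

end CfsgLib.Perm.Dickson
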