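import Cfsg.Agent.Lib.Perm.Dickson.ListAux

/-!
# Maximal exceptional subgroups of PSL(2, q)
-/

set_option autoImplicit false
set_option linter.all false

namespace CfsgLib.Perm.Dickson

open Matrix

variable {F : Type*} [Field F] [Finite F]

omit [Finite F] in
theorem exists_embedded {F1 : Subfield F} {X : Type*} [Group X] (H1 : Subgroup (S2P F1)) (e : H1 ≃* X) :
    ∃ A : Subgroup (G2 F), A ≤ pglSub F1 ∧ A ≤ psl F ∧ Nonempty (A ≃* X) := by
  refine ⟨(up H1).map (mapG F1.subtype), ?_, ?_, ?_⟩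
  · rintro _ ⟨g, -, rfl⟩; exact ⟨g, rfl⟩
  · exact (Subgroup.map_mono (up_le H1)).trans (psl_map_le _)
  · exact ⟨(((up H1).equivMapOfInjective _ (mapG_injective F1.subtype)).symm.trans (upEquiv H1).symm).trans e⟩

/-- A₄ sits inside A₅ -/
theorem exists_a4_to_a5 : ∃ f : alternatingGroup (Fin 4) →* alternatingGroup (Fin 5), Function.Injective f := by
  let g : Fin 4 ≃ {x : Fin 5 // x.val < 4} :=
    { toFun := fun i => ⟨i.castSucc, i.2⟩
      invFun := fun x => ⟨x.1.val, x.2⟩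
      left_inv := fun i => rfl
      right_inv := fun x => rfl }
  refine ⟨MonoidHom.codRestrict ((Equiv.Perm.extendDomainHom g).comp (alternatingGroup (Fin 4)).subtype) _ fun x => ?_, ?_⟩
  · exact Equiv.Perm.mem_alternatingGroup.2
      ((Equiv.Perm.sign_extendDomain (x : Equiv.Perm (Fin 4)) g).trans (Equiv.Perm.mem_alternatingGroup.1 x.2))
  · exact fun a b h => Subtype.ext (Equiv.Perm.extendDomainHom_injective g (congrArg Subtype.val h))

theorem psl_card_lower (ho : Odd (Nat.card F)) (h5 : 5 ≤ Nat.card F) : 60 ≤ Nat.card (psl F) := by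
  have h := card_psl F
  rw [gcd_odd ho] at h
  have := Nat.mul_le_mul h5 (Nat.mul_le_mul (show 4 ≤ Nat.card F - 1 by omega) (show 6 ≤ Nat.card F + 1 by omega))
  omega

omit [Finite F] in
theorem pow_mod_eight {p : ℕ} (hp : p % 2 = 1) (n : ℕ) :
    (Even n → p ^ n % 8 = 1) ∧ (Odd n → p ^ n % 8 = p % 8) := by
  have h2 : p ^ 2 % 8 = 1 := by
    obtain ⟨r, hr, e⟩ : ∃ r, (r = 1 ∨ r = 3 ∨ r = 5 ∨ r = 7) ∧ p % 8 = r := ⟨p % 8, by omega, rfl⟩
    rw [Nat.pow_mod, e]
    rcases hr with rfl | rfl | rfl | rfl <;> rfl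
  have he : ∀ k, p ^ (2 * k) % 8 = 1 := fun k => by rw [pow_mul, Nat.pow_mod, h2, one_pow]; rfl
  refine ⟨fun h => ?_, fun h => ?_⟩
  · obtain ⟨k, rfl⟩ := h
    rw [← two_mul]; exact he k
  · obtain ⟨k, rfl⟩ := h
    rw [pow_succ, Nat.mul_mod, he k, one_mul, Nat.mod_mod]

variable (p : ℕ) [Fact p.Prime] [CharP F p]
include p

/-- a proper subfield group over a large enough subfield is too large -/
theorem big_subfield_contra {M : Subgroup (S2P F)} (hM : IsCoatom M) {F1 : Subfield F} {σ : G2 F}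
    (hne : Nat.card F1 ≠ Nat.card F) {c : ℕ} (hc : c ≤ Nat.card F1) (hbig : 2 * Nat.card M < c * (c - 1) * (c + 1))
    (hle : conjG σ (up M) ≤ pglSub F1) : False := by
  have h1 := coatom_card_eq hM (le_inf hle ((Subgroup.map_mono (up_le M)).trans (conjG_psl σ).le)) (pglSub_inf_lt hne)
  have h2 := card_pglSub_inf_ge F1
  rw [h1] at h2
  have h3 := Nat.mul_le_mul (Nat.mul_le_mul hc (show c - 1 ≤ Nat.card F1 - 1 by omega)) (show c + 1 ≤ Nat.card F1 + 1 by omega)
  omega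

theorem coatom_a4 (ho : Odd (Nat.card F)) (h5 : 5 ≤ p) {M : Subgroup (S2P F)} (hM : IsCoatom M)
    (e : M ≃* alternatingGroup (Fin 4)) :
    Nat.card F = p ∧ (p % 8 = 3 ∨ p % 8 = 5) ∧ ¬ (p % 10 = 1 ∨ p % 10 = 9) := by
  haveI := finite_G2 (F := F)
  have hp : p.Prime := Fact.out
  obtain ⟨n, hn, hq⟩ := card_eq_pow (F := F) p
  have hq5 : 5 ≤ Nat.card F := hq ▸ le_trans h5 (Nat.le_self_pow (by omega) p)
  have h60 := psl_card_lower ho hq5
  have h2 := two_ne_zero_of_odd ho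
  have hM12 : Nat.card M = 12 := by
    rw [Nat.card_congr e.toEquiv, Nat.card_eq_fintype_card]; decide +kernel
  have e' : up M ≃* alternatingGroup (Fin 4) := (upEquiv M).symm.trans e
  obtain ⟨Q⟩ := exists_qpar h2
  by_cases hsq : IsSquare (2 : F)
  · exfalso
    obtain ⟨σ, hσ⟩ := Q.exists_conj_le_of_a4 (up_le M) e'
    have hN : Q.N ⊓ psl F = Q.N := inf_eq_left.2 (Q.N_inf_psl_of_sq hsq)
    rw [hN] at hσ
    have hlt : Q.N < psl F := lt_of_le_of_ne (Q.N_inf_psl_of_sq hsq) fun e => by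
      have := Q.card_N
      rw [e] at this; omega
    have := coatom_card_eq hM hσ hlt
    rw [Q.card_N] at this; omega
  have h8 : Nat.card F % 8 = 3 ∨ Nat.card F % 8 = 5 := by
    by_contra hcon
    exact hsq (two_is_square_iff.2 (by omega))
  have hp2 : p % 2 = 1 := hp.eq_two_or_odd.resolve_left (by omega)
  have hnodd : Odd n := by
    rcases Nat.even_or_odd n with he | ho'
    · have := (pow_mod_eight hp2 n).1 he
      rw [← hq] at this; omega
    · exact ho'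
  have hp8 : p % 8 = 3 ∨ p % 8 = 5 := by rw [← (pow_mod_eight hp2 n).2 hnodd, ← hq]; exact h8
  by_cases hn1 : n = 1
  · subst hn1
    rw [pow_one] at hq
    refine ⟨hq, hp8, fun h10 => ?_⟩
    have hc := card_psl F
    rw [gcd_odd ho, hq] at hc
    have hd5 : 5 ∣ Nat.card (psl F) := by
      refine (by norm_num : Nat.Coprime 5 2).dvd_of_dvd_mul_left ?_
      rw [hc]
      refine Dvd.dvd.mul_left ?_ _
      rcases (show p % 5 = 1 ∨ p % 5 = 4 by omega) with h | h
      · exact Dvd.dvd.mul_right (by omega) _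
      · exact Dvd.dvd.mul_left (by omega) _
    obtain ⟨τ, hτ⟩ := exists_tau_of_dvd p hd5
    obtain ⟨f⟩ := Q.icosa_a5 hτ
    obtain ⟨g, hg⟩ := exists_a4_to_a5
    let ι : alternatingGroup (Fin 4) →* G2 F := (Q.icosa hτ).subtype.comp (f.symm.toMonoidHom.comp g)
    have hι : Function.Injective ι := Subtype.val_injective.comp (f.symm.injective.comp hg)
    have hA : ι.range ≤ Q.icosa hτ := by
      rintro _ ⟨x, rfl⟩; exact (f.symm (g x)).2
    obtain ⟨σ, hσ⟩ := a4_conj h2 hsq (up_le M) (hA.trans (Q.icosa_le_psl hτ)) e' (MonoidHom.ofInjective hι).symm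
    have hcard : Nat.card (Q.icosa hτ) = 60 := by rw [Nat.card_congr f.toEquiv, Nat.card_eq_fintype_card]; rfl
    have hlt : Q.icosa hτ < psl F := lt_of_le_of_ne (Q.icosa_le_psl hτ) fun e => by
      rw [e] at hcard
      rw [hcard] at hc
      have := Nat.mul_le_mul (show 11 ≤ p by omega) (Nat.mul_le_mul (show 10 ≤ p - 1 by omega) (show 12 ≤ p + 1 by omega))
      omega
    have := coatom_card_eq hM (hσ.le.trans hA) hlt
    omega
  · exfalso
    obtain ⟨F1, hF1, -⟩ := exists_subfield_of_dvd (F := F) p hq (k := 1) le_rfl (one_dvd n) (by omega)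
    rw [pow_one] at hF1
    haveI : CharP F1 p := charP_subfield p F1
    obtain ⟨H1, ⟨f1⟩⟩ := exists_a4_odd (F := F1) (by rw [hF1]; exact Nat.odd_iff.2 hp2)
    obtain ⟨A, hA1, hA2, ⟨f⟩⟩ := exists_embedded H1 f1
    obtain ⟨σ, hσ⟩ := a4_conj h2 hsq (up_le M) hA2 e' f
    refine big_subfield_contra p hM (c := 5) ?_ (by omega) (by omega) (hσ.le.trans hA1)
    rw [hF1, hq]
    intro e''
    exact hn1 (Nat.pow_right_injective hp.two_le (show p ^ n = p ^ 1 by rw [pow_one, ← e'']))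

theorem coatom_s4 (ho : Odd (Nat.card F)) (h5 : 5 ≤ p) {M : Subgroup (S2P F)} (hM : IsCoatom M)
    (e : M ≃* Equiv.Perm (Fin 4)) : Nat.card F = p ∧ (p % 8 = 1 ∨ p % 8 = 7) := by
  haveI := finite_G2 (F := F)
  have hp : p.Prime := Fact.out
  obtain ⟨n, hn, hq⟩ := card_eq_pow (F := F) p
  have h2 := two_ne_zero_of_odd ho
  have hM24 : Nat.card M = 24 := by
    rw [Nat.card_congr e.toEquiv, Nat.card_eq_fintype_card]; decide +kernel
  have e' : up M ≃* Equiv.Perm (Fin 4) := (upEquiv M).symm.trans e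
  obtain ⟨Q⟩ := exists_qpar h2
  have hsq : IsSquare (2 : F) := by
    by_contra hns
    obtain ⟨σ, hσ⟩ := Q.exists_conj_eq_of_s4 (up_le M) e'
    have hle : conjG σ (up M) ≤ Q.N ⊓ psl F := le_inf hσ.le ((Subgroup.map_mono (up_le M)).trans (conjG_psl σ).le)
    have := Subgroup.card_dvd_of_le hle
    rw [card_conjG, card_up, Q.card_N_psl hns, hM24] at this
    norm_num at this
  have h8 : Nat.card F % 8 = 1 ∨ Nat.card F % 8 = 7 := by
    have := two_is_square_iff.1 hsq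
    obtain ⟨t, ht⟩ := ho
    omega
  have hp2 : p % 2 = 1 := hp.eq_two_or_odd.resolve_left (by omega)
  by_cases hn1 : n = 1
  · subst hn1
    rw [pow_one] at hq
    exact ⟨hq, hq ▸ h8⟩
  exfalso
  obtain ⟨F1, hF1, -⟩ := exists_subfield_of_dvd (F := F) p hq (k := 1) le_rfl (one_dvd n) (by omega)
  rw [pow_one] at hF1
  haveI : CharP F1 p := charP_subfield p F1
  have ho1 : Odd (Nat.card F1) := by rw [hF1]; exact Nat.odd_iff.2 hp2
  obtain ⟨A, hA1, hA2, ⟨f⟩⟩ : ∃ A : Subgroup (G2 F), A ≤ pglSub F1 ∧ A ≤ psl F ∧ Nonempty (A ≃* Equiv.Perm (Fin 4)) := by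
    rcases Nat.even_or_odd n with he | hod
    · obtain ⟨Q1⟩ := exists_qpar (F := F1) (two_ne_zero_of_odd ho1)
      obtain ⟨f1⟩ := Q1.N_s4
      refine ⟨Q1.N.map (mapG F1.subtype), by rintro _ ⟨g, -, rfl⟩; exact ⟨g, rfl⟩, ?_,
        ⟨(Q1.N.equivMapOfInjective _ (mapG_injective _)).symm.trans f1⟩⟩
      refine le_trans ?_ (pglSub_le_psl F1 (m := n) (by rw [hF1, hq]) (Or.inl he))
      rintro _ ⟨g, -, rfl⟩; exact ⟨g, rfl⟩
    · have : IsSquare (2 : F1) := two_is_square_iff.2 (by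
        rw [hF1, ← (pow_mod_eight hp2 n).2 hod, ← hq]; omega)
      obtain ⟨H1, ⟨f1⟩⟩ := exists_s4 (F := F1) this ho1
      exact exists_embedded H1 f1
  obtain ⟨σ, hσ⟩ := s4_conj h2 (up_le M) hA2 e' f
  refine big_subfield_contra p hM (c := 5) ?_ (by omega) (by omega) (hσ.le.trans hA1)
  rw [hF1, hq]
  intro e''
  exact hn1 (Nat.pow_right_injective hp.two_le (show p ^ n = p ^ 1 by rw [pow_one, ← e'']))

theorem coatom_a5 (ho : Odd (Nat.card F)) (h5 : p ≠ 5) {M : Subgroup (S2P F)} (hM : IsCoatom M)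
    (e : M ≃* alternatingGroup (Fin 5)) :
    (Nat.card F % 10 = 1 ∨ Nat.card F % 10 = 9) ∧
      (Nat.card F = p ∨ (Nat.card F = p ^ 2 ∧ (p % 10 = 3 ∨ p % 10 = 7))) := by
  haveI := finite_G2 (F := F)
  have hp : p.Prime := Fact.out
  obtain ⟨n, hn, hq⟩ := card_eq_pow (F := F) p
  have hp2 : p % 2 = 1 := by
    rcases hp.eq_two_or_odd with rfl | h
    · exfalso; rw [hq, Nat.odd_pow_iff (by omega)] at ho; exact absurd ho (by decide)
    · exact h
  have hp5 : p % 5 ≠ 0 := fun h =>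
    h5 ((Nat.prime_dvd_prime_iff_eq (by norm_num) hp).1 (Nat.dvd_of_mod_eq_zero h)).symm
  have hM60 : Nat.card M = 60 := by rw [Nat.card_congr e.toEquiv, Nat.card_eq_fintype_card]; rfl
  have hc := card_psl F
  rw [gcd_odd ho] at hc
  have hd60 : 60 ∣ Nat.card (psl F) := by rw [← hM60, ← card_up M]; exact Subgroup.card_dvd_of_le (up_le M)
  have hq5 : Nat.card F % 5 = 1 ∨ Nat.card F % 5 = 4 := by
    have h : 5 ∣ Nat.card F * ((Nat.card F - 1) * (Nat.card F + 1)) :=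
      hc ▸ Dvd.dvd.mul_left ((by norm_num : 5 ∣ 60).trans hd60) 2
    rcases (Nat.Prime.dvd_mul (by norm_num : Nat.Prime 5)).1 h with h | h
    · rw [hq] at h
      exact absurd ((Nat.prime_dvd_prime_iff_eq (by norm_num) hp).1 ((by norm_num : Nat.Prime 5).dvd_of_dvd_pow h)).symm h5
    · have := card_pos_lt (F := F)
      rcases (Nat.Prime.dvd_mul (by norm_num : Nat.Prime 5)).1 h with h | h <;> omega
  have hq10 : Nat.card F % 10 = 1 ∨ Nat.card F % 10 = 9 := by
    obtain ⟨t, ht⟩ := ho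
    omega
  refine ⟨hq10, ?_⟩
  by_cases hn1 : n = 1
  · left; rw [hq, hn1, pow_one]
  obtain ⟨k, hk, hkn, hk5⟩ : ∃ k, (k = 1 ∨ (k = 2 ∧ (p % 5 = 2 ∨ p % 5 = 3))) ∧ k ∣ n ∧ (p ^ k % 5 = 1 ∨ p ^ k % 5 = 4) := by
    by_cases h14 : p % 5 = 1 ∨ p % 5 = 4
    · exact ⟨1, Or.inl rfl, one_dvd n, by rw [pow_one]; exact h14⟩
    refine ⟨2, Or.inr ⟨rfl, by omega⟩, ?_, ?_⟩
    · rw [← even_iff_two_dvd]
      by_contra hne
      obtain ⟨t, rfl⟩ := Nat.not_even_iff_odd.1 hne
      rw [hq, pow_succ, pow_mul, Nat.mul_mod, Nat.pow_mod] at hq5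
      rcases (show p % 5 = 2 ∨ p % 5 = 3 by omega) with h | h <;>
        rcases Nat.even_or_odd t with ⟨s, rfl⟩ | ⟨s, rfl⟩ <;>
        simp [h, Nat.pow_mod, pow_succ, ← two_mul, pow_mul, Nat.mul_mod] at hq5
    · rcases (show p % 5 = 2 ∨ p % 5 = 3 by omega) with h | h <;> simp [h, Nat.pow_mod]
  by_cases hnk : n = k
  · rcases hk with rfl | ⟨rfl, h⟩
    · exact absurd hnk hn1
    · exact Or.inr ⟨by rw [hq, hnk], by omega⟩
  exfalso
  have hk0 : 1 ≤ k := by rcases hk with rfl | ⟨rfl, -⟩ <;> omega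
  obtain ⟨F1, hF1, -⟩ := exists_subfield_of_dvd (F := F) p hq hk0 hkn (by omega)
  haveI : CharP F1 p := charP_subfield p F1
  have ho1 : Odd (Nat.card F1) := odd_subfield ho F1
  have h5' : 5 ∣ Nat.card (psl F1) := by
    refine (by norm_num : Nat.Coprime 5 2).dvd_of_dvd_mul_left ?_
    have hc1 := card_psl F1
    rw [gcd_odd ho1] at hc1
    rw [hc1, hF1]
    refine Dvd.dvd.mul_left ?_ _
    rcases hk5 with h | h
    · exact Dvd.dvd.mul_right (by omega) _
    · exact Dvd.dvd.mul_left (by omega) _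
  obtain ⟨τ, hτ⟩ := exists_tau_of_dvd p h5'
  obtain ⟨Q1⟩ := exists_qpar (F := F1) (two_ne_zero_of_odd ho1)
  obtain ⟨σ, hσ⟩ := a5_conj_subfield (up_le M) ((upEquiv M).symm.trans e) Q1 hτ
  refine big_subfield_contra p hM (c := 9) ?_ ?_ (by omega) hσ
  · rw [hF1, hq]
    intro e''
    exact hnk (Nat.pow_right_injective hp.two_le e'').symm
  · have := hp.two_le
    have hp9 : p ≠ 9 := fun e => by rw [e] at hp; norm_num at hp
    rw [hF1]
    rcases hk with rfl | ⟨rfl, -⟩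
    · rw [pow_one] at hk5 ⊢; omega
    · have := Nat.mul_le_mul (show 3 ≤ p by omega) (show 3 ≤ p by omega)
      rw [pow_two]; omega

end CfsgLib.Perm.Dickson
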