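import Cfsg.Agent.Lib.Perm.Dickson.TorusPSL

/-!
# Dickson's list inside PGL(2, q)
-/

set_option autoImplicit false
set_option linter.all false

namespace CfsgLib.Perm.Dickson

open Matrix

variable {F : Type*} [Field F]

/-- Dickson's list for subgroups of `PGL(2, q)` -/
inductive FType (p : ℕ) (H : Subgroup (G2 F)) : Prop
  | borel (x : P2 F) (h : ∀ g ∈ H, g • x = x) : FType p H
  | cyclic (a b : P2 (Kc F)) (hg : GoodPair a b) (h : H ≤ pairFix a b) (hne : H ≠ ⊥) : FType p H
  | dihedral (a b : P2 (Kc F)) (hg : GoodPair a b) (h : H ≤ pairSet a b) (hn : ¬ H ≤ pairFix a b)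
      (hC : H ⊓ pairFix a b ≠ ⊥) : FType p H
  | a4 (hN : Nat.card H = 12) (h2 : p ≠ 2) (h3 : p ≠ 3) (h : Nonempty (H ≃* alternatingGroup (Fin 4))) : FType p H
  | s4 (hN : Nat.card H = 24) (h2 : p ≠ 2) (h3 : p ≠ 3) (h : Nonempty (H ≃* Equiv.Perm (Fin 4))) : FType p H
  | a5 (hN : Nat.card H = 60) (h2 : p ≠ 2) (h5 : p ≠ 5) (h : Nonempty (H ≃* alternatingGroup (Fin 5))) : FType p H
  | subfield (σ : G2 F) (F1 : Subfield F) (h3 : 3 ≤ Nat.card F1)
      (h : conjG σ H = (mapG F1.subtype).range ∨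
        (Odd (Nat.card F1) ∧ conjG σ H = (psl F1).map (mapG F1.subtype))) : FType p H

theorem conjG_map {K : Type*} [Field K] (i : F →+* K) (σ : G2 F) (H : Subgroup (G2 F)) :
    conjG (mapG i σ) (H.map (mapG i)) = (conjG σ H).map (mapG i) := by
  rw [conjG, conjG, Subgroup.map_map, Subgroup.map_map]
  congr 1
  ext g
  simp

theorem mapG_comp {K L : Type*} [Field K] [Field L] (i : F →+* K) (j : K →+* L) :
    mapG (j.comp i) = (mapG j).comp (mapG i) := ProjGenLinGroup.map_comp i j

theorem psl_map_le {K : Type*} [Field K] (i : F →+* K) : (psl F).map (mapG i) ≤ psl K := by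
  rintro _ ⟨_, ⟨A, rfl⟩, rfl⟩
  exact ⟨SpecialLinearGroup.map i A, congrArg ProjGenLinGroup.mk (Units.ext rfl)⟩

theorem mapG_surjective {K : Type*} [Field K] (e : F ≃+* K) : Function.Surjective (mapG (e : F →+* K)) := by
  intro g
  refine ⟨mapG (e.symm : K →+* F) g, ?_⟩
  rw [← MonoidHom.comp_apply, ← mapG_comp]
  simp [mapG]

theorem psl_map_equiv {K : Type*} [Field K] (e : F ≃+* K) : (psl F).map (mapG (e : F →+* K)) = psl K := by
  refine le_antisymm (psl_map_le _) fun g hg => ?_
  refine ⟨mapG (e.symm : K →+* F) g, psl_map_le _ ⟨g, hg, rfl⟩, ?_⟩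
  rw [← MonoidHom.comp_apply, ← mapG_comp]
  simp [mapG]

variable (p : ℕ) [Fact p.Prime] [CharP F p] [Finite F]
include p

theorem goodPair_of_fix {g : G2 F} (hg : g ≠ 1) {a b : P2 (Kc F)} (hab : a ≠ b) (ha : mapG (iF F) g • a = a)
    (hb : mapG (iF F) g • b = b) : GoodPair a b := by
  refine ⟨hab, ?_⟩
  by_cases hr : IsRat a
  · exact Or.inl ⟨hr, isRat_of_fix p hg hab ha hb hr⟩
  · exact Or.inr ⟨⟨hr, fun h => hr (isRat_of_fix p hg hab.symm hb ha h)⟩, g, hg, mem_pairFix.2 ⟨ha, hb⟩⟩

/-- a subgroup fixing a point of the closure -/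
theorem ftype_of_fix (H : Subgroup (G2 F)) {x : P2 (Kc F)} (hx : ∀ g ∈ H, mapG (iF F) g • x = x) : FType p H := by
  haveI := finite_G2 (F := F)
  by_cases hu : ∃ g ∈ H, g ≠ 1 ∧ ∀ y, mapG (iF F) g • y = y → y = x
  · obtain ⟨g, hgH, -, hg⟩ := hu
    obtain ⟨z, rfl⟩ := isRat_of_single p (hx g hgH) hg
    exact FType.borel z fun h hh => (fix_map_iff h z).1 (hx h hh)
  push Not at hu
  by_cases hb : H = ⊥
  · subst hb
    exact FType.borel ip fun g hg => by rw [Subgroup.mem_bot.1 hg, one_smul]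
  obtain ⟨⟨g, hgH⟩, hg⟩ := Subgroup.ne_bot_iff_exists_ne_one.1 hb
  have hg1 : g ≠ 1 := fun e => hg (Subtype.ext e)
  obtain ⟨y, hy, hne⟩ := hu g hgH hg1
  refine FType.cyclic x y (goodPair_of_fix p hg1 (Ne.symm hne) (hx g hgH) hy) (fun h hh => ?_) hb
  refine mem_pairFix.2 ⟨hx h hh, ?_⟩
  -- the image is abelian
  haveI : Finite (H.map (mapG (iF F))) := Finite.of_equiv _ (H.equivMapOfInjective _ (mapG_injective _)).toEquiv
  have hcyc := isCyclic_of_fix (H.map (mapG (iF F))) (x := x) (by rintro _ ⟨k, hk, rfl⟩; exact hx k hk) (by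
    rintro _ ⟨k, hk, rfl⟩ hk'
    by_contra hne'
    obtain ⟨w, hw, hwne⟩ := hu k hk (fun e => hne' (by rw [e, map_one]))
    exact hwne (hk' w hw))
  letI := hcyc.commGroup
  have hcomm : mapG (iF F) h * mapG (iF F) g = mapG (iF F) g * mapG (iF F) h :=
    congrArg Subtype.val (mul_comm (⟨_, h, hh, rfl⟩ : H.map (mapG (iF F))) ⟨_, g, hgH, rfl⟩)
  have hfix : mapG (iF F) g • (mapG (iF F) h • y) = mapG (iF F) h • y := by
    rw [← mul_smul, ← hcomm, mul_smul, hy]
  by_contra hcon
  refine hg1 ((map_eq_one_iff _ (mapG_injective _)).1 (eq_one_of_three (Ne.symm hne) (fun e => ?_) (Ne.symm hcon)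
    (hx g hgH) hy hfix))
  exact hne (MulAction.injective (mapG (iF F) h) ((hx h hh).trans e).symm)

theorem classify_finite (H : Subgroup (G2 F)) : FType p H := by
  classical
  haveI := finite_G2 (F := F)
  haveI := charP_Kc (F := F) p
  set i := iF F with hi
  set G := H.map (mapG i) with hG
  haveI : Finite G := Finite.of_equiv _ (H.equivMapOfInjective _ (mapG_injective _)).toEquiv
  have e : H ≃* G := H.equivMapOfInjective _ (mapG_injective _)
  have hcard : Nat.card G = Nat.card H := (Nat.card_congr e.toEquiv).symm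
  have hmem : ∀ g ∈ H, mapG i g ∈ G := fun g hg => ⟨g, hg, rfl⟩
  cases classify (p := p) (G := G) (fun g _ => exists_fixed_of_isAlgClosed (g : G2 (Kc F))) with
  | fix x h => exact ftype_of_fix p H fun g hg => h ⟨_, hmem g hg⟩
  | dihedral C hC h2 hp a b hab ha hb hinv =>
    by_cases hbot : C = ⊥
    · rw [hbot, Subgroup.card_bot, mul_one] at h2
      obtain ⟨g0, hg0⟩ : ∃ g0 : G, g0 ≠ 1 := by
        haveI : Nontrivial G := Finite.one_lt_card_iff_nontrivial.1 (by omega)
        exact exists_ne 1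
      obtain ⟨x, hx⟩ := exists_fixed_of_isAlgClosed (g0 : G2 (Kc F))
      refine ftype_of_fix p H (x := x) fun g hg => ?_
      have hz : Subgroup.zpowers g0 = ⊤ := Subgroup.eq_top_of_card_eq _ (by
        rw [Nat.card_zpowers]
        have hd := orderOf_dvd_natCard g0
        rw [← h2, Nat.dvd_prime Nat.prime_two, orderOf_eq_one_iff] at hd
        rw [hd.resolve_left hg0]; exact h2)
      have hmem' : (⟨_, hmem g hg⟩ : G) ∈ Subgroup.zpowers g0 := hz ▸ Subgroup.mem_top _
      obtain ⟨k, hk⟩ := hmem'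
      have : (⟨_, hmem g hg⟩ : G) • x = x := by
        rw [← hk]
        exact (zpow_mem (show g0 ∈ MulAction.stabilizer G x from hx) k : _)
      exact this
    · obtain ⟨⟨c, hcC⟩, hc1⟩ := Subgroup.ne_bot_iff_exists_ne_one.1 hbot
      have hc1' : c ≠ 1 := fun e => hc1 (Subtype.ext e)
      obtain ⟨c0, hc0H, hc0⟩ := c.2
      have hc01 : c0 ≠ 1 := fun e => hc1' (Subtype.ext (by rw [← hc0, e, map_one]; rfl))
      have hca : mapG i c0 • a = a := by rw [hc0]; exact ha c hcC
      have hcb : mapG i c0 • b = b := by rw [hc0]; exact hb c hcC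
      have hgood := goodPair_of_fix p hc01 hab hca hcb
      have hidx : C.index = 2 := by
        have := C.card_mul_index
        rw [← h2, mul_comm 2] at this
        exact Nat.eq_of_mul_eq_mul_left Nat.card_pos this
      haveI hn := Subgroup.normal_of_index_eq_two hidx
      have hone : mapG i c0 ≠ 1 := fun e => hc01 ((map_eq_one_iff _ (mapG_injective _)).1 e)
      have hcase : ∀ w : P2 (Kc F), mapG i c0 • w = w → w = a ∨ w = b := by
        intro w hw
        by_contra hcon
        push Not at hcon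
        exact hone (eq_one_of_three hab (Ne.symm hcon.1) (Ne.symm hcon.2) hca hcb hw)
      have hperm : ∀ g : G, ∀ w : P2 (Kc F), (∀ k ∈ C, k • w = w) → mapG i c0 • (g • w) = g • w := by
        intro g w hw
        rw [hc0]
        have := hw _ (hn.conj_mem c hcC g⁻¹)
        rw [inv_inv, mul_smul, mul_smul, inv_smul_eq_iff] at this
        exact this
      refine FType.dihedral a b hgood (fun g hg => ?_) (fun hle => ?_) ?_
      · rcases hcase _ (hperm ⟨_, hmem g hg⟩ a ha) with e1 | e1 <;>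
          rcases hcase _ (hperm ⟨_, hmem g hg⟩ b hb) with e2 | e2
        · exact absurd (MulAction.injective (⟨_, hmem g hg⟩ : G) (e1.trans e2.symm)) hab
        · exact mem_pairSet.2 (Or.inl ⟨e1, e2⟩)
        · exact mem_pairSet.2 (Or.inr ⟨e1, e2⟩)
        · exact absurd (MulAction.injective (⟨_, hmem g hg⟩ : G) (e1.trans e2.symm)) hab
      · -- otherwise `G` would be cyclic with only involutions outside `C`
        obtain ⟨t, ht⟩ : ∃ t : G, t ∉ C := by
          by_contra hcon
          push Not at hcon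
          rw [show C = ⊤ from eq_top_iff.2 fun g _ => hcon g, Subgroup.index_top] at hidx
          omega
        obtain ⟨t0, ht0H, ht0⟩ := t.2
        have e1 := hinv t ht
        have e2 := hinv (c * t) (fun hh => ht ((C.mul_mem_cancel_left hcC).1 hh))
        letI := (isCyclic_pairFix (F := F) hab).commGroup
        have hcomm : c * t = t * c := Subtype.ext (by
          rw [Subgroup.coe_mul, Subgroup.coe_mul, ← hc0, ← ht0, ← map_mul, ← map_mul]
          exact congrArg (mapG i) (congrArg Subtype.val (mul_comm (⟨c0, hle hc0H⟩ : pairFix a b) ⟨t0, hle ht0H⟩)))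
        have hc2 : c0 * c0 = 1 := by
          have : c * c = 1 := by
            rw [mul_assoc, ← mul_assoc t c t, ← hcomm, mul_assoc c t t, e1, mul_one] at e2
            exact e2
          exact (map_eq_one_iff _ (mapG_injective _)).1 (by rw [map_mul, hc0]; exact congrArg Subtype.val this)
        have ht01 : t0 ≠ 1 := fun e => ht (by
          have : t = 1 := Subtype.ext (by rw [← ht0, e, map_one]; rfl)
          rw [this]; exact one_mem C)
        have ht2 : t0 * t0 = 1 := (map_eq_one_iff _ (mapG_injective _)).1 (by rw [map_mul, ht0]; exact congrArg Subtype.val e1)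
        haveI := isCyclic_pairFix (F := F) hab
        have huniq : ∀ k : pairFix a b, k ≠ 1 → k * k = 1 → k = (⟨c0, hle hc0H⟩ : pairFix a b) := by
          intro k hk1 hk2
          haveI := Fintype.ofFinite (pairFix a b)
          have ho : orderOf (⟨c0, hle hc0H⟩ : pairFix a b) = 2 :=
            orderOf_eq_prime (by rw [pow_two]; exact Subtype.ext hc2) (fun e => hc01 (congrArg Subtype.val e))
          have hcard1 := IsCyclic.card_orderOf_eq_totient (α := pairFix a b) (d := 2) (dvd_trans (dvd_of_eq ho.symm) (orderOf_dvd_card (x := (⟨c0, hle hc0H⟩ : pairFix a b))))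
          rw [Nat.totient_two] at hcard1
          exact Finset.card_le_one.1 hcard1.le k
            (Finset.mem_filter.2 ⟨Finset.mem_univ _, orderOf_eq_prime (by rw [pow_two]; exact hk2) hk1⟩) _
            (Finset.mem_filter.2 ⟨Finset.mem_univ _, ho⟩)
        have hk := congrArg Subtype.val (huniq ⟨t0, hle ht0H⟩ (fun e => ht01 (congrArg Subtype.val e)) (Subtype.ext ht2))
        apply ht
        have : t = c := Subtype.ext (by rw [← ht0, ← hc0]; exact congrArg (mapG i) hk)
        rw [this]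
        exact hcC
      · intro hbot'
        have : c0 ∈ H ⊓ pairFix a b := ⟨hc0H, mem_pairFix.2 ⟨hca, hcb⟩⟩
        rw [hbot'] at this
        exact hc01 (Subgroup.mem_bot.1 this)
  | a4 hN h2 h3 h => exact FType.a4 (hcard ▸ hN) h2 h3 ⟨e.trans h.some⟩
  | s4 hN h2 h3 h => exact FType.s4 (hcard ▸ hN) h2 h3 ⟨e.trans h.some⟩
  | a5 hN h2 h5 h => exact FType.a5 (hcard ▸ hN) h2 h5 ⟨e.trans h.some⟩
  | subfield h =>
    obtain ⟨σ, F0, hF0, h3, hor⟩ := h
    haveI := hF0
    have hpsl : (psl F0).map (mapG F0.subtype) ≤ conjG σ G := by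
      rcases hor with h | ⟨-, h⟩
      · rw [h]; rintro _ ⟨k, -, rfl⟩; exact ⟨k, rfl⟩
      · rw [h]
    have hrat : ∀ {g : G2 (Kc F)} {z : P2 (Kc F)}, g ∈ conjG σ G → g • z = z → (∀ w, g • w = w → w = z) →
        IsRat (σ⁻¹ • z) := by
      intro g z hg hgz huniq
      rw [mem_conjG] at hg
      obtain ⟨k, -, hk⟩ := hg
      refine isRat_of_single p (g := k) ?_ fun w hw => ?_
      · rw [← hi, hk, mul_smul, mul_smul, smul_inv_smul, hgz]
      · rw [← hi, hk, mul_smul, mul_smul, inv_smul_eq_iff] at hw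
        rw [← huniq _ hw, inv_smul_smul]
    have hone : ((1 : F0) : Kc F) ≠ 0 := one_ne_zero
    have hu : tr (1 : Kc F) ∈ conjG σ G := by
      have := hpsl ⟨_, tr_mem_psl (1 : F0), rfl⟩
      rwa [mapG_tr] at this
    have hufix : ∀ w : P2 (Kc F), tr (1 : Kc F) • w = w → w = ip := fun w hw =>
      (single_fix_iff (1 : Kc F) 1).2 ⟨rfl, one_ne_zero⟩ w (by rw [di_one, mul_one]; exact hw)
    have hl : iv (-1 : (Kc F)ˣ) * tr 1 * iv (-1) ∈ conjG σ G := by
      have := hpsl ⟨_, mul_mem (mul_mem iv_neg_one_mem_psl (tr_mem_psl (1 : F0))) iv_neg_one_mem_psl, rfl⟩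
      rw [map_mul, map_mul, mapG_iv, mapG_tr, show Units.map F0.subtype.toMonoidHom (-1) = -1 from
        Units.ext (by simp)] at this
      exact this
    have hlfix0 : (iv (-1 : (Kc F)ˣ) * tr 1 * iv (-1)) • fp (0 : Kc F) = fp 0 := by
      rw [mul_smul, mul_smul, iv_fp_zero, tr_ip, iv_ip]
    have hlfix : ∀ w : P2 (Kc F), (iv (-1 : (Kc F)ˣ) * tr 1 * iv (-1)) • w = w → w = fp 0 := by
      intro w hw
      rw [mul_smul, mul_smul] at hw
      have h' : tr (1 : Kc F) • (iv (-1 : (Kc F)ˣ) • w) = iv (-1 : (Kc F)ˣ) • w := by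
        conv_rhs => rw [← hw, ← mul_smul, iv_sq, one_smul]
      have h'' := hufix _ h'
      rw [smul_eq_iff_eq_inv_smul, inv_eq_of_mul_eq_one_right (iv_sq (-1 : (Kc F)ˣ)), iv_ip] at h''
      exact h''
    set l := iv (-1 : (Kc F)ˣ) * tr 1 * iv (-1) with hldef
    have hcfix : (tr 1 * l * (tr 1)⁻¹) • fp (1 : Kc F) = fp 1 := by
      rw [show fp (1 : Kc F) = tr (1 : Kc F) • fp 0 by rw [tr_fp, zero_add], mul_smul, mul_smul, inv_smul_smul, hlfix0]
    have hcuniq : ∀ w : P2 (Kc F), (tr 1 * l * (tr 1)⁻¹) • w = w → w = fp 1 := by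
      intro w hw
      rw [mul_smul, mul_smul, ← eq_inv_smul_iff] at hw
      have := hlfix _ hw
      rw [inv_smul_eq_iff, tr_fp, zero_add] at this
      exact this
    obtain ⟨τ, hτ⟩ := range_of_rational (i := i) (g := σ⁻¹) (hrat hu (tr_ip _) hufix) (hrat hl hlfix0 hlfix)
      (hrat (mul_mem (mul_mem hu hl) (inv_mem hu)) hcfix hcuniq)
    have hσ : σ = mapG i τ⁻¹ := by rw [map_inv, hτ, inv_inv]
    rw [hσ, hG, conjG_map] at hpsl hor
    have hsub : ∀ t : Kc F, t ∈ F0 → t ∈ Set.range i := by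
      intro t ht
      obtain ⟨k, -, hk⟩ := hpsl ⟨_, tr_mem_psl (⟨t, ht⟩ : F0), rfl⟩
      rw [mapG_tr] at hk
      have h1 : mapP i (k • fp (0 : F)) = fp t := by
        rw [← map_smul_pt, hk, mapP_fp, map_zero, tr_fp, zero_add]
        rfl
      obtain h | ⟨z, hz⟩ := point_cases (k • fp (0 : F))
      · rw [h, mapP_ip] at h1
        exact absurd h1 (ip_ne_fp t)
      · rw [hz, mapP_fp] at h1
        exact ⟨z, fp_inj h1⟩
    set F1 : Subfield F := F0.comap i with hF1
    let e1 : F1 ≃+* F0 := RingEquiv.ofBijective ((i.comp F1.subtype).codRestrict F0 (fun x => x.2))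
      ⟨fun x y h => Subtype.ext (i.injective (congrArg Subtype.val h)), fun t => by
        obtain ⟨z, hz⟩ := hsub t.1 t.2
        exact ⟨⟨z, by rw [hF1, Subfield.mem_comap, hz]; exact t.2⟩, Subtype.ext hz⟩⟩
    have hcomp : F0.subtype.comp (e1 : F1 →+* F0) = i.comp F1.subtype := RingHom.ext fun x => rfl
    have hr1 : (mapG F0.subtype).range = ((mapG F1.subtype).range).map (mapG i) := by
      rw [MonoidHom.map_range, ← mapG_comp, ← hcomp, mapG_comp, MonoidHom.range_comp,
        MonoidHom.range_eq_top.2 (mapG_surjective e1), MonoidHom.range_eq_map]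
    have hr2 : (psl F0).map (mapG F0.subtype) = ((psl F1).map (mapG F1.subtype)).map (mapG i) := by
      rw [Subgroup.map_map, ← mapG_comp, ← hcomp, mapG_comp, ← Subgroup.map_map, psl_map_equiv e1]
    have hc1 : Nat.card F1 = Nat.card F0 := Nat.card_congr e1.toEquiv
    refine FType.subfield τ⁻¹ F1 (hc1 ▸ h3) ?_
    rw [hr1, hr2] at hor
    rcases hor with h | ⟨ho, h⟩
    · exact Or.inl (Subgroup.map_injective (mapG_injective i) h)
    · exact Or.inr ⟨hc1 ▸ ho, Subgroup.map_injective (mapG_injective i) h⟩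

end CfsgLib.Perm.Dickson
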