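import Cfsg.Agent.Lib.Perm.Dickson.Torus

/-!
# Tori inside PSL(2)
-/

set_option autoImplicit false
set_option linter.all false

namespace CfsgLib.Perm.Dickson

open Matrix

variable {F : Type*} [Field F] [Finite F]

theorem card_pos_lt : 1 < Nat.card F := Finite.one_lt_card

theorem psl_index : Nat.gcd 2 (Nat.card F - 1) * Nat.card (psl F) = Nat.card (G2 F) := by
  rw [card_psl, card_G2]
  ring

theorem index_psl_eq : (psl F).index = Nat.gcd 2 (Nat.card F - 1) := by
  haveI := finite_G2 (F := F)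
  have h := (psl F).card_mul_index
  rw [← psl_index, mul_comm] at h
  exact Nat.eq_of_mul_eq_mul_right Nat.card_pos h

theorem psl_eq_top (he : Even (Nat.card F)) : psl F = ⊤ := by
  rw [← Subgroup.index_eq_one, index_psl_eq]
  obtain ⟨k, hk⟩ := he
  have h1 := card_pos_lt (F := F)
  have hd : Nat.gcd 2 (Nat.card F - 1) ∣ 1 := by
    have h2 := Nat.gcd_dvd_left 2 (Nat.card F - 1)
    have h3 := Nat.gcd_dvd_right 2 (Nat.card F - 1)
    rcases (Nat.dvd_prime Nat.prime_two).1 h2 with h | h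
    · rw [h]
    · rw [h] at h3; omega
  exact Nat.dvd_one.1 hd

theorem gcd_odd (ho : Odd (Nat.card F)) : Nat.gcd 2 (Nat.card F - 1) = 2 := by
  obtain ⟨k, hk⟩ := ho
  exact Nat.gcd_eq_left ⟨k, by omega⟩

theorem gcd_even (he : Even (Nat.card F)) : Nat.gcd 2 (Nat.card F - 1) = 1 := by
  rw [← index_psl_eq, psl_eq_top he, Subgroup.index_top]

theorem mul_mem_psl_iff (ho : Odd (Nat.card F)) {g h : G2 F} : g * h ∈ psl F ↔ (g ∈ psl F ↔ h ∈ psl F) :=
  Subgroup.mul_mem_iff_of_index_two (by rw [index_psl_eq, gcd_odd ho])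

theorem two_ne_zero_of_odd (ho : Odd (Nat.card F)) : (2 : F) ≠ 0 := by
  haveI := Fintype.ofFinite F
  exact CfsgLib.Classical.two_ne_zero_of_odd_card (by rwa [← Nat.card_eq_fintype_card])

theorem exists_nonsquare (ho : Odd (Nat.card F)) : ∃ ν : Fˣ, ¬ IsSquare (ν : F) := by
  have h2 : ringChar F ≠ 2 := fun h => two_ne_zero_of_odd ho (by
    haveI := ringChar.charP F
    have := CharP.cast_eq_zero F (ringChar F)
    rw [h] at this
    exact_mod_cast this)
  obtain ⟨c, hc⟩ := FiniteField.exists_nonsquare h2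
  exact ⟨Units.mk0 c (fun e => hc (e ▸ IsSquare.zero)), hc⟩

theorem exists_sq_add (h2 : (2 : F) ≠ 0) {α β : F} (hα : α ≠ 0) (hβ : β ≠ 0) (γ : F) :
    ∃ x y, α * x ^ 2 + β * y ^ 2 = γ := by
  haveI := Fintype.ofFinite F
  classical
  obtain ⟨x, y, h⟩ := FiniteField.exists_root_sum_quadratic
    (f := Polynomial.C α * Polynomial.X ^ 2 + Polynomial.C (0 : F) * Polynomial.X + Polynomial.C (-γ))
    (g := Polynomial.C β * Polynomial.X ^ 2 + Polynomial.C (0 : F) * Polynomial.X + Polynomial.C (0 : F))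
    (Polynomial.degree_quadratic hα) (Polynomial.degree_quadratic hβ)
    (Nat.odd_iff.1 (by
      by_contra hne
      rw [Nat.not_odd_iff_even] at hne
      exact h2 (by
        have hc : ringChar F = 2 := by
          by_contra hr
          exact (Nat.not_odd_iff_even.2 hne) (Nat.odd_iff.2 (FiniteField.odd_card_of_char_ne_two hr))
        haveI := ringChar.charP F
        have := CharP.cast_eq_zero F (ringChar F)
        rw [hc] at this
        exact_mod_cast this)))
  exact ⟨x, y, by simp at h; linear_combination h⟩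

/-- the discriminant of an element without rational fixed point is not zero -/
theorem disc_ne_zero (h2 : (2 : F) ≠ 0) {A : GL (Fin 2) F} (hfree : ∀ x : P2 F, ProjGenLinGroup.mk A • x ≠ x) :
    (A.1 1 1 - A.1 0 0) ^ 2 + 4 * A.1 0 1 * A.1 1 0 ≠ 0 := by
  intro h
  have hc := low_entry_ne_zero hfree
  refine hfree (Projectivization.mk F (![(A.1 0 0 - A.1 1 1) / (2 * A.1 1 0), 1] : Fin 2 → F) (vec_one_ne _)) ?_
  rw [mk_smul, Projectivization.mk_eq_mk_iff']
  refine ⟨(A.1 0 0 + A.1 1 1) / 2, funext fun i => ?_⟩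
  fin_cases i <;> simp [Matrix.mulVec, dotProduct, Fin.sum_univ_two]
  · field_simp
    linear_combination (1 : F) * h * (-1)
  · field_simp
    ring

theorem exists_not_mem_psl (ho : Odd (Nat.card F)) {a b : P2 (Kc F)} (hg : GoodPair a b) :
    ∃ h ∈ pairFix a b, h ∉ psl F := by
  obtain ⟨ν, hν⟩ := exists_nonsquare ho
  obtain ⟨hab, ⟨⟨x, rfl⟩, ⟨y, rfl⟩⟩ | ⟨⟨ha, hb⟩, g, h1, hgm⟩⟩ := hg
  · obtain ⟨σ, s1, s2⟩ := exists_move_two (fun e => hab (congrArg _ e) : x ≠ y)
    refine ⟨σ⁻¹ * di ν * σ, ?_, fun h => hν ((di_mem_psl_iff ν).1 ?_)⟩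
    · rw [mem_pairFix, fix_map_iff, fix_map_iff]
      refine ⟨?_, ?_⟩
      · rw [mul_smul, mul_smul, s1, di_ip, ← s1, inv_smul_smul]
      · rw [mul_smul, mul_smul, s2, di_fp, mul_zero, ← s2, inv_smul_smul]
    · have := (psl_normal F).conj_mem _ h σ
      simpa [mul_assoc] using this
  · cases g using Matrix.ProjGenLinGroup.induction_on with
    | mk A =>
      have hfree := free_of_pair hab ha hb hgm h1
      have h2 := two_ne_zero_of_odd ho
      have hd := disc_ne_zero h2 hfree
      -- det (x + y A) represents a non-square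
      obtain ⟨X, y, hXy⟩ := exists_sq_add (α := (1 : F))
        (β := -((A.1 1 1 - A.1 0 0) ^ 2 + 4 * A.1 0 1 * A.1 1 0)) h2 one_ne_zero (neg_ne_zero.2 hd) (4 * (ν : F))
      set v : Fin 2 → F := ![(X - y * (A.1 0 0 + A.1 1 1)) / 2, y] with hv
      have hdet : (v 0 • (1 : Matrix (Fin 2) (Fin 2) F) + v 1 • A.1).det = ν := by
        simp [hv, Matrix.det_fin_two, Matrix.one_apply]
        field_simp
        linear_combination hXy
      have hne : (v 0 • (1 : Matrix (Fin 2) (Fin 2) F) + v 1 • A.1).det ≠ 0 := hdet ▸ ν.ne_zero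
      refine ⟨_, lin_mem_pairFix hgm hne, fun h => hν ?_⟩
      rw [mk_mem_psl_iff] at h
      rw [← hdet]
      exact h

/-- order of a torus -/
theorem card_pairFix {a b : P2 (Kc F)} (hg : GoodPair a b) :
    ((IsRat a ∧ IsRat b) ∧ Nat.card (pairFix a b) = Nat.card F - 1) ∨
      ((¬ IsRat a ∧ ¬ IsRat b) ∧ Nat.card (pairFix a b) = Nat.card F + 1) := by
  obtain ⟨hab, ⟨ha, hb⟩ | ⟨⟨ha, hb⟩, g, h1, hgm⟩⟩ := hg
  · exact Or.inl ⟨⟨ha, hb⟩, card_pairFix_rat hab ha hb⟩
  · exact Or.inr ⟨⟨ha, hb⟩, card_pairFix_ell hab ha hb hgm h1⟩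

theorem card_pairFix_psl {a b : P2 (Kc F)} (hg : GoodPair a b) :
    Nat.gcd 2 (Nat.card F - 1) * Nat.card (pairFix a b ⊓ psl F : Subgroup (G2 F)) = Nat.card (pairFix a b) := by
  rcases Nat.even_or_odd (Nat.card F) with he | ho
  · rw [gcd_even he, psl_eq_top he, inf_top_eq, one_mul]
  · obtain ⟨h, hh, hn⟩ := exists_not_mem_psl ho hg
    rw [gcd_odd ho]
    have hidx : ((psl F).subgroupOf (pairFix a b)).index = 2 := by
      rw [Subgroup.index_eq_two_iff]
      refine ⟨⟨h, hh⟩, fun g => ?_⟩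
      by_cases hgp : (g : G2 F) ∈ psl F
      · exact Or.inr ⟨hgp, fun e => hn ((Subgroup.mul_mem_cancel_left _ hgp).1 e)⟩
      · exact Or.inl ⟨(mul_mem_psl_iff ho).2 ⟨fun e => absurd e hgp, fun e => absurd e hn⟩, hgp⟩
    have := ((psl F).subgroupOf (pairFix a b)).card_mul_index
    rw [hidx, ← Subgroup.inf_subgroupOf_right, inf_comm,
      Nat.card_congr (Subgroup.subgroupOfEquivOfLe inf_le_left).toEquiv] at this
    rw [← this, mul_comm]

theorem mem_pairSet_rat {σ : G2 F} {x y : P2 F} (s1 : σ • x = ip) (s2 : σ • y = fp (0 : F)) (b : Fˣ) :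
    σ⁻¹ * iv b * σ ∈ pairSet (mapP (iF F) x) (mapP (iF F) y) := by
  refine mem_pairSet.2 (Or.inr ⟨?_, ?_⟩)
  · rw [map_smul_pt, mul_smul, mul_smul, s1, iv_ip, ← s2, inv_smul_smul]
  · rw [map_smul_pt, mul_smul, mul_smul, s2, iv_fp_zero, ← s1, inv_smul_smul]

/-- an involution of PSL(2) interchanging the pair -/
theorem exists_swap {a b : P2 (Kc F)} (hg : GoodPair a b) :
    ∃ w, w ∈ psl F ∧ w ∈ pairSet a b ∧ w ∉ pairFix a b := by
  have hgood := hg
  obtain ⟨hab, ⟨⟨x, rfl⟩, ⟨y, rfl⟩⟩ | ⟨⟨ha, hb⟩, g, h1, hgm⟩⟩ := hg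
  · obtain ⟨σ, s1, s2⟩ := exists_move_two (fun e => hab (congrArg _ e) : x ≠ y)
    refine ⟨σ⁻¹ * iv (-1) * σ, ?_, mem_pairSet_rat s1 s2 _, fun h => ?_⟩
    · simpa using (psl_normal F).conj_mem _ iv_neg_one_mem_psl σ⁻¹
    · have := (mem_pairFix.1 h).1
      rw [fix_map_iff, mul_smul, mul_smul, s1, iv_ip, inv_smul_eq_iff, s1] at this
      exact fp_ne_ip _ this
  · haveI := finite_G2 (F := F)
    -- a generator of the torus
    obtain ⟨⟨c, hcm⟩, hc⟩ := (isCyclic_pairFix (F := F) hab).exists_generator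
    have hord : orderOf c = Nat.card F + 1 := by
      rw [← card_pairFix_ell hab ha hb hgm h1, ← orderOf_eq_card_of_forall_mem_zpowers hc, Subgroup.orderOf_mk]
    have hc1 : c ≠ 1 := fun e => by
      rw [e, orderOf_one] at hord
      have := card_pos_lt (F := F)
      omega
    cases c using Matrix.ProjGenLinGroup.induction_on with
    | mk A =>
      have hfree := free_of_pair hab ha hb hcm hc1
      have hc0 := low_entry_ne_zero hfree
      -- a traceless `B` of determinant one with `trace (A B) = 0`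
      obtain ⟨x, z, hxz⟩ : ∃ x z : F, -(A.1 1 0) * x ^ 2 + (A.1 0 0 - A.1 1 1) * x * z + A.1 0 1 * z ^ 2 = A.1 1 0 := by
        by_cases h2 : (2 : F) = 0
        · exact ⟨1, 0, by linear_combination (-(A.1 1 0)) * h2⟩
        · obtain ⟨X, z, hX⟩ := exists_sq_add (α := (-1 : F))
            (β := (A.1 1 1 - A.1 0 0) ^ 2 + 4 * A.1 0 1 * A.1 1 0) h2 (neg_ne_zero.2 one_ne_zero) (disc_ne_zero h2 hfree)
            (4 * A.1 1 0 ^ 2)
          refine ⟨(X + (A.1 0 0 - A.1 1 1) * z) / (2 * A.1 1 0), z, ?_⟩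
          field_simp
          linear_combination hX
      set y := -((A.1 0 0 - A.1 1 1) * x + A.1 0 1 * z) / A.1 1 0 with hy
      have hdet : (!![x, y; z, -x] : Matrix (Fin 2) (Fin 2) F).det = 1 := by
        simp [Matrix.det_fin_two, hy]
        field_simp
        linear_combination hxz
      have hB0 : (!![x, y; z, -x] : Matrix (Fin 2) (Fin 2) F).det ≠ 0 := hdet ▸ one_ne_zero
      set B := GeneralLinearGroup.mkOfDetNeZero _ hB0
      have hBp : ProjGenLinGroup.mk B ∈ psl F := (mk_mem_psl_iff B).2 (by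
        show IsSquare (!![x, y; z, -x] : Matrix (Fin 2) (Fin 2) F).det
        rw [hdet]; exact IsSquare.one)
      have hdA := ((Matrix.isUnit_iff_isUnit_det _).1 A.isUnit).ne_zero
      have hinv : ProjGenLinGroup.mk A * ProjGenLinGroup.mk B * ProjGenLinGroup.mk A = ProjGenLinGroup.mk B := by
        rw [← map_mul, ← map_mul, eq_comm]
        refine ProjGenLinGroup.mk_eq_mk_iff.2 ⟨Units.mk0 _ hdA, Units.ext ?_⟩
        have hy' : y * A.1 1 0 = -((A.1 0 0 - A.1 1 1) * x + A.1 0 1 * z) := by rw [hy]; field_simp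
        ext i j
        fin_cases i <;> fin_cases j <;>
          simp [B, Matrix.mul_apply, Fin.sum_univ_two, Matrix.det_fin_two, GeneralLinearGroup.mkOfDetNeZero] <;>
          first
            | linear_combination (A.1 0 0) * hy'
            | linear_combination (A.1 0 1) * hy'
            | linear_combination (A.1 1 0) * hy'
            | linear_combination (A.1 1 1) * hy'
            | linear_combination -(A.1 0 0) * hy'
            | linear_combination -(A.1 0 1) * hy'
            | linear_combination -(A.1 1 0) * hy'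
            | linear_combination -(A.1 1 1) * hy'
      refine ⟨_, hBp, ?_, fun hBm => ?_⟩
      · have hperm : ∀ w : P2 (Kc F), mapG (iF F) (ProjGenLinGroup.mk A) • w = w →
            mapG (iF F) (ProjGenLinGroup.mk A) • (mapG (iF F) (ProjGenLinGroup.mk B) • w) =
              mapG (iF F) (ProjGenLinGroup.mk B) • w := by
          intro w hw
          conv_lhs => arg 2; arg 2; rw [← hw]
          rw [← mul_smul, ← mul_smul, ← map_mul, ← map_mul, hinv]
        have hne : mapG (iF F) (ProjGenLinGroup.mk A) ≠ 1 := fun e => hc1 ((map_eq_one_iff _ (mapG_injective _)).1 e)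
        have hcase : ∀ w : P2 (Kc F), mapG (iF F) (ProjGenLinGroup.mk A) • w = w → w = a ∨ w = b := by
          intro w hw
          by_contra hcon
          push Not at hcon
          exact hne (eq_one_of_three hab (Ne.symm hcon.1) (Ne.symm hcon.2) hcm.1 hcm.2 hw)
        rcases hcase _ (hperm a hcm.1) with e1 | e1 <;> rcases hcase _ (hperm b hcm.2) with e2 | e2
        · exact absurd (MulAction.injective _ (e1.trans e2.symm)) hab
        · exact mem_pairSet.2 (Or.inl ⟨e1, e2⟩)
        · exact mem_pairSet.2 (Or.inr ⟨e1, e2⟩)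
        · exact absurd (MulAction.injective _ (e1.trans e2.symm)) hab
      · haveI := isCyclic_pairFix (F := F) hab
        obtain ⟨k, hk⟩ := hc ⟨_, hBm⟩
        have e : ProjGenLinGroup.mk B = ProjGenLinGroup.mk A ^ k := (congrArg Subtype.val hk).symm
        rw [e] at hinv
        have h2' : ProjGenLinGroup.mk A ^ (2 : ℕ) = 1 := by
          have hcm' := ((Commute.refl (ProjGenLinGroup.mk A)).zpow_right k).eq
          rw [mul_assoc, ← hcm', ← mul_assoc] at hinv
          rw [pow_two]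
          exact mul_eq_right.1 hinv
        have hd2 : orderOf (ProjGenLinGroup.mk A) ≤ 2 := orderOf_le_of_pow_eq_one (by norm_num) h2'
        rw [hord] at hd2
        have := card_pos_lt (F := F)
        omega

end CfsgLib.Perm.Dickson
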