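import Cfsg.Agent.Lib.Perm.Dickson.Point

/-!
# The orbit count for finite subgroups of PGL(2)
-/

set_option autoImplicit false
set_option linter.all false

namespace CfsgLib.Perm.Dickson

variable {K : Type*} [Field K] (G : Subgroup (G2 K))

/-- order of the stabiliser of a point -/
noncomputable def sC (x : P2 K) : ℕ := Nat.card {g : G // g • x = x}

/-- number of elements fixing only `x`, and the identity -/
noncomputable def uC (x : P2 K) : ℕ :=
  Nat.card {g : G // g • x = x ∧ (g ≠ 1 → ∀ y : P2 K, g • y = y → y = x)}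

/-- conjugation as an equivalence -/
noncomputable def conjMap (σ : G2 K) : G ≃* conjG σ G := (MulAut.conj σ).subgroupMap G

theorem conjMap_smul (σ : G2 K) (g : G) (x : P2 K) : conjMap G σ g • (σ • x) = σ • (g • x) := by
  show (σ * (g : G2 K) * σ⁻¹) • σ • x = σ • ((g : G2 K) • x)
  rw [mul_smul, inv_smul_smul, mul_smul]

theorem finite_conjG [Finite G] (σ : G2 K) : Finite (conjG σ G) := Finite.of_equiv G (conjMap G σ).toEquiv

theorem card_conjG (σ : G2 K) : Nat.card (conjG σ G) = Nat.card G := (Nat.card_congr (conjMap G σ).toEquiv).symm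

theorem conjMap_fix_iff (σ : G2 K) (g : G) (x : P2 K) : conjMap G σ g • (σ • x) = σ • x ↔ g • x = x := by
  rw [conjMap_smul, smul_left_cancel_iff]

theorem sC_conj (σ : G2 K) (x : P2 K) : sC (conjG σ G) (σ • x) = sC G x :=
  (Nat.card_congr ((conjMap G σ).toEquiv.subtypeEquiv fun g => (conjMap_fix_iff G σ g x).symm)).symm

theorem single_conj_iff (σ : G2 K) (g : G) (x : P2 K) :
    (∀ y : P2 K, conjMap G σ g • y = y → y = σ • x) ↔ (∀ y : P2 K, g • y = y → y = x) := by
  constructor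
  · intro h y hy
    exact MulAction.injective σ (h (σ • y) ((conjMap_fix_iff G σ g y).2 hy))
  · intro h y hy
    rw [← smul_inv_smul σ y] at hy ⊢
    rw [h _ ((conjMap_fix_iff G σ g _).1 hy)]

theorem uC_conj (σ : G2 K) (x : P2 K) : uC (conjG σ G) (σ • x) = uC G x := by
  refine (Nat.card_congr ((conjMap G σ).toEquiv.subtypeEquiv fun g => ?_)).symm
  show _ ↔ conjMap G σ g • (σ • x) = σ • x ∧ (conjMap G σ g ≠ 1 → ∀ y, conjMap G σ g • y = y → y = σ • x)
  rw [conjMap_fix_iff, single_conj_iff, ne_eq, ne_eq, EmbeddingLike.map_eq_one_iff]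

theorem conjG_self {σ : G2 K} (h : σ ∈ G) : conjG σ G = G := by
  ext g
  rw [mem_conjG]
  exact ⟨fun hg => by have := mul_mem (mul_mem h hg) (inv_mem h); simpa [mul_assoc] using this,
    fun hg => mul_mem (mul_mem (inv_mem h) hg) h⟩

theorem sC_smul (g : G) (x : P2 K) : sC G (g • x) = sC G x := by
  have := sC_conj G (g : G2 K) x
  rw [conjG_self G g.2] at this
  exact this

theorem uC_smul (g : G) (x : P2 K) : uC G (g • x) = uC G x := by
  have := uC_conj G (g : G2 K) x
  rw [conjG_self G g.2] at this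
  exact this

theorem card_orbit_conj (σ : G2 K) (x : P2 K) :
    Nat.card (MulAction.orbit (conjG σ G) (σ • x)) = Nat.card (MulAction.orbit G x) := by
  refine (Nat.card_congr ((MulAction.toPerm σ).subtypeEquiv fun y => ?_)).symm
  simp only [MulAction.mem_orbit_iff, MulAction.toPerm_apply]
  constructor
  · rintro ⟨g, rfl⟩
    exact ⟨conjMap G σ g, conjMap_smul G σ g x⟩
  · rintro ⟨h, hh⟩
    obtain ⟨g, rfl⟩ := (conjMap G σ).surjective h
    exact ⟨g, MulAction.injective σ ((conjMap_smul G σ g x).symm.trans hh)⟩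

variable [Finite G] (p : ℕ) [Fact p.Prime] [CharP K p]

theorem point_facts (x : P2 K) :
    ∃ c k, sC G x = uC G x * c ∧ c ∣ uC G x - 1 ∧ uC G x = p ^ k ∧ ¬ p ∣ c ∧ 0 < c := by
  obtain ⟨σ, hσ⟩ := exists_move_ip x
  haveI := finite_conjG G σ
  haveI := finite_Lset (conjG σ G)
  obtain ⟨k, hk⟩ := tset_pow (conjG σ G) p
  have hu : uC G x = Nat.card (Tset (conjG σ G)) := by
    rw [← uC_conj G σ, hσ]; exact card_single_ip _
  refine ⟨Nat.card (Lset (conjG σ G)), k, ?_, hu ▸ lset_dvd _, hu.trans hk, lset_coprime _ p, Nat.card_pos⟩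
  rw [hu, ← sC_conj G σ, hσ]
  exact card_stab_ip _

omit [Fact p.Prime] [CharP K p] in
theorem uC_dvd_orbit (x : P2 K) : uC G x ∣ Nat.card (MulAction.orbit G x) - 1 := by
  obtain ⟨σ, hσ⟩ := exists_move_ip x
  haveI := finite_conjG G σ
  rw [← uC_conj G σ, ← card_orbit_conj G σ, hσ]
  generalize conjG σ G = H
  rcases (Set.finite_or_infinite (MulAction.orbit H (ip : P2 K))) with hf | hf
  swap
  · rw [Nat.card_coe_set_eq, Set.Infinite.ncard hf]; exact dvd_zero _
  let Z : Set (Multiplicative K) := {z | fp (Multiplicative.toAdd z) ∈ MulAction.orbit H (ip : P2 K)}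
  have hZ : (fun z => fp (Multiplicative.toAdd z)) '' Z = MulAction.orbit H (ip : P2 K) \ {ip} := by
    ext y
    constructor
    · rintro ⟨z, hz, rfl⟩
      exact ⟨hz, fp_ne_ip _⟩
    · rintro ⟨hy, hne⟩
      obtain rfl | ⟨z, rfl⟩ := point_cases y
      · exact absurd rfl hne
      · exact ⟨Multiplicative.ofAdd z, hy, rfl⟩
  have hcard : Nat.card Z = Nat.card (MulAction.orbit H (ip : P2 K)) - 1 := by
    rw [Nat.card_coe_set_eq, Nat.card_coe_set_eq, ← Set.ncard_diff_singleton_of_mem (MulAction.mem_orbit_self _), ← hZ,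
      Set.ncard_image_of_injective]
    intro a b e
    exact Multiplicative.toAdd.injective (fp_inj e)
  have hd := card_dvd_of_invariant (AddSubgroup.toSubgroup (Tset H)) Z (by
    intro t ht z hz
    obtain ⟨g, hg⟩ := hz
    refine ⟨⟨tr (Multiplicative.toAdd t), ht⟩ * g, ?_⟩
    show ((⟨tr (Multiplicative.toAdd t), ht⟩ : H) * g) • (ip : P2 K) = fp _
    rw [mul_smul, show g • (ip : P2 K) = fp (Multiplicative.toAdd z) from hg]
    show tr (Multiplicative.toAdd t) • fp (Multiplicative.toAdd z : K) = _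
    rw [tr_fp, toAdd_mul, add_comm])
  rw [hcard] at hd
  rwa [uC, card_single_ip]

omit [Fact p.Prime] [CharP K p] in
theorem orbit_stab (x : P2 K) : Nat.card (MulAction.orbit G x) * sC G x = Nat.card G := by
  have h := (MulAction.stabilizer G x).card_mul_index
  rw [MulAction.index_stabilizer, mul_comm, ← Nat.card_coe_set_eq] at h
  exact h

omit [Finite G] [Fact p.Prime] [CharP K p] in
theorem fixed_pair {g : G} (hg : g ≠ 1) {x : P2 K} (hx : g • x = x) :
    ∃ y : P2 K, g • y = y ∧ ∀ z : P2 K, g • z = z → z = x ∨ z = y := by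
  by_cases h : ∃ y : P2 K, g • y = y ∧ y ≠ x
  · obtain ⟨y, hy, hne⟩ := h
    refine ⟨y, hy, fun z hz => ?_⟩
    by_contra hc
    push Not at hc
    exact hg (Subtype.ext (eq_one_of_three hne (Ne.symm hc.2) (Ne.symm hc.1) hy hx hz))
  · push Not at h
    exact ⟨x, hx, fun z hz => Or.inl (h z hz)⟩

/-- points with non-trivial stabiliser -/
noncomputable def Pts : Finset (P2 K) :=
  Set.Finite.toFinset (s := {x : P2 K | ∃ g : G, g ≠ 1 ∧ g • x = x}) (by
    have : {x : P2 K | ∃ g : G, g ≠ 1 ∧ g • x = x} = ⋃ g : {g : G // g ≠ 1}, {x | g.1 • x = x} := by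
      ext x; simp
    rw [this]
    refine Set.finite_iUnion fun g => ?_
    by_cases h : ∃ x : P2 K, g.1 • x = x
    · obtain ⟨x, hx⟩ := h
      obtain ⟨y, -, hy⟩ := fixed_pair G g.2 hx
      exact (Set.toFinite {x, y}).subset fun z hz => hy z hz
    · push Not at h
      exact Set.finite_empty.subset fun z hz => absurd hz (h z))

omit [Fact p.Prime] [CharP K p] in
theorem mem_Pts {x : P2 K} : x ∈ Pts G ↔ ∃ g : G, g ≠ 1 ∧ g • x = x := Set.Finite.mem_toFinset _

omit [Fact p.Prime] [CharP K p] in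
theorem two_le_sC {x : P2 K} (hx : x ∈ Pts G) : 2 ≤ sC G x := by
  obtain ⟨g, hg, hgx⟩ := (mem_Pts G).1 hx
  haveI : Nontrivial {g : G // g • x = x} := ⟨⟨⟨g, hgx⟩, ⟨1, one_smul _ x⟩, fun e => hg (congrArg Subtype.val e)⟩⟩
  exact Finite.one_lt_card

omit [Fact p.Prime] [CharP K p] in
theorem smul_mem_Pts (g : G) {x : P2 K} (hx : x ∈ Pts G) : g • x ∈ Pts G := by
  obtain ⟨h, hh, hhx⟩ := (mem_Pts G).1 hx
  refine (mem_Pts G).2 ⟨g * h * g⁻¹, fun e => hh (by simpa using e), ?_⟩
  rw [mul_smul, inv_smul_smul, mul_smul, hhx]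

omit [Fact p.Prime] [CharP K p] in
theorem sum_identity (hs : ∀ g : G, g ≠ 1 → ∃ x : P2 K, g • x = x) :
    ∑ x ∈ Pts G, ((sC G x - 1) + (uC G x - 1)) = 2 * (Nat.card G - 1) := by
  classical
  haveI := Fintype.ofFinite G
  have h1 : ∀ x : P2 K, sC G x - 1 = ((Finset.univ.erase (1 : G)).filter fun g => g • x = x).card := by
    intro x
    rw [sC, Nat.card_eq_fintype_card, Fintype.card_subtype, Finset.filter_erase,
      Finset.card_erase_of_mem (by simp)]
  have h2 : ∀ x : P2 K, uC G x - 1 = ((Finset.univ.erase (1 : G)).filter fun g =>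
      g • x = x ∧ ∀ y : P2 K, g • y = y → y = x).card := by
    intro x
    rw [uC, Nat.card_eq_fintype_card, Fintype.card_subtype,
      show ((Finset.univ.erase (1 : G)).filter fun g => g • x = x ∧ ∀ y : P2 K, g • y = y → y = x) =
        (Finset.univ.filter fun g : G => g • x = x ∧ (g ≠ 1 → ∀ y : P2 K, g • y = y → y = x)).erase 1 by
          ext g; simp only [Finset.mem_filter, Finset.mem_erase, Finset.mem_univ, and_true, true_and]; tauto,
      Finset.card_erase_of_mem (by simp)]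
  simp only [h1, h2, Finset.card_filter, ← Finset.sum_add_distrib]
  rw [Finset.sum_comm, Finset.sum_congr rfl (g := fun _ => 2) (fun g hg => ?_), Finset.sum_const,
    Finset.card_erase_of_mem (Finset.mem_univ _), Finset.card_univ, Nat.card_eq_fintype_card, smul_eq_mul, mul_comm]
  have hg1 : g ≠ 1 := (Finset.mem_erase.1 hg).1
  rw [Finset.sum_add_distrib, ← Finset.card_filter, ← Finset.card_filter]
  obtain ⟨x, hx⟩ := hs g hg1
  have hxP : x ∈ Pts G := (mem_Pts G).2 ⟨g, hg1, hx⟩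
  obtain ⟨y, hy, hxy⟩ := fixed_pair G hg1 hx
  have hyP : y ∈ Pts G := (mem_Pts G).2 ⟨g, hg1, hy⟩
  have e1 : (Pts G).filter (fun z => g • z = z) = {x, y} := by
    ext z
    simp only [Finset.mem_filter, Finset.mem_insert, Finset.mem_singleton]
    constructor
    · exact fun h => hxy z h.2
    · rintro (rfl | rfl)
      · exact ⟨hxP, hx⟩
      · exact ⟨hyP, hy⟩
  rw [e1]
  by_cases hxy' : x = y
  · subst hxy'
    have e2 : (Pts G).filter (fun z => g • z = z ∧ ∀ w : P2 K, g • w = w → w = z) = {x} := by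
      ext z
      simp only [Finset.mem_filter, Finset.mem_singleton]
      constructor
      · exact fun h => (hxy z h.2.1).elim id id
      · rintro rfl
        exact ⟨hxP, hx, fun w hw => (hxy w hw).elim id id⟩
    rw [e2]; simp
  · have e2 : (Pts G).filter (fun z => g • z = z ∧ ∀ w : P2 K, g • w = w → w = z) = ∅ := by
      rw [Finset.filter_eq_empty_iff]
      exact fun z _ h => hxy' ((h.2 x hx).trans (h.2 y hy).symm)
    rw [e2, Finset.card_pair hxy']; simp

/-- the weight of an orbit -/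
noncomputable def wt (x : P2 K) : ℕ := Nat.card (MulAction.orbit G x) * ((sC G x - 1) + (uC G x - 1))

omit [Fact p.Prime] [CharP K p] in
theorem sum_step {Q : Finset (P2 K)} (hQ : ∀ g : G, ∀ y ∈ Q, g • y ∈ Q) {x : P2 K} (hx : x ∈ Q) :
    ∃ Q' : Finset (P2 K), (∀ y, y ∈ Q' ↔ y ∈ Q ∧ y ∉ MulAction.orbit G x) ∧ (∀ g : G, ∀ y ∈ Q', g • y ∈ Q') ∧
      ∑ y ∈ Q, ((sC G y - 1) + (uC G y - 1)) = wt G x + ∑ y ∈ Q', ((sC G y - 1) + (uC G y - 1)) := by
  classical
  refine ⟨Q.filter (fun y => y ∉ MulAction.orbit G x), fun y => Finset.mem_filter, ?_, ?_⟩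
  · intro g y hy
    rw [Finset.mem_filter] at hy ⊢
    refine ⟨hQ g y hy.1, fun h => hy.2 ?_⟩
    rwa [← MulAction.orbit_eq_iff, MulAction.orbit_smul, MulAction.orbit_eq_iff] at h
  rw [← Finset.sum_filter_add_sum_filter_not Q (fun y => y ∈ MulAction.orbit G x)]
  congr 1
  have hO : (↑(Q.filter fun y => y ∈ MulAction.orbit G x) : Set (P2 K)) = MulAction.orbit G x := by
    ext y
    simp only [Finset.coe_filter, Set.mem_setOf_eq, and_iff_right_iff_imp]
    rintro ⟨g, rfl⟩
    exact hQ g x hx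
  rw [Finset.sum_congr rfl (g := fun _ => (sC G x - 1) + (uC G x - 1)), Finset.sum_const, smul_eq_mul, wt,
    Nat.card_coe_set_eq]
  · congr 1
    rw [← Set.ncard_coe_finset, hO]
  · intro y hy
    obtain ⟨g, rfl⟩ := (Finset.mem_filter.1 hy).2
    show (sC G (g • x) - 1) + (uC G (g • x) - 1) = _
    rw [sC_smul, uC_smul]

include p in
theorem wt_facts {x : P2 K} (hx : x ∈ Pts G) :
    (uC G x = 1 ∧ wt G x + Nat.card (MulAction.orbit G x) = Nat.card G ∧
      2 * Nat.card (MulAction.orbit G x) ≤ Nat.card G ∧ 0 < Nat.card (MulAction.orbit G x)) ∨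
    (2 ≤ uC G x ∧ wt G x = Nat.card G + Nat.card (MulAction.orbit G x) * (uC G x - 2) ∧
      0 < Nat.card (MulAction.orbit G x)) := by
  obtain ⟨c, k, -, -, hk, -⟩ := point_facts G p x
  have hs := two_le_sC G hx
  have ho := orbit_stab G x
  have hpos : 0 < Nat.card (MulAction.orbit G x) := by
    rcases Nat.eq_zero_or_pos (Nat.card (MulAction.orbit G x)) with h | h
    · rw [h, zero_mul] at ho
      exact absurd ho.symm Nat.card_pos.ne'
    · exact h
  have hu : 0 < uC G x := hk ▸ pow_pos (Fact.out : p.Prime).pos k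
  rcases Nat.lt_or_ge (uC G x) 2 with h | h
  · left
    have h1 : uC G x = 1 := by omega
    refine ⟨h1, ?_, ?_, hpos⟩
    · rw [wt, h1, Nat.sub_self, add_zero, ← ho]
      obtain ⟨s, hs'⟩ : ∃ s, sC G x = s + 1 := ⟨sC G x - 1, by omega⟩
      rw [hs', Nat.add_sub_cancel, mul_add, mul_one]
    · rw [← ho, mul_comm 2]
      exact Nat.mul_le_mul_left _ hs
  · right
    refine ⟨h, ?_, hpos⟩
    rw [wt, ← ho, ← mul_add]
    congr 1
    omega

theorem arith_three {N a1 a2 a3 s1 s2 s3 : ℕ} (h1 : a1 * s1 = N) (h2 : a2 * s2 = N) (h3 : a3 * s3 = N)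
    (hs1 : 2 ≤ s1) (h12 : s1 ≤ s2) (h23 : s2 ≤ s3) (hsum : a1 + a2 + a3 = N + 2) :
    s1 = 2 ∧ ((s2 = 2 ∧ N = 2 * s3) ∨ (s2 = 3 ∧ ((s3 = 3 ∧ N = 12) ∨ (s3 = 4 ∧ N = 24) ∨ (s3 = 5 ∧ N = 60)))) := by
  have e1 : s1 = 2 := by
    by_contra hne
    have : 3 * a1 ≤ N := by rw [← h1, mul_comm 3]; exact Nat.mul_le_mul_left _ (by omega)
    have : 3 * a2 ≤ N := by rw [← h2, mul_comm 3]; exact Nat.mul_le_mul_left _ (by omega)
    have : 3 * a3 ≤ N := by rw [← h3, mul_comm 3]; exact Nat.mul_le_mul_left _ (by omega)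
    omega
  subst e1
  refine ⟨rfl, ?_⟩
  rcases Nat.lt_or_ge s2 4 with hlt | hge
  swap
  · exfalso
    have : 4 * a2 ≤ N := by rw [← h2, mul_comm 4]; exact Nat.mul_le_mul_left _ hge
    have : 4 * a3 ≤ N := by rw [← h3, mul_comm 4]; exact Nat.mul_le_mul_left _ (by omega)
    omega
  interval_cases s2
  · left
    refine ⟨rfl, ?_⟩
    have : a3 = 2 := by omega
    rw [← h3, this]
  · right
    refine ⟨rfl, ?_⟩
    rcases Nat.lt_or_ge s3 6 with h6 | h6
    swap
    · exfalso
      have : 6 * a3 ≤ N := by rw [← h3, mul_comm 6]; exact Nat.mul_le_mul_left _ h6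
      omega
    interval_cases s3 <;> omega

/-- the possible shapes of a finite subgroup -/
inductive Shape : Prop
  | fix (x : P2 K) (h : ∀ g : G, g • x = x) : Shape
  | one (x y : P2 K) (u c m a k : ℕ) (cover : ∀ z ∈ Pts G, z ∈ MulAction.orbit G x ∨ z ∈ MulAction.orbit G y)
      (hu : uC G x = u) (hsx : sC G x = u * c) (hm : Nat.card (MulAction.orbit G x) = m) (huy : uC G y = 1)
      (hsy : sC G y = a) (hxP : x ∈ Pts G) (hyP : y ∈ Pts G) (h2u : 2 ≤ u) (h2a : 2 ≤ a) (hk : 1 ≤ k) (hc : c ∣ u - 1)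
      (hc0 : 0 < c) (hmk : m = 1 + k * u) (hN : Nat.card G = u * c * m) (hNa : a * (m * (u - 2) + 2) = Nat.card G) : Shape
  | three (x y z : P2 K) (allone : ∀ w : P2 K, w ∈ Pts G → uC G w = 1)
      (cover : ∀ w ∈ Pts G, w ∈ MulAction.orbit G x ∨ w ∈ MulAction.orbit G y ∨ w ∈ MulAction.orbit G z)
      (hxP : x ∈ Pts G) (hyP : y ∈ Pts G) (hzP : z ∈ Pts G)
      (hx : sC G x = 2) (hyz : (sC G y = 2 ∧ Nat.card G = 2 * sC G z) ∨ (sC G y = 3 ∧
        ((sC G z = 3 ∧ Nat.card G = 12) ∨ (sC G z = 4 ∧ Nat.card G = 24) ∨ (sC G z = 5 ∧ Nat.card G = 60)))) : Shape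

include p in
theorem shape (hs : ∀ g : G, g ≠ 1 → ∃ x : P2 K, g • x = x) : Shape G := by
  classical
  by_cases hN1 : Nat.card G = 1
  · haveI : Subsingleton G := (Nat.card_eq_one_iff_unique.1 hN1).1
    exact Shape.fix ip fun g => by rw [Subsingleton.elim g 1, one_smul]
  have hN : 2 ≤ Nat.card G := by have := Nat.card_pos (α := G); omega
  have hfix : ∀ {x : P2 K}, Nat.card (MulAction.orbit G x) = 1 → Shape G := by
    intro x hx
    refine Shape.fix x fun g => ?_
    haveI := (Nat.card_eq_one_iff_unique.1 hx).1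
    exact congrArg Subtype.val (Subsingleton.elim (⟨g • x, MulAction.mem_orbit x g⟩ : MulAction.orbit G x)
      ⟨x, MulAction.mem_orbit_self x⟩)
  have hP : ∀ g : G, ∀ y ∈ Pts G, g • y ∈ Pts G := fun g y hy => smul_mem_Pts G g hy
  have hid := sum_identity G hs
  by_cases hbig : ∃ x ∈ Pts G, 2 ≤ uC G x
  · obtain ⟨x, hx, hux⟩ := hbig
    obtain ⟨h2u, hwx, hposx⟩ := (wt_facts G p hx).resolve_left (fun h => by omega)
    obtain ⟨Q, hQ, hQi, hQs⟩ := sum_step G hP hx
    obtain ⟨c, k0, hsx, hc, -, -, hc0⟩ := point_facts G p x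
    rw [hQs, hwx] at hid
    rcases Q.eq_empty_or_nonempty with rfl | ⟨y, hy⟩
    · rw [Finset.sum_empty, add_zero] at hid
      refine hfix (x := x) ?_
      have ho := orbit_stab G x
      rw [hsx] at ho
      by_contra hne
      have h1 : Nat.card (MulAction.orbit G x) * uC G x ≤ Nat.card G := by
        rw [← ho]; exact Nat.mul_le_mul_left _ (Nat.le_mul_of_pos_right _ hc0)
      obtain ⟨t, ht⟩ : ∃ t, uC G x = t + 2 := ⟨uC G x - 2, by omega⟩
      rw [ht, Nat.add_sub_cancel] at hid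
      rw [ht, mul_add] at h1
      omega
    · obtain ⟨hyP, hyx⟩ := (hQ y).1 hy
      obtain ⟨R, hR, hRi, hRs⟩ := sum_step G hQi hy
      rw [hRs] at hid
      rcases wt_facts G p hyP with ⟨huy, hwy, h2y, hposy⟩ | ⟨h2, hwy, hposy⟩
      swap
      · exfalso
        rw [hwy] at hid
        omega
      have hRe : R = ∅ := by
        by_contra hne
        obtain ⟨z, hz⟩ := Finset.nonempty_iff_ne_empty.2 hne
        obtain ⟨hzQ, -⟩ := (hR z).1 hz
        obtain ⟨S, -, -, hSs⟩ := sum_step G hRi hz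
        rw [hSs] at hid
        rcases wt_facts G p ((hQ z).1 hzQ).1 with ⟨-, hwz, h2z, -⟩ | ⟨-, hwz, -⟩
        · omega
        · omega
      subst hRe
      rw [Finset.sum_empty, add_zero] at hid
      by_cases hm1 : Nat.card (MulAction.orbit G x) = 1
      · exact hfix hm1
      obtain ⟨k, hk⟩ := uC_dvd_orbit G x
      refine Shape.one x y (uC G x) c (Nat.card (MulAction.orbit G x)) (sC G y) k ?_ rfl hsx rfl huy rfl hx hyP h2u
        (two_le_sC G hyP) ?_ hc hc0 ?_ ?_ ?_
      · intro z hz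
        by_contra hcon
        push Not at hcon
        exact Finset.notMem_empty z ((hR z).2 ⟨(hQ z).2 ⟨hz, hcon.1⟩, hcon.2⟩)
      · rcases Nat.eq_zero_or_pos k with rfl | h
        · omega
        · exact h
      · rw [mul_comm k, ← hk]; omega
      · rw [← hsx, mul_comm, orbit_stab]
      · rw [← orbit_stab G y, mul_comm]
        congr 1
        omega
  · push Not at hbig
    have hone : ∀ w : P2 K, w ∈ Pts G → uC G w = 1 := by
      intro w hw
      rcases wt_facts G p hw with h | h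
      · exact h.1
      · have := hbig w hw; omega
    have hw1 : ∀ {w : P2 K}, w ∈ Pts G → wt G w + Nat.card (MulAction.orbit G w) = Nat.card G ∧
        2 * Nat.card (MulAction.orbit G w) ≤ Nat.card G ∧ 0 < Nat.card (MulAction.orbit G w) := fun {w} hw => by
      rcases wt_facts G p hw with h | h
      · exact h.2
      · have := hbig w hw; omega
    rcases (Pts G).eq_empty_or_nonempty with he | ⟨x, hx⟩
    · rw [he, Finset.sum_empty] at hid
      omega
    obtain ⟨Q, hQ, hQi, hQs⟩ := sum_step G hP hx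
    rw [hQs] at hid
    obtain ⟨hwx, h2x, hposx⟩ := hw1 hx
    rcases Q.eq_empty_or_nonempty with rfl | ⟨y, hy⟩
    · rw [Finset.sum_empty, add_zero] at hid
      omega
    obtain ⟨hyP, hyx⟩ := (hQ y).1 hy
    obtain ⟨R, hR, hRi, hRs⟩ := sum_step G hQi hy
    rw [hRs] at hid
    obtain ⟨hwy, h2y, hposy⟩ := hw1 hyP
    rcases R.eq_empty_or_nonempty with rfl | ⟨z, hz⟩
    · rw [Finset.sum_empty, add_zero] at hid
      exact hfix (x := x) (by omega)
    obtain ⟨hzQ, hzy⟩ := (hR z).1 hz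
    obtain ⟨hzP, hzx⟩ := (hQ z).1 hzQ
    obtain ⟨hwz, h2z, hposz⟩ := hw1 hzP
    obtain ⟨S, hS, hSi, hSs⟩ := sum_step G hRi hz
    rw [hSs] at hid
    have hSe : S = ∅ := by
      by_contra hne
      obtain ⟨w, hw⟩ := Finset.nonempty_iff_ne_empty.2 hne
      obtain ⟨T, -, -, hTs⟩ := sum_step G hSi hw
      rw [hTs] at hid
      obtain ⟨hww, h2w, -⟩ := hw1 ((hQ w).1 ((hR w).1 ((hS w).1 hw).1).1).1
      omega
    subst hSe
    rw [Finset.sum_empty, add_zero] at hid
    have hcov : ∀ w ∈ Pts G, w ∈ MulAction.orbit G x ∨ w ∈ MulAction.orbit G y ∨ w ∈ MulAction.orbit G z := by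
      intro w hw
      by_contra hcon
      push Not at hcon
      exact Finset.notMem_empty w ((hS w).2 ⟨(hR w).2 ⟨(hQ w).2 ⟨hw, hcon.1⟩, hcon.2.1⟩, hcon.2.2⟩)
    have hsum : Nat.card (MulAction.orbit G x) + Nat.card (MulAction.orbit G y) + Nat.card (MulAction.orbit G z) =
        Nat.card G + 2 := by omega
    have mk3 : ∀ a b c : P2 K, a ∈ Pts G → b ∈ Pts G → c ∈ Pts G →
        (∀ w ∈ Pts G, w ∈ MulAction.orbit G a ∨ w ∈ MulAction.orbit G b ∨ w ∈ MulAction.orbit G c) →
        Nat.card (MulAction.orbit G a) + Nat.card (MulAction.orbit G b) + Nat.card (MulAction.orbit G c) = Nat.card G + 2 →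
        sC G a ≤ sC G b → sC G b ≤ sC G c → Shape G := by
      intro a b c ha hb hc hcv hsm hab hbc
      obtain ⟨e1, e2⟩ := arith_three (orbit_stab G a) (orbit_stab G b) (orbit_stab G c) (two_le_sC G ha) hab hbc hsm
      exact Shape.three a b c hone hcv ha hb hc e1 e2
    rcases le_total (sC G x) (sC G y) with h1 | h1 <;> rcases le_total (sC G y) (sC G z) with h2 | h2 <;>
      rcases le_total (sC G x) (sC G z) with h3 | h3
    all_goals first
      | exact mk3 x y z hx hyP hzP hcov hsum h1 h2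
      | exact mk3 x z y hx hzP hyP (fun w hw => by have := hcov w hw; tauto) (by omega) h3 h2
      | exact mk3 y x z hyP hx hzP (fun w hw => by have := hcov w hw; tauto) (by omega) h1 h3
      | exact mk3 y z x hyP hzP hx (fun w hw => by have := hcov w hw; tauto) (by omega) h2 h3
      | exact mk3 z x y hzP hx hyP (fun w hw => by have := hcov w hw; tauto) (by omega) h3 h1
      | exact mk3 z y x hzP hyP hx (fun w hw => by have := hcov w hw; tauto) (by omega) h2 h1

end CfsgLib.Perm.Dickson
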