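import Cfsg.Agent.Lib.Perm.Dickson.ListExc

/-!
# A₅ in PSL(2, 11)
-/

set_option autoImplicit false
set_option linter.all false

namespace CfsgLib.Perm.Dickson

open Matrix Pointwise

/-- a Sylow subgroup of H with normaliser inside H has a single fixed coset -/
theorem no_fixed_sylow {G : Type*} [Group G] [Finite G] {H : Subgroup G} {l a : ℕ} [Fact l.Prime]
    (hH : ¬ l ^ (a + 1) ∣ Nat.card H) (P0 : Subgroup G) (hP : P0 ≤ H) (hc : Nat.card P0 = l ^ a)
    (hN : Subgroup.normalizer (P0 : Set G) ≤ H) {g : G} (hg : g ∉ H) :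
    ¬ l ^ a ∣ Nat.card (H ⊓ H.map (MulAut.conj g).toMonoidHom : Subgroup G) := by
  intro hd
  obtain ⟨R, hR⟩ := Sylow.exists_subgroup_card_pow_prime l hd
  set R' := R.map (H ⊓ H.map (MulAut.conj g).toMonoidHom).subtype with hR'
  have hR'c : Nat.card R' = l ^ a := by
    rw [hR', ← Nat.card_congr (R.equivMapOfInjective _ Subtype.val_injective).toEquiv, hR]
  have hR1 : R' ≤ H := by rintro _ ⟨x, -, rfl⟩; exact x.2.1
  have hR2 : R' ≤ H.map (MulAut.conj g).toMonoidHom := by rintro _ ⟨x, -, rfl⟩; exact x.2.2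
  set R'' := R'.map (MulAut.conj g⁻¹).toMonoidHom with hR''
  have hR3 : R'' ≤ H := by
    rintro _ ⟨x, hx, rfl⟩
    obtain ⟨y, hy, rfl⟩ := hR2 hx
    simpa [mul_assoc] using hy
  have hR''c : Nat.card R'' = l ^ a := by
    rw [hR'', ← Nat.card_congr (R'.equivMapOfInjective _ (MulAut.conj g⁻¹).injective).toEquiv, hR'c]
  have conjIn : ∀ S : Subgroup G, S ≤ H → Nat.card S = l ^ a → ∃ h ∈ H, P0.map (MulAut.conj h).toMonoidHom = S := by
    intro S hS hSc
    have hsyl : ∀ T : Subgroup G, T ≤ H → Nat.card T = l ^ a →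
        IsPGroup l (T.subgroupOf H) ∧ ¬ l ∣ (T.subgroupOf H).index := fun T hT hTc => by
      have hc' : Nat.card (T.subgroupOf H) = l ^ a := by
        rw [Nat.card_congr (Subgroup.subgroupOfEquivOfLe hT).toEquiv, hTc]
      exact ⟨IsPGroup.of_card hc', fun h => hH (by
        rw [pow_succ, ← (T.subgroupOf H).card_mul_index, hc']; exact Nat.mul_dvd_mul_left _ h)⟩
    obtain ⟨⟨h, hh⟩, e⟩ := MulAction.exists_smul_eq H ((hsyl P0 hP hc).1.toSylow (hsyl P0 hP hc).2)
      ((hsyl S hS hSc).1.toSylow (hsyl S hS hSc).2)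
    refine ⟨h, hh, ?_⟩
    have e' : (P0.subgroupOf H).map (MulAut.conj (⟨h, hh⟩ : H)).toMonoidHom = S.subgroupOf H := by
      have := congrArg (fun R : Sylow l H => (R : Subgroup H)) e
      simp only [Sylow.coe_subgroup_smul] at this
      exact this
    have e2 := congrArg (fun T : Subgroup H => T.map H.subtype) e'
    simp only [Subgroup.map_map, Subgroup.subgroupOf_map_subtype, inf_eq_left.2 hS] at e2
    rw [← e2]
    have e3 : H.subtype.comp (MulAut.conj (⟨h, hh⟩ : H)).toMonoidHom = (MulAut.conj h).toMonoidHom.comp H.subtype := by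
      ext x; simp
    rw [e3, ← Subgroup.map_map, Subgroup.subgroupOf_map_subtype, inf_eq_left.2 hP]
  obtain ⟨h1, hh1, e1⟩ := conjIn R' hR1 hR'c
  obtain ⟨h2, hh2, e2⟩ := conjIn R'' hR3 hR''c
  have hn : h2⁻¹ * g⁻¹ * h1 ∈ Subgroup.normalizer (P0 : Set G) := by
    rw [Subgroup.mem_normalizer_iff_map_conj_eq]
    apply Subgroup.map_injective (f := (MulAut.conj h2).toMonoidHom) (MulAut.conj h2).injective
    show Subgroup.map (MulAut.conj h2).toMonoidHom (Subgroup.map (MulAut.conj (h2⁻¹ * g⁻¹ * h1)).toMonoidHom P0) = _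
    rw [e2, hR'', ← e1, Subgroup.map_map, Subgroup.map_map]
    congr 1
    ext x : 1
    simp [mul_assoc]
  have := mul_mem (mul_mem hh2 (hN hn)) (inv_mem hh1)
  simp [mul_assoc] at this
  exact hg this

theorem a5_five : ∃ c t : alternatingGroup (Fin 5), c ≠ 1 ∧ t ≠ 1 ∧ c ^ 5 = 1 ∧ t * t = 1 ∧ t * c = c⁻¹ * t := by
  refine ⟨⟨Equiv.swap 0 1 * Equiv.swap 1 2 * Equiv.swap 2 3 * Equiv.swap 3 4, ?_⟩,
    ⟨Equiv.swap 1 4 * Equiv.swap 2 3, ?_⟩, ?_⟩
  · exact Equiv.Perm.mem_alternatingGroup.2 (by decide +kernel)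
  · exact Equiv.Perm.mem_alternatingGroup.2 (by decide +kernel)
  · decide +kernel

theorem a5_two : ∃ u v s : alternatingGroup (Fin 5), u ≠ 1 ∧ v ≠ 1 ∧ u ≠ v ∧ u * u = 1 ∧ v * v = 1 ∧ u * v = v * u ∧
    s ≠ 1 ∧ s * s * s = 1 ∧ s * u = v * s ∧ s * v = u * v * s := by
  refine ⟨⟨Equiv.swap 0 1 * Equiv.swap 2 3, ?_⟩, ⟨Equiv.swap 0 3 * Equiv.swap 1 2, ?_⟩,
    ⟨Equiv.swap 0 2 * Equiv.swap 0 1, ?_⟩, ?_⟩
  · exact Equiv.Perm.mem_alternatingGroup.2 (by decide +kernel)
  · exact Equiv.Perm.mem_alternatingGroup.2 (by decide +kernel)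
  · exact Equiv.Perm.mem_alternatingGroup.2 (by decide +kernel)
  · decide +kernel

variable {F : Type*} [Field F] [Finite F]

theorem char_of_eleven (hF : Nat.card F = 11) : CharP F 11 := by
  haveI := Fintype.ofFinite F
  haveI : Fact (Nat.Prime 11) := ⟨by norm_num⟩
  exact charP_of_card_eq_prime (by rw [← Nat.card_eq_fintype_card, hF])

theorem card_psl_eleven (hF : Nat.card F = 11) : Nat.card (psl F) = 660 := by
  have hc := card_psl F
  rw [gcd_odd (by rw [hF]; decide), hF] at hc
  simp only [Nat.reduceSub, Nat.reduceAdd, Nat.reduceMul] at hc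
  omega

/-- normaliser of a subgroup of order five -/
theorem normalizer_five_eleven (hF : Nat.card F = 11) {g : G2 F} (hg : g ∈ psl F) (h5 : orderOf g = 5) :
    Nat.card (Subgroup.normalizer ((Subgroup.zpowers g) : Set (G2 F)) ⊓ psl F : Subgroup (G2 F)) ≤ 10 := by
  haveI := finite_G2 (F := F)
  haveI := char_of_eleven hF
  haveI : Fact (Nat.Prime 11) := ⟨by norm_num⟩
  have hg1 : g ≠ 1 := fun e => by rw [e, orderOf_one] at h5; omega
  obtain ⟨a, b, hgp, hmem⟩ := exists_torus 11 hg1 (by omega)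
  obtain ⟨w, hwp, hws, hwn⟩ := exists_swap hgp
  obtain ⟨hD, -⟩ := dihedral_of_le hgp.1 (isCyclic_pairFix hgp.1) (inf_le_left : pairSet a b ⊓ psl F ≤ pairSet a b)
    (fun h => hwn (h ⟨hws, hwp⟩))
  rw [inf_right_comm, inf_eq_right.2 (pairFix_le_pairSet a b)] at hD
  have h1 := card_pairFix_psl hgp
  rw [gcd_odd (by rw [hF]; decide)] at h1
  have hd : 5 ∣ Nat.card (pairFix a b ⊓ psl F : Subgroup (G2 F)) := by
    rw [← h5, ← Subgroup.orderOf_mk g (show g ∈ pairFix a b ⊓ psl F from ⟨hmem, hg⟩)]; exact orderOf_dvd_natCard _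
  have hle : Subgroup.normalizer ((Subgroup.zpowers g) : Set (G2 F)) ⊓ psl F ≤ pairSet a b ⊓ psl F := by
    rintro n ⟨hn, hnp⟩
    refine ⟨?_, hnp⟩
    have hconj : n⁻¹ * g * n ∈ Subgroup.zpowers g := by
      have := (Subgroup.mem_normalizer_iff''.1 hn g).1 (Subgroup.mem_zpowers g)
      exact this
    have hfix : n⁻¹ * g * n ∈ pairFix a b := (Subgroup.zpowers_le.2 hmem) hconj
    have hone : mapG (iF F) g ≠ 1 := fun e => hg1 ((map_eq_one_iff _ (mapG_injective _)).1 e)
    have hcase : ∀ y : P2 (Kc F), mapG (iF F) g • y = y → y = a ∨ y = b := by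
      intro y hy
      by_contra hcon
      push Not at hcon
      exact hone (eq_one_of_three hgp.1 (Ne.symm hcon.1) (Ne.symm hcon.2) (mem_pairFix.1 hmem).1 (mem_pairFix.1 hmem).2 hy)
    obtain ⟨fa, fb⟩ := mem_pairFix.1 hfix
    rw [map_mul, map_mul, mul_smul, mul_smul, map_inv, inv_smul_eq_iff] at fa fb
    rcases hcase _ fa with ea | ea <;> rcases hcase _ fb with eb | eb
    · exact absurd (MulAction.injective _ (ea.trans eb.symm)) hgp.1
    · exact mem_pairSet.2 (Or.inl ⟨ea, eb⟩)
    · exact mem_pairSet.2 (Or.inr ⟨ea, eb⟩)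
    · exact absurd (MulAction.injective _ (ea.trans eb.symm)) hgp.1
  refine (Nat.card_le_card_of_injective _ (Subgroup.inclusion_injective hle)).trans ?_
  rw [hD]
  rcases card_pairFix hgp with ⟨-, e⟩ | ⟨-, e⟩ <;> rw [e, hF] at h1 <;> omega

/-- normaliser of a four group -/
theorem normalizer_four_eleven (hF : Nat.card F = 11) {W : Subgroup (G2 F)} (hW : W ≤ psl F) (hc : Nat.card W = 4)
    (hexp : ∀ g ∈ W, g * g = 1) :
    Nat.card (Subgroup.normalizer (W : Set (G2 F)) ⊓ psl F : Subgroup (G2 F)) ≤ 12 := by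
  haveI := finite_G2 (F := F)
  have ho : Odd (Nat.card F) := by rw [hF]; decide
  obtain ⟨Q⟩ := exists_qpar (two_ne_zero_of_odd ho)
  obtain ⟨σ, hσ⟩ := Q.exists_conj_V hW hc hexp
  rw [← card_conjG (G := Subgroup.normalizer (W : Set (G2 F)) ⊓ psl F) σ, conjG_inf, conjG_normalizer, hσ, conjG_psl]
  exact le_of_eq (Q.card_N_psl (by rw [two_is_square_iff, hF]; decide))

/-- in PSL(2,11) an A₅ meets each of its other conjugates in six elements -/
theorem a5_inter_eleven (hF : Nat.card F = 11) (H : Subgroup (S2P F)) (e : H ≃* alternatingGroup (Fin 5))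
    {g : S2P F} (hg : g ∉ H) :
    ¬ 5 ∣ Nat.card (H ⊓ H.map (MulAut.conj g).toMonoidHom : Subgroup (S2P F)) ∧
      ¬ 4 ∣ Nat.card (H ⊓ H.map (MulAut.conj g).toMonoidHom : Subgroup (S2P F)) := by
  classical
  haveI := finite_G2 (F := F)
  haveI : Finite (S2P F) := Finite.of_equiv _ (pslEquiv F).symm.toEquiv
  have hH : Nat.card H = 60 := by rw [Nat.card_congr e.toEquiv, Nat.card_eq_fintype_card]; rfl
  set j : alternatingGroup (Fin 5) →* S2P F := H.subtype.comp e.symm.toMonoidHom with hj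
  have jinj : Function.Injective j := Subtype.val_injective.comp e.symm.injective
  have jH : ∀ x, j x ∈ H := fun x => (e.symm x).2
  have hsub : ∀ (P : Subgroup (S2P F)) (k : ℕ), (∀ x, x ∈ Subgroup.normalizer (P : Set (S2P F)) → incl x ∈
      Subgroup.normalizer ((up P : Subgroup (G2 F)) : Set (G2 F))) := by
    intro P k x hx
    rw [Subgroup.mem_normalizer_iff]
    intro y
    constructor
    · rintro ⟨z, hz, rfl⟩
      exact ⟨x * z * x⁻¹, (Subgroup.mem_normalizer_iff.1 hx z).1 hz, by simp⟩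
    · rintro ⟨z, hz, e⟩
      refine ⟨x⁻¹ * z * x, (Subgroup.mem_normalizer_iff''.1 hx z).1 hz, ?_⟩
      rw [map_mul, map_mul, map_inv, e]; group
  have hbound : ∀ (P : Subgroup (S2P F)) (m : ℕ), P ≤ H →
      Nat.card (Subgroup.normalizer ((up P : Subgroup (G2 F)) : Set (G2 F)) ⊓ psl F : Subgroup (G2 F)) ≤ m →
      m ≤ Nat.card (Subgroup.normalizer (P : Set (S2P F)) ⊓ H : Subgroup (S2P F)) →
      Subgroup.normalizer (P : Set (S2P F)) ≤ H := by
    intro P m hP h1 h2
    have h3 : Nat.card (Subgroup.normalizer (P : Set (S2P F))) ≤ m := by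
      refine le_trans ?_ h1
      rw [← card_up (Subgroup.normalizer (P : Set (S2P F)))]
      refine Nat.card_le_card_of_injective _ (Subgroup.inclusion_injective (le_inf ?_ (up_le _)))
      rintro _ ⟨x, hx, rfl⟩; exact hsub P 0 x hx
    exact (Subgroup.eq_of_le_of_card_ge inf_le_left (h3.trans h2)).ge.trans inf_le_right
  refine ⟨?_, ?_⟩
  · obtain ⟨c, t, hc, ht, hc5, ht2, htc⟩ := a5_five
    haveI : Fact (Nat.Prime 5) := ⟨by norm_num⟩
    have oc : orderOf (j c) = 5 := by rw [orderOf_injective j jinj, orderOf_eq_prime hc5 hc]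
    have ot : orderOf (j t) = 2 := by
      rw [orderOf_injective j jinj]; exact orderOf_eq_prime (by rw [pow_two]; exact ht2) ht
    set P := Subgroup.zpowers (j c) with hP
    have hPH : P ≤ H := Subgroup.zpowers_le.2 (jH c)
    have hN : 10 ≤ Nat.card (Subgroup.normalizer (P : Set (S2P F)) ⊓ H : Subgroup (S2P F)) := by
      have hcm : j c ∈ Subgroup.normalizer (P : Set (S2P F)) ⊓ H :=
        ⟨Subgroup.le_normalizer (Subgroup.mem_zpowers _), jH c⟩
      have htm : j t ∈ Subgroup.normalizer (P : Set (S2P F)) ⊓ H := by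
        refine ⟨?_, jH t⟩
        show j t ∈ Subgroup.normalizer (P : Set (S2P F))
        rw [Subgroup.mem_normalizer_iff_map_conj_eq, hP]
        show (Subgroup.zpowers (j c)).map (MulAut.conj (j t)).toMonoidHom = _
        rw [MonoidHom.map_zpowers]
        show Subgroup.zpowers (j t * j c * (j t)⁻¹) = _
        rw [← map_mul, htc, map_mul, mul_inv_cancel_right, map_inv, Subgroup.zpowers_inv]
      have d5 := Subgroup.orderOf_dvd_natCard _ hcm
      have d2 := Subgroup.orderOf_dvd_natCard _ htm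
      rw [oc] at d5; rw [ot] at d2
      exact Nat.le_of_dvd Nat.card_pos ((by norm_num : Nat.Coprime 5 2).mul_dvd_of_dvd_of_dvd d5 d2)
    have hup : up P = Subgroup.zpowers (incl (j c)) := by rw [hP, up, MonoidHom.map_zpowers]
    have := no_fixed_sylow (l := 5) (a := 1) (by rw [hH]; norm_num) P hPH (by rw [hP, Nat.card_zpowers, oc, pow_one])
      (hbound P 10 hPH (by
        rw [hup]
        exact normalizer_five_eleven hF (incl_mem _) (by rw [orderOf_injective _ incl_injective, oc])) hN) hg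
    simpa using this
  · obtain ⟨u, v, s, hu, hv, huv, hu2, hv2, hcomm, hs, hs3, hsu, hsv⟩ := a5_two
    haveI : Fact (Nat.Prime 2) := ⟨Nat.prime_two⟩
    haveI : Fact (Nat.Prime 3) := ⟨Nat.prime_three⟩
    let P0 : Subgroup (alternatingGroup (Fin 5)) :=
      { carrier := {1, u, v, u * v}
        one_mem' := Or.inl rfl
        inv_mem' := by
          rintro x (rfl | rfl | rfl | rfl)
          · simp
          · exact Or.inr (Or.inl (inv_eq_of_mul_eq_one_right hu2))
          · exact Or.inr (Or.inr (Or.inl (inv_eq_of_mul_eq_one_right hv2)))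
          · refine Or.inr (Or.inr (Or.inr (inv_eq_of_mul_eq_one_right ?_)))
            rw [mul_assoc, ← mul_assoc v, ← hcomm, mul_assoc u v v, hv2, mul_one, hu2]
        mul_mem' := by
          have a1 : u * (u * v) = v := by rw [← mul_assoc, hu2, one_mul]
          have a2 : v * (u * v) = u := by rw [hcomm, ← mul_assoc, hv2, one_mul]
          have a3 : u * v * u = v := by rw [hcomm, mul_assoc, hu2, mul_one]
          have a4 : u * v * v = u := by rw [mul_assoc, hv2, mul_one]
          have a5 : u * v * (u * v) = 1 := by rw [mul_assoc, a2, hu2]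
          rintro x y (rfl | rfl | rfl | rfl) (rfl | rfl | rfl | rfl) <;>
            simp [hu2, hv2, a1, a2, a3, a4, a5, ← hcomm] }
    have hP0c : Nat.card P0 = 4 := by
      show Nat.card ({1, u, v, u * v} : Set (alternatingGroup (Fin 5))) = 4
      rw [Nat.card_coe_set_eq]
      have h1 : (1 : alternatingGroup (Fin 5)) ≠ u * v := fun e => huv (by
        rw [← inv_eq_of_mul_eq_one_right hu2]; exact inv_eq_of_mul_eq_one_right e.symm)
      have h2 : u ≠ u * v := fun e => hv (mul_eq_left.1 e.symm)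
      have h3 : v ≠ u * v := fun e => hu (mul_eq_right.1 e.symm)
      rw [show ({1, u, v, u * v} : Set (alternatingGroup (Fin 5))) = ↑({1, u, v, u * v} : Finset (alternatingGroup (Fin 5))) by simp,
        Set.ncard_coe_finset, Finset.card_insert_of_notMem (by simp [Ne.symm hu, Ne.symm hv, h1]),
        Finset.card_insert_of_notMem (by simp [huv, h2]), Finset.card_pair h3]
    set P := P0.map j with hP
    have hPH : P ≤ H := by rintro _ ⟨x, -, rfl⟩; exact jH x
    have hPc : Nat.card P = 4 := by rw [hP, ← Nat.card_congr (P0.equivMapOfInjective _ jinj).toEquiv, hP0c]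
    have hPexp : ∀ x ∈ P, x * x = 1 := by
      rintro _ ⟨x, hx, rfl⟩
      rw [← map_mul]
      rcases hx with rfl | rfl | rfl | rfl
      · simp
      · rw [hu2, map_one]
      · rw [hv2, map_one]
      · rw [mul_assoc u v, ← mul_assoc v, ← hcomm, mul_assoc u v v, hv2, mul_one, hu2, map_one]
    have hN : 12 ≤ Nat.card (Subgroup.normalizer (P : Set (S2P F)) ⊓ H : Subgroup (S2P F)) := by
      have hPm : P ≤ Subgroup.normalizer (P : Set (S2P F)) ⊓ H := le_inf Subgroup.le_normalizer hPH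
      have hs' : s ∈ Subgroup.normalizer (P0 : Set (alternatingGroup (Fin 5))) := by
        have hle : P0.map (MulAut.conj s).toMonoidHom ≤ P0 := by
          rintro _ ⟨x, hx, rfl⟩
          show s * x * s⁻¹ ∈ P0
          rcases hx with rfl | rfl | rfl | rfl
          · simp
          · rw [hsu, mul_inv_cancel_right]; exact Or.inr (Or.inr (Or.inl rfl))
          · rw [hsv, mul_inv_cancel_right]; exact Or.inr (Or.inr (Or.inr rfl))
          · rw [← mul_assoc s, hsu, mul_assoc v s, hsv, ← mul_assoc, mul_inv_cancel_right,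
              ← mul_assoc v u, ← hcomm, mul_assoc u v v, hv2, mul_one]
            exact Or.inr (Or.inl rfl)
        rw [Subgroup.mem_normalizer_iff_map_conj_eq]
        exact Subgroup.eq_of_le_of_card_ge hle
          (le_of_eq (Nat.card_congr (P0.equivMapOfInjective _ (MulAut.conj s).injective).toEquiv))
      have hsm : j s ∈ Subgroup.normalizer (P : Set (S2P F)) ⊓ H :=
        ⟨Subgroup.le_normalizer_map j ⟨s, hs', rfl⟩, jH s⟩
      have d3 := Subgroup.orderOf_dvd_natCard _ hsm
      rw [orderOf_injective j jinj, orderOf_eq_prime (by rw [pow_succ, pow_two]; exact hs3) hs] at d3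
      exact Nat.le_of_dvd Nat.card_pos
        ((by norm_num : Nat.Coprime 4 3).mul_dvd_of_dvd_of_dvd (hPc ▸ Subgroup.card_dvd_of_le hPm) d3)
    have := no_fixed_sylow (l := 2) (a := 2) (by rw [hH]; norm_num) P hPH (by rw [hPc]; norm_num)
      (hbound P 12 hPH (normalizer_four_eleven hF (up_le P) (by rw [card_up, hPc]) (by
        rintro _ ⟨x, hx, rfl⟩; rw [← map_mul, hPexp x hx, map_one])) hN) hg
    simpa using this

end CfsgLib.Perm.Dickson
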