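import Cfsg.Agent.Lib.Perm.Dickson.Finite

/-!
# Subfields of finite fields and their projective groups
-/

set_option autoImplicit false
set_option linter.all false

namespace CfsgLib.Perm.Dickson

open Matrix

variable {F : Type*} [Field F] [Finite F]

theorem ncard_pow_fixed_le {c : ℕ} (hc : 2 ≤ c) : {x : F | x ^ c = x}.ncard ≤ c := by
  classical
  haveI := Fintype.ofFinite F
  set P : Polynomial F := Polynomial.X ^ c - Polynomial.X with hP
  have hdeg : P.natDegree = c := FiniteField.X_pow_card_sub_X_natDegree_eq F (by omega)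
  have hne : P ≠ 0 := FiniteField.X_pow_card_sub_X_ne_zero F (by omega)
  have hsub : {x : F | x ^ c = x} ⊆ ↑P.roots.toFinset := fun x hx => by
    rw [Finset.mem_coe, Multiset.mem_toFinset, Polynomial.mem_roots hne]
    simp [hP, Polynomial.IsRoot, show x ^ c = x from hx]
  calc {x : F | x ^ c = x}.ncard ≤ P.roots.toFinset.card := by
        rw [← Set.ncard_coe_finset]; exact Set.ncard_le_ncard hsub (Set.toFinite _)
    _ ≤ Multiset.card P.roots := Multiset.toFinset_card_le _
    _ ≤ c := (Polynomial.card_roots' P).trans hdeg.le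

theorem two_le_card_subfield (F1 : Subfield F) : 2 ≤ Nat.card F1 := Finite.one_lt_card

/-- a subfield is the fixed set of a power map -/
theorem coe_subfield_eq (F1 : Subfield F) : (F1 : Set F) = {x : F | x ^ Nat.card F1 = x} := by
  haveI := Fintype.ofFinite F1
  refine Set.eq_of_subset_of_ncard_le (fun x hx => ?_) ?_ (Set.toFinite _)
  · show x ^ Nat.card F1 = x
    rw [Nat.card_eq_fintype_card]
    exact congrArg Subtype.val (FiniteField.pow_card (⟨x, hx⟩ : F1))
  · rw [← Nat.card_coe_set_eq (F1 : Set F)]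
    exact ncard_pow_fixed_le (two_le_card_subfield F1)

theorem subfield_eq_of_card {F1 F2 : Subfield F} (h : Nat.card F1 = Nat.card F2) : F1 = F2 :=
  SetLike.coe_injective (by rw [coe_subfield_eq, coe_subfield_eq, h])

theorem subfield_le_of_card {F1 F2 : Subfield F} {k : ℕ} (h : Nat.card F2 = Nat.card F1 ^ k) : F1 ≤ F2 := by
  intro x hx
  rw [← SetLike.mem_coe, coe_subfield_eq] at hx ⊢
  show x ^ Nat.card F2 = x
  rw [h]
  clear h
  induction k with
  | zero => rw [pow_zero, pow_one]
  | succ k ih => rw [pow_succ, pow_mul, ih]; exact hx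

theorem exists_card_pow (F1 : Subfield F) : ∃ m, 1 ≤ m ∧ Nat.card F1 ^ m = Nat.card F :=
  ⟨Module.finrank F1 F, Module.finrank_pos, (Module.natCard_eq_pow_finrank (K := F1) (V := F)).symm⟩

theorem exists_card_pow_of_le {F1 F2 : Subfield F} (h : F1 ≤ F2) : ∃ m, 1 ≤ m ∧ Nat.card F1 ^ m = Nat.card F2 := by
  let F1' : Subfield F2 := F1.comap F2.subtype
  obtain ⟨m, hm, hcard⟩ := exists_card_pow F1'
  refine ⟨m, hm, ?_⟩
  rw [← hcard]
  congr 1
  exact Nat.card_congr
    { toFun := fun x => ⟨⟨x.1, h x.2⟩, x.2⟩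
      invFun := fun x => ⟨x.1.1, x.2⟩
      left_inv := fun _ => rfl
      right_inv := fun _ => rfl }

theorem card_eq_pow (p : ℕ) [Fact p.Prime] [CharP F p] : ∃ n, 1 ≤ n ∧ Nat.card F = p ^ n := by
  haveI := Fintype.ofFinite F
  obtain ⟨n, -, hn⟩ := FiniteField.card F p
  exact ⟨n, n.pos, by rw [Nat.card_eq_fintype_card, hn]⟩

/-- a field whose order has a power equal to that of `F` embeds into `F` -/
theorem exists_embedding (p : ℕ) [Fact p.Prime] [CharP F p] {K : Type*} [Field K] [Finite K] {m : ℕ} (hm : 1 ≤ m)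
    (h : Nat.card K ^ m = Nat.card F) : Nonempty (K →+* F) := by
  haveI := Fintype.ofFinite K
  obtain ⟨l, hl⟩ := CharP.exists K
  haveI hlp : Fact l.Prime := ⟨CharP.char_is_prime K l⟩
  obtain ⟨a, -, ha⟩ := FiniteField.card K l
  obtain ⟨n, hn, hF⟩ := card_eq_pow (F := F) p
  rw [Nat.card_eq_fintype_card, ha, hF, ← pow_mul] at h
  have hlp' : l = p := (Nat.prime_dvd_prime_iff_eq hlp.out Fact.out).1
    (hlp.out.dvd_of_dvd_pow (h ▸ dvd_pow_self l (Nat.mul_ne_zero a.pos.ne' (by omega))))
  subst hlp'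
  have hexp : (a : ℕ) * m = n := Nat.pow_right_injective hlp.out.two_le h
  letI := ZMod.algebra K l
  letI := ZMod.algebra F l
  have h1 : Module.finrank (ZMod l) K = a := Nat.pow_right_injective hlp.out.two_le (by
    show l ^ _ = l ^ _
    rw [FiniteField.pow_finrank_eq_natCard l K, Nat.card_eq_fintype_card, ha])
  have h2 : Module.finrank (ZMod l) F = n := Nat.pow_right_injective hlp.out.two_le (by
    show l ^ _ = l ^ _
    rw [FiniteField.pow_finrank_eq_natCard l F, hF])
  obtain ⟨f⟩ := FiniteField.nonempty_algHom_of_finrank_dvd (F := ZMod l) (K := K) (L := F)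
    (by rw [h1, h2, ← hexp]; exact dvd_mul_right _ _)
  exact ⟨f.toRingHom⟩

/-- the subgroup `PGL(2)` of a subfield -/
noncomputable abbrev pglSub (F1 : Subfield F) : Subgroup (G2 F) := (mapG F1.subtype).range

/-- the subgroup `PSL(2)` of a subfield -/
noncomputable abbrev pslSub (F1 : Subfield F) : Subgroup (G2 F) := (psl F1).map (mapG F1.subtype)

theorem pslSub_le_pglSub (F1 : Subfield F) : pslSub F1 ≤ pglSub F1 := by
  rintro _ ⟨k, -, rfl⟩; exact ⟨k, rfl⟩

theorem pslSub_le_psl (F1 : Subfield F) : pslSub F1 ≤ psl F := psl_map_le _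

omit [Finite F] in
theorem mapG_subtype_le {F1 F2 : Subfield F} (h : F1 ≤ F2) :
    mapG F1.subtype = (mapG F2.subtype).comp (mapG (Subfield.inclusion h)) := by
  rw [← mapG_comp]; rfl

theorem pglSub_mono {F1 F2 : Subfield F} (h : F1 ≤ F2) : pglSub F1 ≤ pglSub F2 := by
  rintro _ ⟨k, rfl⟩
  exact ⟨mapG (Subfield.inclusion h) k, by rw [mapG_subtype_le h]; rfl⟩

theorem pslSub_mono {F1 F2 : Subfield F} (h : F1 ≤ F2) : pslSub F1 ≤ pslSub F2 := by
  rintro _ ⟨k, hk, rfl⟩
  exact ⟨mapG (Subfield.inclusion h) k, psl_map_le _ ⟨k, hk, rfl⟩, by rw [mapG_subtype_le h]; rfl⟩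

theorem card_pglSub (F1 : Subfield F) :
    Nat.card (pglSub F1) = Nat.card F1 * (Nat.card F1 - 1) * (Nat.card F1 + 1) := by
  rw [← Nat.card_congr (MonoidHom.ofInjective (mapG_injective F1.subtype)).toEquiv, card_G2]

theorem card_pslSub (F1 : Subfield F) :
    Nat.gcd 2 (Nat.card F1 - 1) * Nat.card (pslSub F1) = Nat.card (pglSub F1) := by
  rw [Nat.card_congr ((psl F1).equivMapOfInjective _ (mapG_injective F1.subtype)).symm.toEquiv, psl_index,
    Nat.card_congr (MonoidHom.ofInjective (mapG_injective F1.subtype)).toEquiv]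

theorem odd_subfield (ho : Odd (Nat.card F)) (F1 : Subfield F) : Odd (Nat.card F1) := by
  obtain ⟨m, hm, h⟩ := exists_card_pow F1
  rw [← h] at ho
  exact Nat.Odd.of_mul_left (by rwa [← pow_succ', Nat.sub_add_cancel hm] : Odd (Nat.card F1 * Nat.card F1 ^ (m - 1)))

theorem isSquare_pow_iff (ho : Odd (Nat.card F)) {a : F} (ha : a ≠ 0) : IsSquare a ↔ a ^ (Nat.card F / 2) = 1 := by
  haveI := Fintype.ofFinite F
  rw [Nat.card_eq_fintype_card]
  refine FiniteField.isSquare_iff (fun h => two_ne_zero_of_odd ho ?_) ha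
  haveI := ringChar.charP F
  have := CharP.cast_eq_zero F (ringChar F)
  rw [h] at this
  exact_mod_cast this

theorem geom_half {c m : ℕ} (hc : Odd c) : ∃ s, c ^ m / 2 = c / 2 * s ∧ s % 2 = m % 2 := by
  obtain ⟨k, rfl⟩ := hc
  induction m with
  | zero => exact ⟨0, by simp⟩
  | succ m ih =>
    obtain ⟨s, hs, hs2⟩ := ih
    have hodd : Odd ((2 * k + 1) ^ m) := Odd.pow ⟨k, rfl⟩
    obtain ⟨e, he⟩ := hodd
    refine ⟨(2 * k + 1) * s + 1, ?_, ?_⟩
    · rw [he, show (2 * e + 1) / 2 = e by omega, show (2 * k + 1) / 2 = k by omega] at hs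
      rw [pow_succ, he, show (2 * k + 1) / 2 = k by omega, hs,
        show (2 * (k * s) + 1) * (2 * k + 1) = 2 * (k * ((2 * k + 1) * s + 1)) + 1 by ring]
      omega
    · have : ((2 * k + 1) * s) % 2 = s % 2 := by rw [Nat.mul_mod]; simp
      omega

/-- squares in a subfield stay squares, and non-squares stay non-squares exactly in odd degree -/
theorem isSquare_subfield (ho : Odd (Nat.card F)) (F1 : Subfield F) {m : ℕ} (h : Nat.card F1 ^ m = Nat.card F)
    {a : F1} (ha : a ≠ 0) : IsSquare (a : F) ↔ (IsSquare a ∨ Even m) := by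
  haveI := Fintype.ofFinite F1
  have ho1 := odd_subfield ho F1
  have ha' : (a : F) ≠ 0 := fun e => ha (Subtype.ext e)
  obtain ⟨s, hs, hs2⟩ := geom_half (m := m) ho1
  rw [isSquare_pow_iff ho ha', isSquare_pow_iff ho1 ha, ← h, hs, pow_mul, ← SubmonoidClass.coe_pow]
  have hdich : a ^ (Nat.card F1 / 2) = 1 ∨ a ^ (Nat.card F1 / 2) = -1 := by
    have h1 : (a ^ (Nat.card F1 / 2)) * (a ^ (Nat.card F1 / 2)) = 1 := by
      rw [← pow_add, ← two_mul, Nat.two_mul_odd_div_two (Nat.odd_iff.1 ho1), Nat.card_eq_fintype_card]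
      exact FiniteField.pow_card_sub_one_eq_one a ha
    exact mul_self_eq_one_iff.1 h1
  have hne : ((-1 : F1) : F) ≠ 1 := by
    intro e
    apply two_ne_zero_of_odd ho
    push_cast at e
    linear_combination -e
  rcases hdich with h1 | h1 <;> rw [h1]
  · simp
  · constructor
    · intro e
      right
      by_contra hm
      rw [Nat.not_even_iff_odd, Nat.odd_iff] at hm
      rw [show ((-1 : F1) : F) = -1 by push_cast; rfl, Odd.neg_one_pow (α := F) (Nat.odd_iff.2 (hs2.trans hm))] at e
      exact hne (by push_cast; exact e)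
    · rintro (e | e)
      · exact absurd e fun e => hne (by rw [e]; rfl)
      · rw [show ((-1 : F1) : F) = -1 by push_cast; rfl]
        exact Even.neg_one_pow (Nat.even_iff.2 (hs2.trans (Nat.even_iff.1 e)))

/-- in even degree the whole projective group of the subfield lies in `PSL(2)` -/
theorem pglSub_le_psl (F1 : Subfield F) {m : ℕ} (h : Nat.card F1 ^ m = Nat.card F) (hm : Even m ∨ Even (Nat.card F)) :
    pglSub F1 ≤ psl F := by
  rcases Nat.even_or_odd (Nat.card F) with he | ho
  · rw [psl_eq_top he]; exact le_top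
  rintro _ ⟨g, rfl⟩
  cases g using Matrix.ProjGenLinGroup.induction_on with
  | mk A =>
    rw [mapG, ProjGenLinGroup.map_mk, mk_mem_psl_iff]
    show IsSquare ((A.1.map F1.subtype).det)
    rw [← RingHom.mapMatrix_apply, ← RingHom.map_det]
    have hd := ((Matrix.isUnit_iff_isUnit_det _).1 A.isUnit).ne_zero
    exact (isSquare_subfield ho F1 h hd).2 (Or.inr (hm.resolve_right (Nat.not_even_iff_odd.2 ho)))

/-- in odd degree only the special part of the subfield group lies in `PSL(2)` -/
theorem pglSub_inf_psl (F1 : Subfield F) {m : ℕ} (h : Nat.card F1 ^ m = Nat.card F) (hm : Odd m) :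
    pglSub F1 ⊓ psl F = pslSub F1 := by
  refine le_antisymm ?_ (le_inf (pslSub_le_pglSub F1) (pslSub_le_psl F1))
  rintro _ ⟨⟨g, rfl⟩, hg⟩
  refine ⟨g, ?_, rfl⟩
  rcases Nat.even_or_odd (Nat.card F) with he | ho
  · rw [← h] at he
    have : Even (Nat.card F1) := (Nat.even_pow.1 he).1
    rw [psl_eq_top this]
    exact Subgroup.mem_top g
  cases g using Matrix.ProjGenLinGroup.induction_on with
  | mk A =>
    have hg' : IsSquare ((A.1.map F1.subtype).det) := (mk_mem_psl_iff _).1 hg
    rw [← RingHom.mapMatrix_apply, ← RingHom.map_det] at hg'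
    have hd := ((Matrix.isUnit_iff_isUnit_det _).1 A.isUnit).ne_zero
    exact (mk_mem_psl_iff _).2 (((isSquare_subfield ho F1 h hd).1 hg').resolve_right (Nat.not_even_iff_odd.2 hm))

end CfsgLib.Perm.Dickson
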