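import Cfsg.Agent.Lib.Perm.Dickson.KleinUniq
import Cfsg.Agent.Lib.Perm.Dickson.Icosa
import Cfsg.Agent.Lib.Perm.Dickson.ExcMax

/-!
# Icosahedral subgroups are defined over the field of the golden ratio
-/

set_option autoImplicit false
set_option linter.all false

namespace CfsgLib.Perm.Dickson

open Matrix

variable {F : Type*} [Field F]

/-- push a parameter pair forward -/
def QPar.mapQ {K : Type*} [Field K] (Q : QPar F) (i : F →+* K) : QPar K where
  a := i Q.a
  b := i Q.b
  two := by rw [← map_ofNat i 2]; exact (map_ne_zero i).2 Q.two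
  h := by rw [← map_mul, ← map_mul, ← map_add, Q.h, map_neg, map_one]

/-- the half trace of an element of small order lies in the subfield -/
theorem half_trace_mem (h2 : (2 : F) ≠ 0) {F1 : Subfield F} {τ : F} (hτ : τ ∈ F1) (h : τ * τ = τ + 1)
    {A : GL (Fin 2) F} {u : F} (hu : A.1 0 0 + A.1 1 1 = 2 * u) (hd : A.1.det = 2 * 2)
    (ho : ProjGenLinGroup.mk A ^ 2 = 1 ∨ ProjGenLinGroup.mk A ^ 3 = 1 ∨ ProjGenLinGroup.mk A ^ 5 = 1) :
    u ∈ F1 := by
  have h2mem : (2 : F) ∈ F1 := ofNat_mem F1 2
  by_cases h1 : ProjGenLinGroup.mk A = 1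
  · rw [← map_one ProjGenLinGroup.mk] at h1
    obtain ⟨c, hc, e⟩ := exists_smul_of_mk_eq h1
    have e00 := congrFun (congrFun e 0) 0
    have e11 := congrFun (congrFun e 1) 1
    have e01 := congrFun (congrFun e 0) 1
    simp [hc] at e00 e11 e01
    rw [det_fin_two, e01, zero_mul, sub_zero] at hd
    have hA : A.1 0 0 = A.1 1 1 := mul_left_cancel₀ hc (e00.trans e11.symm)
    have hu' : A.1 0 0 = u := mul_left_cancel₀ h2 (by linear_combination hu + hA)
    rw [← hA, hu'] at hd
    rcases mul_self_eq_mul_self_iff.1 hd with e' | e' <;> rw [e']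
    · exact h2mem
    · exact neg_mem h2mem
  rcases ho with ho | ho | ho
  · rw [mk_pow, ← map_one ProjGenLinGroup.mk] at ho
    obtain ⟨k, hk, e⟩ := exists_smul_of_mk_eq ho
    rw [Units.val_pow_eq_pow_val, pow_two, mat_sq, Units.val_one] at e
    have := coeff_eq_zero_of_scalar h1 (a := A.1 0 0 + A.1 1 1) (b := A.1.det) (c := k⁻¹)
      (by conv_rhs => rw [← e, smul_smul, inv_mul_cancel₀ hk, one_smul])
    rw [hu] at this
    rw [(mul_eq_zero.1 this).resolve_left h2]
    exact zero_mem F1
  · have := trace_of_pow_three h1 ho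
    rw [hu, hd] at this
    have hu1 : u * u = 1 * 1 := mul_left_cancel₀ (mul_ne_zero h2 h2) (by linear_combination this)
    rcases mul_self_eq_mul_self_iff.1 hu1 with e | e <;> rw [e]
    · exact one_mem F1
    · exact neg_mem (one_mem F1)
  · have := trace_of_pow_five h1 ho
    rw [hu, hd] at this
    have h4 : (u * u - u - 1) * (u * u + u - 1) = 0 := by
      refine (mul_eq_zero.1 (show (2 : F) * 2 * (2 * 2) * ((u * u - u - 1) * (u * u + u - 1)) = 0 by
        linear_combination this)).resolve_left (mul_ne_zero (mul_ne_zero h2 h2) (mul_ne_zero h2 h2))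
    have roots : ∀ v : F, v * v - v - 1 = 0 → v ∈ F1 := fun v hv => by
      rcases mul_eq_zero.1 (show (v - τ) * (v + τ - 1) = 0 by linear_combination hv - h) with e | e
      · rw [sub_eq_zero.1 e]; exact hτ
      · rw [show v = 1 - τ by linear_combination e]; exact sub_mem (one_mem F1) hτ
    rcases mul_eq_zero.1 h4 with e | e
    · exact roots u e
    · rw [show u = -(-u) by ring]
      exact neg_mem (roots (-u) (by linear_combination e))

variable [Finite F]

/-- every icosahedral subgroup is conjugate into a subfield group -/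
theorem a5_conj_subfield {M : Subgroup (G2 F)} (hM : M ≤ psl F) (e : M ≃* alternatingGroup (Fin 5))
    {F1 : Subfield F} (Q1 : QPar F1) {τ : F1} (hτ : τ * τ = τ + 1) : ∃ σ, conjG σ M ≤ pglSub F1 := by
  haveI := finite_G2 (F := F)
  set Q := Q1.mapQ F1.subtype with hQ
  have hM60 : Nat.card M = 60 := by rw [Nat.card_congr e.toEquiv, Nat.card_eq_fintype_card]; rfl
  have hord : ∀ g : M, g ^ 2 = 1 ∨ g ^ 3 = 1 ∨ g ^ 5 = 1 := fun g => by
    rcases alt_five_pow (e g) with h | h | h
    · exact Or.inl (e.injective (by rw [map_pow, h, map_one]))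
    · exact Or.inr (Or.inl (e.injective (by rw [map_pow, h, map_one])))
    · exact Or.inr (Or.inr (e.injective (by rw [map_pow, h, map_one])))
  haveI : Fact (Nat.Prime 2) := ⟨Nat.prime_two⟩
  obtain ⟨W0, hW0⟩ := Sylow.exists_subgroup_card_pow_prime (G := M) 2 (n := 2) (by rw [hM60]; norm_num)
  obtain ⟨σ, hσ⟩ := Q.exists_conj_V (W := W0.map M.subtype)
    (by rintro _ ⟨w, -, rfl⟩; exact hM w.2)
    (by rw [← Nat.card_congr (W0.equivMapOfInjective _ Subtype.val_injective).toEquiv, hW0]; norm_num)
    (by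
      rintro _ ⟨w, hw, rfl⟩
      have h4 : orderOf w ∣ 4 := by
        rw [← Subgroup.orderOf_mk w hw]
        have := orderOf_dvd_natCard (⟨w, hw⟩ : W0)
        rwa [hW0] at this
      have h2 : orderOf w ∣ 2 := by
        rcases hord w with h | h | h
        · exact orderOf_dvd_of_pow_eq_one h
        · exact (Nat.dvd_gcd h4 (orderOf_dvd_of_pow_eq_one h)).trans (by norm_num)
        · exact (Nat.dvd_gcd h4 (orderOf_dvd_of_pow_eq_one h)).trans (by norm_num)
      have hsq : w * w = 1 := by rw [← pow_two]; exact orderOf_dvd_iff_pow_eq_one.1 h2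
      rw [← map_mul, hsq, map_one])
  have hV : Q.V ≤ conjG σ M := by
    rw [← hσ]
    exact Subgroup.map_mono (fun x hx => by obtain ⟨w, -, rfl⟩ := hx; exact w.2)
  refine ⟨σ, ?_⟩
  set M' := conjG σ M with hM'
  have hsmall : ∀ g ∈ M', g ^ 2 = 1 ∨ g ^ 3 = 1 ∨ g ^ 5 = 1 := by
    rintro _ ⟨g, hg, rfl⟩
    rcases hord ⟨g, hg⟩ with h | h | h <;> have h' := congrArg Subtype.val h <;>
      simp only [SubmonoidClass.coe_pow, OneMemClass.coe_one] at h'
    · exact Or.inl (by rw [← map_pow, h', map_one])
    · exact Or.inr (Or.inl (by rw [← map_pow, h', map_one]))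
    · exact Or.inr (Or.inr (by rw [← map_pow, h', map_one]))
  -- elements of order three are defined over the subfield
  have hthree : ∀ S ∈ M', orderOf S = 3 → S ∈ pglSub F1 := by
    intro S hS h3
    cases S using Matrix.ProjGenLinGroup.induction_on with
    | mk A =>
      have h1 : ProjGenLinGroup.mk A ≠ 1 := fun e => by rw [e, orderOf_one] at h3; omega
      have ht := trace_of_pow_three h1 (h3 ▸ pow_orderOf_eq_one _)
      have hdet := ((Matrix.isUnit_iff_isUnit_det _).1 A.isUnit).ne_zero
      set t := A.1 0 0 + A.1 1 1 with htdef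
      have ht0 : t ≠ 0 := fun e => hdet (by rw [← ht, e]; simp)
      set B : Matrix (Fin 2) (Fin 2) F := (2 / t) • A.1 with hB
      have hBd : B.det = 2 * 2 := by rw [hB, det_smul, Fintype.card_fin, ← ht]; field_simp
      have hBd0 : B.det ≠ 0 := by rw [hBd]; exact mul_ne_zero Q.two Q.two
      have hBt : B 0 0 + B 1 1 = 2 := by
        rw [hB, Matrix.smul_apply, Matrix.smul_apply, smul_eq_mul, smul_eq_mul, ← mul_add, ← htdef, div_mul_cancel₀ _ ht0]
      have hSB : ProjGenLinGroup.mk A = ProjGenLinGroup.mk (GeneralLinearGroup.mkOfDetNeZero B hBd0) :=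
        mk_eq_of_smul (2 / t) (div_ne_zero Q.two ht0) rfl
      rw [hSB] at hS ⊢
      -- products with the four group
      have hu : ∀ (P : Matrix (Fin 2) (Fin 2) F) (hP : P.det = 1),
          ProjGenLinGroup.mk (GeneralLinearGroup.mkOfDetNeZero P (by rw [hP]; exact one_ne_zero)) ∈ Q.V →
          ((P * B) 0 0 + (P * B) 1 1) / 2 ∈ F1 := by
        intro P hP hPV
        have hg := hsmall _ (mul_mem (hV hPV) hS)
        rw [← map_mul] at hg
        refine half_trace_mem Q.two τ.2 (congrArg Subtype.val hτ) ?_ ?_ hg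
        · show (P * B) 0 0 + (P * B) 1 1 = _
          rw [mul_div_cancel₀ _ Q.two]
        · show (P * B).det = _
          rw [det_mul, hP, one_mul, hBd]
      have uI := hu QPar.mI QPar.detI (Or.inr (Or.inl rfl))
      have uJ := hu Q.mJ Q.detJ (Or.inr (Or.inr (Or.inl rfl)))
      have uK := hu Q.mK Q.detK (Or.inr (Or.inr (Or.inr rfl)))
      have ha : Q.a ∈ F1 := Q1.a.2
      have hb : Q.b ∈ F1 := Q1.b.2
      simp [QPar.mI, QPar.mJ, QPar.mK, Matrix.mul_apply, Fin.sum_univ_two, Matrix.vecMul, dotProduct] at uI uJ uK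
      have h2mem : (2 : F) ∈ F1 := ofNat_mem F1 2
      have hh := Q.h
      have h2 := Q.two
      have hd : (B 0 0 - B 1 1) / 2 ∈ F1 := by
        have := neg_mem (sub_mem (mul_mem ha uJ) (mul_mem hb uK))
        convert this using 1
        field_simp
        linear_combination (B 0 0 - B 1 1) * hh
      have hs : (B 0 1 + B 1 0) / 2 ∈ F1 := by
        have := neg_mem (add_mem (mul_mem hb uJ) (mul_mem ha uK))
        convert this using 1
        field_simp
        linear_combination (B 0 1 + B 1 0) * hh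
      have hy : (B 0 1 - B 1 0) / 2 ∈ F1 := by
        convert uI using 1
        ring
      have hent : ∀ i j, B i j ∈ F1 := by
        intro i j
        fin_cases i <;> fin_cases j
        · show B 0 0 ∈ F1
          rw [show B 0 0 = 1 + (B 0 0 - B 1 1) / 2 by field_simp; linear_combination hBt]
          exact add_mem (one_mem F1) hd
        · show B 0 1 ∈ F1
          rw [show B 0 1 = (B 0 1 + B 1 0) / 2 + (B 0 1 - B 1 0) / 2 by field_simp; ring]
          exact add_mem hs hy
        · show B 1 0 ∈ F1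
          rw [show B 1 0 = (B 0 1 + B 1 0) / 2 - (B 0 1 - B 1 0) / 2 by field_simp; ring]
          exact sub_mem hs hy
        · show B 1 1 ∈ F1
          rw [show B 1 1 = 1 - (B 0 0 - B 1 1) / 2 by field_simp; linear_combination hBt]
          exact sub_mem (one_mem F1) hd
      set B1 : Matrix (Fin 2) (Fin 2) F1 := fun i j => ⟨B i j, hent i j⟩ with hB1
      have hmap : F1.subtype.mapMatrix B1 = B := rfl
      have hB1d : B1.det ≠ 0 := fun e => hBd0 (by rw [← hmap, ← RingHom.map_det, e, map_zero])
      refine ⟨ProjGenLinGroup.mk (GeneralLinearGroup.mkOfDetNeZero B1 hB1d), ?_⟩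
      rw [mapG, ProjGenLinGroup.map_mk]
      exact congrArg _ (Units.ext rfl)
  -- three-cycles generate
  set f : alternatingGroup (Fin 5) →* G2 F :=
    ((MulAut.conj σ).toMonoidHom.comp M.subtype).comp e.symm.toMonoidHom with hf
  have hfinj : Function.Injective f :=
    ((MulAut.conj σ).injective.comp Subtype.val_injective).comp e.symm.injective
  have hfM : ∀ x, f x ∈ M' := fun x => ⟨_, (e.symm x).2, rfl⟩
  have htop : (pglSub F1).comap f = ⊤ := by
    rw [← Subgroup.map_injective (alternatingGroup (Fin 5)).subtype_injective |>.eq_iff, ← MonoidHom.range_eq_map,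
      Subgroup.range_subtype]
    refine le_antisymm (fun x hx => by obtain ⟨y, -, rfl⟩ := hx; exact y.2) ?_
    refine Equiv.Perm.closure_three_cycles_eq_alternating.ge.trans ?_
    rw [Subgroup.closure_le]
    intro x hx
    refine ⟨⟨x, hx.mem_alternatingGroup⟩, hthree _ (hfM _) ?_, rfl⟩
    rw [orderOf_injective f hfinj, ← hx.orderOf, ← Subgroup.orderOf_coe]
  rintro _ ⟨g, hg, rfl⟩
  have := Subgroup.mem_comap.1 (htop ▸ Subgroup.mem_top (e ⟨g, hg⟩) : e ⟨g, hg⟩ ∈ (pglSub F1).comap f)
  simpa [hf] using this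

end CfsgLib.Perm.Dickson
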