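import Cfsg.Agent.Lib.Perm.Dickson.Eleven

/-!
# Icosahedral groups over a standard four group
-/

set_option autoImplicit false
set_option linter.all false

namespace CfsgLib.Perm.Dickson

open Matrix

set_option synthInstance.maxSize 4000 in
theorem a5_cycle_decide : ∀ u v : alternatingGroup (Fin 5),
    (u = 1 ∨ v = 1 ∨ u = v ∨ u * u ≠ 1 ∨ v * v ≠ 1 ∨ u * v ≠ v * u) ∨
      ∃ s : alternatingGroup (Fin 5), s ≠ 1 ∧ s * s * s = 1 ∧ s * u = v * s ∧ s * v = u * v * s := by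
  decide +kernel

set_option synthInstance.maxSize 4000 in
theorem a5_frame_decide : ∀ u v : alternatingGroup (Fin 5),
    (u = 1 ∨ v = 1 ∨ u = v ∨ u * u ≠ 1 ∨ v * v ≠ 1 ∨ u * v ≠ v * u) ∨
      ∃ s : alternatingGroup (Fin 5), s ≠ 1 ∧ s * s * s = 1 ∧ (u * s) * (u * s) = 1 ∧ u * s ≠ 1 ∧
        v * s ≠ 1 ∧ (v * s) ^ 5 = 1 := by
  decide +kernel

variable {F : Type*} [Field F]

namespace QPar

variable (Q : QPar F)

/-- a normalised lift of an element of order three with prescribed traces against the four group -/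
structure Frame (B : GL (Fin 2) F) (a b : F) : Prop where
  det : B.1.det = 2 * 2
  tr : B.1 0 0 + B.1 1 1 = 2
  cI : ((mI : Matrix (Fin 2) (Fin 2) F) * B.1) 0 0 + ((mI : Matrix (Fin 2) (Fin 2) F) * B.1) 1 1 = 0
  cJ : (Q.mJ * B.1) 0 0 + (Q.mJ * B.1) 1 1 = 2 * a
  cK : (Q.mK * B.1) 0 0 + (Q.mK * B.1) 1 1 = 2 * b

variable {Q}

theorem Frame.unique {B B' : GL (Fin 2) F} {a b : F} (h : Q.Frame B a b) (h' : Q.Frame B' a b) : B = B' := by
  obtain ⟨-, t, i, j, k⟩ := h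
  obtain ⟨-, t', i', j', k'⟩ := h'
  simp [mI, mJ, mK, Matrix.mul_apply, Fin.sum_univ_two, Matrix.vecMul, dotProduct] at i j k i' j' k'
  have hh := Q.h
  have h2 := Q.two
  have hd : B.1 0 0 - B.1 1 1 = B'.1 0 0 - B'.1 1 1 := by
    linear_combination ((B.1 0 0 - B.1 1 1) - (B'.1 0 0 - B'.1 1 1)) * hh - Q.a * (j - j') + Q.b * (k - k')
  have hs : B.1 0 1 + B.1 1 0 = B'.1 0 1 + B'.1 1 0 := by
    linear_combination ((B.1 0 1 + B.1 1 0) - (B'.1 0 1 + B'.1 1 0)) * hh - Q.b * (j - j') - Q.a * (k - k')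
  have h00 : B.1 0 0 = B'.1 0 0 := mul_left_cancel₀ h2 (by linear_combination hd + t - t')
  have h11 : B.1 1 1 = B'.1 1 1 := by linear_combination t - t' - h00
  have h01 : B.1 0 1 = B'.1 0 1 := mul_left_cancel₀ h2 (by linear_combination hs + i - i')
  have h10 : B.1 1 0 = B'.1 1 0 := by linear_combination hs - h01
  exact Units.ext (by ext p q; fin_cases p <;> fin_cases q <;> assumption)

theorem Frame.sum_sq {B : GL (Fin 2) F} {a b : F} (h : Q.Frame B a b) : a * a + b * b = 3 := by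
  obtain ⟨d, t, i, j, k⟩ := h
  simp [mI, mJ, mK, Matrix.mul_apply, Fin.sum_univ_two, Matrix.vecMul, dotProduct] at i j k
  rw [det_fin_two] at d
  have h22 : (2 : F) * 2 ≠ 0 := mul_ne_zero Q.two Q.two
  refine mul_left_cancel₀ h22 ?_
  linear_combination ((B.1 0 0 - B.1 1 1) ^ 2 + (B.1 0 1 + B.1 1 0) ^ 2) * Q.h
    - (2 * a + (Q.a * (B.1 0 0 - B.1 1 1) + Q.b * (B.1 0 1 + B.1 1 0))) * j
    - (2 * b + (Q.a * (B.1 0 1 + B.1 1 0) - Q.b * (B.1 0 0 - B.1 1 1))) * k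
    + 4 * d - (B.1 0 0 + B.1 1 1 + 2) * t - (B.1 0 1 - B.1 1 0) * i

variable (Q)

theorem mul_smul_conj (P : Matrix (Fin 2) (Fin 2) F) (B : GL (Fin 2) F) (hP : P.det = 1) :
    (-(P * B.1 * P)).det = B.1.det := by
  rw [det_neg, det_mul, det_mul, hP, Fintype.card_fin]; ring

variable {Q}

theorem Frame.det_ne {B : GL (Fin 2) F} {a b : F} (h : Q.Frame B a b) : B.1.det ≠ 0 := by
  rw [h.det]; exact mul_ne_zero Q.two Q.two

theorem Frame.conj_J {B : GL (Fin 2) F} {a b : F} (h : Q.Frame B a b) :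
    ∃ B' : GL (Fin 2) F, Q.Frame B' a (-b) ∧
      ProjGenLinGroup.mk B' = Q.gJ * ProjGenLinGroup.mk B * Q.gJ⁻¹ := by
  have hd : (-(Q.mJ * B.1 * Q.mJ)).det ≠ 0 := by rw [mul_smul_conj Q.mJ B Q.detJ]; exact h.det_ne
  refine ⟨GeneralLinearGroup.mkOfDetNeZero _ hd, ⟨?_, ?_, ?_, ?_, ?_⟩, ?_⟩
  · show (-(Q.mJ * B.1 * Q.mJ)).det = _
    rw [mul_smul_conj Q.mJ B Q.detJ, h.det]
  all_goals try (
    obtain ⟨d, t, i, j, k⟩ := h
    simp [mI, mJ, mK, Matrix.mul_apply, Fin.sum_univ_two, Matrix.vecMul, dotProduct] at i j k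
    simp [GeneralLinearGroup.mkOfDetNeZero, mI, mJ, mK, Matrix.mul_apply, Fin.sum_univ_two, Matrix.vecMul, dotProduct]
    first
      | linear_combination -(B.1 0 0 + B.1 1 1) * Q.h + t
      | linear_combination (B.1 0 1 - B.1 1 0) * Q.h + i
      | linear_combination (B.1 0 1 - B.1 1 0) * Q.h - i
      | linear_combination -(B.1 0 1 - B.1 1 0) * Q.h + i
      | linear_combination -(B.1 0 1 - B.1 1 0) * Q.h - i
      | linear_combination -(Q.a * (B.1 0 0 - B.1 1 1) + Q.b * (B.1 0 1 + B.1 1 0)) * Q.h + j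
      | linear_combination (Q.b * (B.1 0 0 - B.1 1 1) - Q.a * (B.1 0 1 + B.1 1 0)) * Q.h - k
      | linear_combination -(Q.b * (B.1 0 0 - B.1 1 1) - Q.a * (B.1 0 1 + B.1 1 0)) * Q.h - k)
  rw [inv_eq_of_mul_eq_one_right Q.JJ, gJ, ← map_mul, ← map_mul]
  refine mk_eq_of_smul (-1) (neg_ne_zero.2 one_ne_zero) ?_
  show (-1 : F) • (-(Q.mJ * B.1 * Q.mJ)) = Q.mJ * B.1 * Q.mJ
  rw [neg_smul, one_smul, neg_neg]

theorem Frame.conj_K {B : GL (Fin 2) F} {a b : F} (h : Q.Frame B a b) :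
    ∃ B' : GL (Fin 2) F, Q.Frame B' (-a) b ∧
      ProjGenLinGroup.mk B' = Q.gK * ProjGenLinGroup.mk B * Q.gK⁻¹ := by
  have hd : (-(Q.mK * B.1 * Q.mK)).det ≠ 0 := by rw [mul_smul_conj Q.mK B Q.detK]; exact h.det_ne
  refine ⟨GeneralLinearGroup.mkOfDetNeZero _ hd, ⟨?_, ?_, ?_, ?_, ?_⟩, ?_⟩
  · show (-(Q.mK * B.1 * Q.mK)).det = _
    rw [mul_smul_conj Q.mK B Q.detK, h.det]
  all_goals try (
    obtain ⟨d, t, i, j, k⟩ := h
    simp [mI, mJ, mK, Matrix.mul_apply, Fin.sum_univ_two, Matrix.vecMul, dotProduct] at i j k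
    simp [GeneralLinearGroup.mkOfDetNeZero, mI, mJ, mK, Matrix.mul_apply, Fin.sum_univ_two, Matrix.vecMul, dotProduct]
    first
      | linear_combination -(B.1 0 0 + B.1 1 1) * Q.h + t
      | linear_combination (B.1 0 1 - B.1 1 0) * Q.h + i
      | linear_combination (B.1 0 1 - B.1 1 0) * Q.h - i
      | linear_combination -(B.1 0 1 - B.1 1 0) * Q.h + i
      | linear_combination -(B.1 0 1 - B.1 1 0) * Q.h - i
      | linear_combination (Q.a * (B.1 0 0 - B.1 1 1) + Q.b * (B.1 0 1 + B.1 1 0)) * Q.h - j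
      | linear_combination (Q.b * (B.1 0 0 - B.1 1 1) - Q.a * (B.1 0 1 + B.1 1 0)) * Q.h + k
      | linear_combination -(Q.a * (B.1 0 0 - B.1 1 1) + Q.b * (B.1 0 1 + B.1 1 0)) * Q.h - j
      | linear_combination -(Q.b * (B.1 0 0 - B.1 1 1) - Q.a * (B.1 0 1 + B.1 1 0)) * Q.h + k)
  rw [inv_eq_of_mul_eq_one_right Q.KK, gK, ← map_mul, ← map_mul]
  refine mk_eq_of_smul (-1) (neg_ne_zero.2 one_ne_zero) ?_
  show (-1 : F) • (-(Q.mK * B.1 * Q.mK)) = Q.mK * B.1 * Q.mK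
  rw [neg_smul, one_smul, neg_neg]

theorem Frame.conj_W {B : GL (Fin 2) F} {a b : F} (h : Q.Frame B a b) :
    ∃ B' : GL (Fin 2) F, Q.Frame B' (-b) a ∧
      ProjGenLinGroup.mk B' = gW Q.two * ProjGenLinGroup.mk B * (gW Q.two)⁻¹ := by
  set X : Matrix (Fin 2) (Fin 2) F := (2 : F)⁻¹ • ((mW : Matrix (Fin 2) (Fin 2) F) * B.1 * !![1, 1; -1, 1]) with hX
  have hXd : X.det = B.1.det := by
    rw [hX, det_smul, det_mul, det_mul, detW, Fintype.card_fin, det_fin_two !![(1 : F), 1; -1, 1]]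
    have h2 := Q.two
    simp; field_simp; ring
  have hd : X.det ≠ 0 := by rw [hXd]; exact h.det_ne
  refine ⟨GeneralLinearGroup.mkOfDetNeZero _ hd, ⟨?_, ?_, ?_, ?_, ?_⟩, ?_⟩
  · show X.det = _
    rw [hXd, h.det]
  all_goals try (
    obtain ⟨d, t, i, j, k⟩ := h
    simp [mI, mJ, mK, Matrix.mul_apply, Fin.sum_univ_two, Matrix.vecMul, dotProduct] at i j k
    have h2 := Q.two
    simp [hX, GeneralLinearGroup.mkOfDetNeZero, mI, mJ, mK, mW, Matrix.mul_apply, Fin.sum_univ_two, Matrix.vecMul, dotProduct]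
    field_simp
    first
      | linear_combination (2 : F) * t
      | linear_combination (2 : F) * i
      | linear_combination -(2 : F) * i
      | linear_combination (2 : F) * j
      | linear_combination -(2 : F) * j
      | linear_combination (2 : F) * k
      | linear_combination -(2 : F) * k
      | linear_combination t
      | linear_combination i
      | linear_combination -i
      | linear_combination j
      | linear_combination -j
      | linear_combination k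
      | linear_combination -k)
  rw [eq_mul_inv_iff_mul_eq, gW, ← map_mul, ← map_mul]
  refine mk_eq_of_smul 1 one_ne_zero ?_
  rw [one_smul]
  show X * (mW : Matrix (Fin 2) (Fin 2) F) = (mW : Matrix (Fin 2) (Fin 2) F) * B.1
  have e : (!![1, 1; -1, 1] : Matrix (Fin 2) (Fin 2) F) * mW = (2 : F) • 1 := by
    ext p q; fin_cases p <;> fin_cases q <;> simp [mW, Matrix.mul_apply, Fin.sum_univ_two] <;> norm_num
  rw [hX, smul_mul_assoc, mul_assoc, e, mul_smul_comm, mul_one, smul_smul, inv_mul_cancel₀ Q.two, one_smul]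

variable (Q)

/-- the two types of icosahedral overgroups of the standard four group -/
theorem exists_frame [Finite F] {M : Subgroup (G2 F)} (e : M ≃* alternatingGroup (Fin 5))
    (hV : Q.V ≤ M) {τ : F} (hτ : τ * τ = τ + 1) :
    ∃ B : GL (Fin 2) F, ProjGenLinGroup.mk B ∈ M ∧ M ≤ Subgroup.closure {gI, Q.gJ, ProjGenLinGroup.mk B} ∧
      (Q.Frame B τ (τ - 1) ∨ Q.Frame B (τ - 1) τ) := by
  haveI := finite_G2 (F := F)
  have hIm : gI ∈ M := hV (Or.inr (Or.inl rfl))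
  have hJm : Q.gJ ∈ M := hV (Or.inr (Or.inr (Or.inl rfl)))
  set u : M := ⟨gI, hIm⟩ with hu
  set v : M := ⟨Q.gJ, hJm⟩ with hv
  obtain h | h | h | h | h | h | ⟨s0, hs1, hs3, hus, hus1, hvs1, hvs⟩ := (by
    simpa [or_assoc] using a5_frame_decide (e u) (e v) :
      e u = 1 ∨ e v = 1 ∨ e u = e v ∨ e u * e u ≠ 1 ∨ e v * e v ≠ 1 ∨ e u * e v ≠ e v * e u ∨
      ∃ s : alternatingGroup (Fin 5), s ≠ 1 ∧ s * s * s = 1 ∧ (e u * s) * (e u * s) = 1 ∧ e u * s ≠ 1 ∧
        e v * s ≠ 1 ∧ (e v * s) ^ 5 = 1)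
  · exact absurd (congrArg Subtype.val (e.injective (h.trans (map_one e).symm))) gI_ne
  · exact absurd (congrArg Subtype.val (e.injective (h.trans (map_one e).symm))) Q.gJ_ne
  · exact absurd (congrArg Subtype.val (e.injective h)) Q.gI_ne_gJ
  · exact absurd (by rw [← map_mul, show u * u = 1 from Subtype.ext II, map_one]) h
  · exact absurd (by rw [← map_mul, show v * v = 1 from Subtype.ext Q.JJ, map_one]) h
  · exact absurd (by rw [← map_mul, ← map_mul, show u * v = v * u from Subtype.ext (Q.IJ.trans Q.JI.symm)]) h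
  set s : M := e.symm s0 with hs
  have hse : e s = s0 := e.apply_symm_apply s0
  have e3 : (s : G2 F) ^ 3 = 1 := congrArg Subtype.val (e.injective (show e (s ^ 3) = e 1 by
    rw [map_pow, hse, map_one, pow_succ, pow_two, hs3]))
  have eI : ((gI : G2 F) * s) ^ 2 = 1 := congrArg Subtype.val (e.injective (show e ((u * s) ^ 2) = e 1 by
    rw [map_pow, map_mul, hse, map_one, pow_two, hus]))
  have eI1 : (gI : G2 F) * s ≠ 1 := fun h => hus1 (by
    rw [← hse, ← map_mul, show u * s = 1 from Subtype.ext h, map_one])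
  have eJ : (Q.gJ * s) ^ 5 = 1 := congrArg Subtype.val (e.injective (show e ((v * s) ^ 5) = e 1 by
    rw [map_pow, map_mul, hse, map_one, hvs]))
  have eJ1 : Q.gJ * (s : G2 F) ≠ 1 := fun h => hvs1 (by
    rw [← hse, ← map_mul, show v * s = 1 from Subtype.ext h, map_one])
  have hs1' : (s : G2 F) ≠ 1 := fun h => hs1 (by rw [← hse, show s = 1 from Subtype.ext h, map_one])
  have hclo : M ≤ Subgroup.closure {gI, Q.gJ, (s : G2 F)} := by
    set K := Subgroup.closure {gI, Q.gJ, (s : G2 F)} with hK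
    have hKM : K ≤ M := (Subgroup.closure_le _).2 (by rintro x (rfl | rfl | rfl); exacts [hIm, hJm, s.2])
    have hsK : (s : G2 F) ∈ K := Subgroup.subset_closure (by simp)
    have hJK : Q.gJ ∈ K := Subgroup.subset_closure (by simp)
    have hIK : gI ∈ K := Subgroup.subset_closure (by simp)
    have hVK : Q.V ≤ K := by
      rintro x (rfl | rfl | rfl | rfl)
      exacts [one_mem _, hIK, hJK, Q.IJ ▸ mul_mem hIK hJK]
    haveI : Fact (Nat.Prime 3) := ⟨Nat.prime_three⟩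
    haveI : Fact (Nat.Prime 5) := ⟨by norm_num⟩
    have d3 := Subgroup.orderOf_dvd_natCard _ hsK
    rw [orderOf_eq_prime e3 hs1'] at d3
    have d5 := Subgroup.orderOf_dvd_natCard _ (mul_mem hJK hsK)
    rw [orderOf_eq_prime eJ eJ1] at d5
    have d4 := Subgroup.card_dvd_of_le hVK
    rw [Q.card_V] at d4
    have h60 : 60 ∣ Nat.card K := (by norm_num : Nat.Coprime 12 5).mul_dvd_of_dvd_of_dvd
      ((by norm_num : Nat.Coprime 4 3).mul_dvd_of_dvd_of_dvd d4 d3) d5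
    have hM60 : Nat.card M = 60 := by rw [Nat.card_congr e.toEquiv, Nat.card_eq_fintype_card]; rfl
    exact (Subgroup.eq_of_le_of_card_ge hKM (hM60.le.trans (Nat.le_of_dvd Nat.card_pos h60))).ge
  obtain ⟨B, hBS, hBd, hBt⟩ : ∃ B : GL (Fin 2) F, ProjGenLinGroup.mk B = (s : G2 F) ∧ B.1.det = 2 * 2 ∧
      B.1 0 0 + B.1 1 1 = 2 := by
    revert e3 hs1'
    generalize (s : G2 F) = S
    intro e3 hs1'
    cases S using Matrix.ProjGenLinGroup.induction_on with
    | mk A =>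
      have ht := trace_of_pow_three hs1' e3
      have hdet := ((Matrix.isUnit_iff_isUnit_det _).1 A.isUnit).ne_zero
      set t := A.1 0 0 + A.1 1 1 with htdef
      have ht0 : t ≠ 0 := fun e => hdet (by rw [← ht, e]; simp)
      have hBd : ((2 / t) • A.1).det = 2 * 2 := by rw [det_smul, Fintype.card_fin, ← ht]; field_simp
      refine ⟨GeneralLinearGroup.mkOfDetNeZero ((2 / t) • A.1) (by rw [hBd]; exact mul_ne_zero Q.two Q.two),
        (mk_eq_of_smul (2 / t) (div_ne_zero Q.two ht0) rfl).symm, hBd, ?_⟩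
      show ((2 / t) • A.1) 0 0 + ((2 / t) • A.1) 1 1 = 2
      rw [Matrix.smul_apply, Matrix.smul_apply, smul_eq_mul, smul_eq_mul, ← mul_add, ← htdef, div_mul_cancel₀ _ ht0]
  have cI : ((mI : Matrix (Fin 2) (Fin 2) F) * B.1) 0 0 + ((mI : Matrix (Fin 2) (Fin 2) F) * B.1) 1 1 = 0 := by
    rw [← hBS, gI, ← map_mul, mk_pow, ← map_one ProjGenLinGroup.mk] at eI
    rw [← hBS, gI, ← map_mul] at eI1
    obtain ⟨k, hk, ek⟩ := exists_smul_of_mk_eq eI
    rw [Units.val_pow_eq_pow_val, pow_two, mat_sq, Units.val_one] at ek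
    exact coeff_eq_zero_of_scalar eI1 (c := k⁻¹)
      (b := (GeneralLinearGroup.mkOfDetNeZero (mI : Matrix (Fin 2) (Fin 2) F) (by rw [detI]; exact one_ne_zero) * B).1.det)
      (by conv_rhs => rw [← ek, smul_smul, inv_mul_cancel₀ hk, one_smul]
          rfl)
  set a := ((Q.mJ * B.1) 0 0 + (Q.mJ * B.1) 1 1) / 2 with ha
  set b := ((Q.mK * B.1) 0 0 + (Q.mK * B.1) 1 1) / 2 with hb
  have hF : Q.Frame B a b := ⟨hBd, hBt, cI, by rw [ha, mul_div_cancel₀ _ Q.two], by rw [hb, mul_div_cancel₀ _ Q.two]⟩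
  have hquart : a ^ 4 - 3 * a ^ 2 + 1 = 0 := by
    rw [← hBS, gJ, ← map_mul] at eJ eJ1
    have := trace_of_pow_five eJ1 eJ
    change ((Q.mJ * B.1) 0 0 + (Q.mJ * B.1) 1 1) ^ 4 - 3 * ((Q.mJ * B.1) 0 0 + (Q.mJ * B.1) 1 1) ^ 2 *
      (Q.mJ * B.1).det + (Q.mJ * B.1).det ^ 2 = 0 at this
    rw [det_mul, detJ, one_mul, hBd, hF.cJ] at this
    exact (mul_eq_zero.1 (show (2 : F) * 2 * (2 * 2) * (a ^ 4 - 3 * a ^ 2 + 1) = 0 by linear_combination this)).resolve_left
      (mul_ne_zero (mul_ne_zero Q.two Q.two) (mul_ne_zero Q.two Q.two))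
  have hsum := hF.sum_sq
  have hcases : (a * a = τ * τ ∧ b * b = (τ - 1) * (τ - 1)) ∨ (a * a = (τ - 1) * (τ - 1) ∧ b * b = τ * τ) := by
    rcases mul_eq_zero.1 (show (a * a - τ * τ) * (a * a - (τ - 1) * (τ - 1)) = 0 by
      linear_combination hquart + (-(2 * (a * a)) + τ * τ - τ + 1) * hτ) with h | h
    · exact Or.inl ⟨sub_eq_zero.1 h, by linear_combination hsum - h - 2 * hτ⟩
    · exact Or.inr ⟨sub_eq_zero.1 h, by linear_combination hsum - h - 2 * hτ⟩
  -- normalise the signs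
  have step : ∀ {B0 : GL (Fin 2) F} {c d c' d' : F}, Q.Frame B0 c d → ProjGenLinGroup.mk B0 ∈ M →
      M ≤ Subgroup.closure {gI, Q.gJ, ProjGenLinGroup.mk B0} → (c = c' ∨ c = -c') → (d = d' ∨ d = -d') →
      ∃ B' : GL (Fin 2) F, Q.Frame B' c' d' ∧ ProjGenLinGroup.mk B' ∈ M ∧
        M ≤ Subgroup.closure {gI, Q.gJ, ProjGenLinGroup.mk B'} := by
    have tr : ∀ {B0 B' : GL (Fin 2) F} {g : G2 F}, g ∈ Q.V → g * g = 1 →
        ProjGenLinGroup.mk B' = g * ProjGenLinGroup.mk B0 * g⁻¹ → ProjGenLinGroup.mk B0 ∈ M →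
        M ≤ Subgroup.closure {gI, Q.gJ, ProjGenLinGroup.mk B0} →
        ProjGenLinGroup.mk B' ∈ M ∧ M ≤ Subgroup.closure {gI, Q.gJ, ProjGenLinGroup.mk B'} := by
      intro B0 B' g hg hgg he hm hc
      refine ⟨he ▸ mul_mem (mul_mem (hV hg) hm) (inv_mem (hV hg)), hc.trans ?_⟩
      rw [Subgroup.closure_le]
      set C := Subgroup.closure {gI, Q.gJ, ProjGenLinGroup.mk B'} with hC
      have hI' : gI ∈ C := Subgroup.subset_closure (by simp)
      have hJ' : Q.gJ ∈ C := Subgroup.subset_closure (by simp)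
      have hB' : ProjGenLinGroup.mk B' ∈ C := Subgroup.subset_closure (by simp)
      have hgC : g ∈ C := by
        rcases hg with rfl | rfl | rfl | rfl
        exacts [one_mem _, hI', hJ', Q.IJ ▸ mul_mem hI' hJ']
      rintro x (rfl | rfl | rfl)
      · exact hI'
      · exact hJ'
      · have : ProjGenLinGroup.mk B0 = g⁻¹ * ProjGenLinGroup.mk B' * g := by rw [he]; group
        rw [SetLike.mem_coe, this]
        exact mul_mem (mul_mem (inv_mem hgC) hB') hgC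
    intro B0 c d c' d' hf hm hc h1 h2
    obtain ⟨B1, f1, m1, c1⟩ : ∃ B1 : GL (Fin 2) F, Q.Frame B1 c' d ∧ ProjGenLinGroup.mk B1 ∈ M ∧
        M ≤ Subgroup.closure {gI, Q.gJ, ProjGenLinGroup.mk B1} := by
      rcases h1 with rfl | rfl
      · exact ⟨B0, hf, hm, hc⟩
      · obtain ⟨B1, f1, e1⟩ := hf.conj_K
        rw [neg_neg] at f1
        exact ⟨B1, f1, tr (Or.inr (Or.inr (Or.inr rfl))) Q.KK e1 hm hc⟩
    rcases h2 with rfl | rfl
    · exact ⟨B1, f1, m1, c1⟩
    · obtain ⟨B2, f2, e2⟩ := f1.conj_J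
      rw [neg_neg] at f2
      exact ⟨B2, f2, tr (Or.inr (Or.inr (Or.inl rfl))) Q.JJ e2 m1 c1⟩
  have hmB : ProjGenLinGroup.mk B ∈ M := hBS ▸ s.2
  have hcB : M ≤ Subgroup.closure {gI, Q.gJ, ProjGenLinGroup.mk B} := hBS.symm ▸ hclo
  rcases hcases with ⟨h1, h2⟩ | ⟨h1, h2⟩
  · obtain ⟨B', f, m, c⟩ := step hF hmB hcB (mul_self_eq_mul_self_iff.1 h1) (mul_self_eq_mul_self_iff.1 h2)
    exact ⟨B', m, c, Or.inl f⟩
  · obtain ⟨B', f, m, c⟩ := step hF hmB hcB (mul_self_eq_mul_self_iff.1 h1) (mul_self_eq_mul_self_iff.1 h2)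
    exact ⟨B', m, c, Or.inr f⟩

/-- the two types exclude each other -/
theorem not_both_frames (h3 : (3 : F) ≠ 0) (h5 : (5 : F) ≠ 0) {M : Subgroup (G2 F)}
    (e : M ≃* alternatingGroup (Fin 5)) {τ : F} (hτ : τ * τ = τ + 1) {B1 B2 : GL (Fin 2) F}
    (f1 : Q.Frame B1 τ (τ - 1)) (f2 : Q.Frame B2 (τ - 1) τ) (m1 : ProjGenLinGroup.mk B1 ∈ M)
    (m2 : ProjGenLinGroup.mk B2 ∈ M) : False := by
  have htr : (B1.1 * B2.1) 0 0 + (B1.1 * B2.1) 1 1 = -2 := by
    obtain ⟨-, t, i, j, k⟩ := f1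
    obtain ⟨-, t', i', j', k'⟩ := f2
    simp [mI, mJ, mK, Matrix.mul_apply, Fin.sum_univ_two, Matrix.vecMul, dotProduct] at i j k i' j' k'
    have h2 := Q.two
    refine mul_left_cancel₀ h2 ?_
    simp [Matrix.mul_apply, Fin.sum_univ_two]
    linear_combination (B2.1 0 0 + B2.1 1 1) * t + 2 * t'
      + ((B1.1 0 0 - B1.1 1 1) * (B2.1 0 0 - B2.1 1 1) + (B1.1 0 1 + B1.1 1 0) * (B2.1 0 1 + B2.1 1 0)) * Q.h
      - (Q.a * (B2.1 0 0 - B2.1 1 1) + Q.b * (B2.1 0 1 + B2.1 1 0)) * j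
      - (Q.a * (B2.1 0 1 + B2.1 1 0) - Q.b * (B2.1 0 0 - B2.1 1 1)) * k
      - 2 * τ * j' - 2 * (τ - 1) * k' - 8 * hτ - (B2.1 0 1 - B2.1 1 0) * i
  have hm := mul_mem m1 m2
  set x : M := ⟨_, hm⟩ with hx
  have hd : (B1 * B2).1.det = 2 * 2 * (2 * 2) := by rw [Units.val_mul, det_mul, f1.det, f2.det]
  have htr' : (B1 * B2).1 0 0 + (B1 * B2).1 1 1 = -2 := by rw [Units.val_mul]; exact htr
  by_cases h1 : ProjGenLinGroup.mk (B1 * B2) = 1
  · rw [← map_one ProjGenLinGroup.mk] at h1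
    obtain ⟨c, hc, ec⟩ := exists_smul_of_mk_eq h1
    have e00 := congrFun (congrFun ec 0) 0
    have e11 := congrFun (congrFun ec 1) 1
    have e01 := congrFun (congrFun ec 0) 1
    simp [hc] at e00 e11 e01
    rw [det_fin_two, Units.val_mul, e01, zero_mul, sub_zero] at hd
    have heq : (B1.1 * B2.1) 0 0 = (B1.1 * B2.1) 1 1 := mul_left_cancel₀ hc (e00.trans e11.symm)
    rw [← heq] at hd htr
    have : (B1.1 * B2.1) 0 0 = -1 := mul_left_cancel₀ Q.two (by linear_combination htr)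
    rw [this] at hd
    exact mul_ne_zero h3 h5 (by linear_combination -hd)
  have hp : x ^ 2 = 1 ∨ x ^ 3 = 1 ∨ x ^ 5 = 1 := by
    rcases alt_five_pow (e x) with h | h | h
    · exact Or.inl (e.injective (by rw [map_pow, h, map_one]))
    · exact Or.inr (Or.inl (e.injective (by rw [map_pow, h, map_one])))
    · exact Or.inr (Or.inr (e.injective (by rw [map_pow, h, map_one])))
  rcases hp with h | h | h <;> have h' := congrArg Subtype.val h <;>
    simp only [SubmonoidClass.coe_pow, OneMemClass.coe_one, hx, ← map_mul] at h'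
  · rw [mk_pow, ← map_one ProjGenLinGroup.mk] at h'
    obtain ⟨k, hk, ek⟩ := exists_smul_of_mk_eq h'
    rw [Units.val_pow_eq_pow_val, pow_two, mat_sq, Units.val_one] at ek
    have h0 := coeff_eq_zero_of_scalar h1 (a := (B1 * B2).1 0 0 + (B1 * B2).1 1 1) (b := (B1 * B2).1.det) (c := k⁻¹)
      (by conv_rhs => rw [← ek, smul_smul, inv_mul_cancel₀ hk, one_smul])
    rw [htr'] at h0
    exact Q.two (neg_eq_zero.1 h0)
  · have := trace_of_pow_three h1 h'
    rw [htr', hd] at this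
    exact mul_ne_zero (mul_ne_zero Q.two Q.two) h3 (by linear_combination -this)
  · have := trace_of_pow_five h1 h'
    rw [htr', hd] at this
    exact mul_ne_zero (mul_ne_zero (mul_ne_zero (mul_ne_zero Q.two Q.two) Q.two) Q.two) h5
      (by linear_combination this)

/-- the stabiliser of the four group lies in every icosahedral overgroup -/
theorem N_le_of_a5 [Finite F] (hns : ¬ IsSquare (2 : F)) {M : Subgroup (G2 F)} (hM : M ≤ psl F)
    (e : M ≃* alternatingGroup (Fin 5)) (hV : Q.V ≤ M) : Q.N ⊓ psl F ≤ M := by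
  haveI := finite_G2 (F := F)
  have hIm : gI ∈ M := hV (Or.inr (Or.inl rfl))
  have hJm : Q.gJ ∈ M := hV (Or.inr (Or.inr (Or.inl rfl)))
  set u : M := ⟨gI, hIm⟩ with hu
  set v : M := ⟨Q.gJ, hJm⟩ with hv
  obtain h | h | h | h | h | h | ⟨s0, hs1, hs3, hsu, hsv⟩ := (by
    simpa [or_assoc] using a5_cycle_decide (e u) (e v) :
      e u = 1 ∨ e v = 1 ∨ e u = e v ∨ e u * e u ≠ 1 ∨ e v * e v ≠ 1 ∨ e u * e v ≠ e v * e u ∨
      ∃ s : alternatingGroup (Fin 5), s ≠ 1 ∧ s * s * s = 1 ∧ s * e u = e v * s ∧ s * e v = e u * e v * s)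
  · exact absurd (congrArg Subtype.val (e.injective (h.trans (map_one e).symm))) gI_ne
  · exact absurd (congrArg Subtype.val (e.injective (h.trans (map_one e).symm))) Q.gJ_ne
  · exact absurd (congrArg Subtype.val (e.injective h)) Q.gI_ne_gJ
  · exact absurd (by rw [← map_mul, show u * u = 1 from Subtype.ext II, map_one]) h
  · exact absurd (by rw [← map_mul, show v * v = 1 from Subtype.ext Q.JJ, map_one]) h
  · exact absurd (by rw [← map_mul, ← map_mul, show u * v = v * u from Subtype.ext (Q.IJ.trans Q.JI.symm)]) h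
  set s : M := e.symm s0 with hs
  have hse : e s = s0 := e.apply_symm_apply s0
  have h1 : (s : G2 F) * gI = Q.gJ * (s : G2 F) := congrArg Subtype.val (e.injective (show e (s * u) = e (v * s) by
    rw [map_mul, map_mul, hse, hsu]))
  have h2 : (s : G2 F) * Q.gJ = gI * Q.gJ * (s : G2 F) := congrArg Subtype.val (e.injective (show e (s * v) = e (u * v * s) by
    rw [map_mul, map_mul, map_mul, hse, hsv]))
  have hsN : (s : G2 F) ∈ Q.N := Q.mem_N_of
    (by rw [h1, mul_inv_cancel_right]; exact Or.inr (Or.inr (Or.inl rfl)))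
    (by rw [h2, mul_inv_cancel_right, Q.IJ]; exact Or.inr (Or.inr (Or.inr rfl)))
  have hle : Q.V ≤ (Q.N ⊓ psl F) ⊓ M := le_inf (le_inf Q.V_le_N Q.V_le_psl) hV
  haveI : Fact (Nat.Prime 3) := ⟨Nat.prime_three⟩
  have d3 := Subgroup.orderOf_dvd_natCard _ (show (s : G2 F) ∈ (Q.N ⊓ psl F) ⊓ M from ⟨⟨hsN, hM s.2⟩, s.2⟩)
  rw [Subgroup.orderOf_coe, orderOf_eq_prime (e.injective (show e (s ^ 3) = e 1 by
    rw [map_pow, hse, map_one, pow_succ, pow_two, hs3])) (fun h => hs1 (by rw [← hse, h, map_one]))] at d3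
  have d4 := Subgroup.card_dvd_of_le hle
  rw [Q.card_V] at d4
  have h12 := (by norm_num : Nat.Coprime 4 3).mul_dvd_of_dvd_of_dvd d4 d3
  exact (Subgroup.eq_of_le_of_card_ge inf_le_left
    ((Q.card_N_psl hns).le.trans (Nat.le_of_dvd Nat.card_pos h12))).ge.trans inf_le_right

end QPar

end CfsgLib.Perm.Dickson
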