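import Cfsg.Agent.Lib.Perm.Dickson.Maximal

/-!
# Klein four groups in PSL(2, q), q odd
-/

set_option autoImplicit false
set_option linter.all false

namespace CfsgLib.Perm.Dickson

open Matrix

variable {F : Type*} [Field F]

/-- `a * a + b * b = -1` -/
structure QPar (F : Type*) [Field F] where
  a : F
  b : F
  two : (2 : F) ≠ 0
  h : a * a + b * b = -1

namespace QPar

variable (Q : QPar F)

def mI : Matrix (Fin 2) (Fin 2) F := !![0, -1; 1, 0]
def mJ : Matrix (Fin 2) (Fin 2) F := !![Q.a, Q.b; Q.b, -Q.a]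
def mK : Matrix (Fin 2) (Fin 2) F := !![-Q.b, Q.a; Q.a, Q.b]
def mY : Matrix (Fin 2) (Fin 2) F := !![1 + Q.a - Q.b, -1 + Q.a + Q.b; 1 + Q.a + Q.b, 1 - Q.a + Q.b]
def mW : Matrix (Fin 2) (Fin 2) F := !![1, -1; 1, 1]

theorem detI : (mI (F := F)).det = 1 := by simp [mI, det_fin_two]
theorem detJ : Q.mJ.det = 1 := by simp [mJ, det_fin_two]; linear_combination -Q.h
theorem detK : Q.mK.det = 1 := by simp [mK, det_fin_two]; linear_combination -Q.h
theorem detY : Q.mY.det = 2 * 2 := by simp [mY, det_fin_two]; linear_combination (-2 : F) * Q.h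
theorem detW : (mW (F := F)).det = 2 := by simp [mW, det_fin_two]; norm_num

noncomputable def gI : G2 F := ProjGenLinGroup.mk (GeneralLinearGroup.mkOfDetNeZero mI (by rw [detI]; exact one_ne_zero))
noncomputable def gJ : G2 F := ProjGenLinGroup.mk (GeneralLinearGroup.mkOfDetNeZero Q.mJ (by rw [detJ]; exact one_ne_zero))
noncomputable def gK : G2 F := ProjGenLinGroup.mk (GeneralLinearGroup.mkOfDetNeZero Q.mK (by rw [detK]; exact one_ne_zero))
noncomputable def gY : G2 F :=
  ProjGenLinGroup.mk (GeneralLinearGroup.mkOfDetNeZero Q.mY (by rw [detY]; exact mul_ne_zero Q.two Q.two))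
noncomputable def gW (h2 : (2 : F) ≠ 0) : G2 F :=
  ProjGenLinGroup.mk (GeneralLinearGroup.mkOfDetNeZero mW (by rw [detW]; exact h2))

end QPar

theorem mk_eq_of_smul {A B : GL (Fin 2) F} (c : F) (hc : c ≠ 0) (h : c • A.1 = B.1) :
    ProjGenLinGroup.mk A = ProjGenLinGroup.mk B := by
  refine ProjGenLinGroup.mk_eq_mk_iff.2 ⟨Units.mk0 c hc, Units.ext ?_⟩
  rw [← h]
  ext i j
  simp [mul_comm]

theorem exists_smul_of_mk_eq {A B : GL (Fin 2) F} (h : ProjGenLinGroup.mk A = ProjGenLinGroup.mk B) :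
    ∃ c : F, c ≠ 0 ∧ c • A.1 = B.1 := by
  obtain ⟨c, hc⟩ := ProjGenLinGroup.mk_eq_mk_iff.1 h
  refine ⟨c, c.ne_zero, ?_⟩
  rw [← hc]
  ext i j
  simp [mul_comm]

namespace QPar

variable (Q : QPar F)

theorem II : (gI : G2 F) * gI = 1 := by
  rw [gI, ← map_mul, ← map_one ProjGenLinGroup.mk]
  refine mk_eq_of_smul (-1) (neg_ne_zero.2 one_ne_zero) ?_
  ext i j; fin_cases i <;> fin_cases j <;> simp [GeneralLinearGroup.mkOfDetNeZero, mI, Matrix.mul_apply, Fin.sum_univ_two]

theorem JJ : Q.gJ * Q.gJ = 1 := by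
  rw [gJ, ← map_mul, ← map_one ProjGenLinGroup.mk]
  refine mk_eq_of_smul (-1) (neg_ne_zero.2 one_ne_zero) ?_
  ext i j; fin_cases i <;> fin_cases j <;>
    simp [GeneralLinearGroup.mkOfDetNeZero, mJ, Matrix.mul_apply, Fin.sum_univ_two] <;>
    first | ring1 | linear_combination -Q.h

theorem IJ : gI * Q.gJ = Q.gK := by
  rw [gI, gJ, gK, ← map_mul]
  refine mk_eq_of_smul 1 one_ne_zero ?_
  ext i j; fin_cases i <;> fin_cases j <;>
    simp [GeneralLinearGroup.mkOfDetNeZero, mI, mJ, mK, Matrix.mul_apply, Fin.sum_univ_two]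

theorem JI : Q.gJ * gI = Q.gK := by
  rw [gI, gJ, gK, ← map_mul]
  refine mk_eq_of_smul (-1) (neg_ne_zero.2 one_ne_zero) ?_
  ext i j; fin_cases i <;> fin_cases j <;>
    simp [GeneralLinearGroup.mkOfDetNeZero, mI, mJ, mK, Matrix.mul_apply, Fin.sum_univ_two]

theorem YI : Q.gY * gI = Q.gJ * Q.gY := by
  rw [gI, gJ, gY, ← map_mul, ← map_mul]
  refine mk_eq_of_smul 1 one_ne_zero ?_
  ext i j; fin_cases i <;> fin_cases j <;>
    simp [GeneralLinearGroup.mkOfDetNeZero, mI, mJ, mY, Matrix.mul_apply, Fin.sum_univ_two] <;>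
    first | linear_combination Q.h | linear_combination -Q.h | ring1

theorem YJ : Q.gY * Q.gJ = Q.gK * Q.gY := by
  rw [gK, gJ, gY, ← map_mul, ← map_mul]
  refine mk_eq_of_smul 1 one_ne_zero ?_
  ext i j; fin_cases i <;> fin_cases j <;>
    simp [GeneralLinearGroup.mkOfDetNeZero, mK, mJ, mY, Matrix.mul_apply, Fin.sum_univ_two] <;>
    first | ring1 | linear_combination Q.h | linear_combination -Q.h | linear_combination (2 : F) * Q.h |
      linear_combination (-2 : F) * Q.h

theorem WI (h2 : (2 : F) ≠ 0) : gW h2 * gI = gI * gW h2 := by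
  rw [gW, gI, ← map_mul, ← map_mul]
  refine mk_eq_of_smul 1 one_ne_zero ?_
  ext i j; fin_cases i <;> fin_cases j <;>
    simp [GeneralLinearGroup.mkOfDetNeZero, mI, mW, Matrix.mul_apply, Fin.sum_univ_two]

theorem WJ : gW Q.two * Q.gJ = Q.gK * gW Q.two := by
  rw [gW, gJ, gK, ← map_mul, ← map_mul]
  refine mk_eq_of_smul 1 one_ne_zero ?_
  ext i j; fin_cases i <;> fin_cases j <;>
    simp [GeneralLinearGroup.mkOfDetNeZero, mJ, mK, mW, Matrix.mul_apply, Fin.sum_univ_two] <;> ring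

theorem gI_mem : (gI : G2 F) ∈ psl F :=
  (mk_mem_psl_iff _).2 (by show IsSquare (mI (F := F)).det; rw [detI]; exact IsSquare.one)

theorem gJ_mem : Q.gJ ∈ psl F := (mk_mem_psl_iff _).2 (by show IsSquare Q.mJ.det; rw [detJ]; exact IsSquare.one)

theorem gY_mem : Q.gY ∈ psl F :=
  (mk_mem_psl_iff _).2 (by show IsSquare Q.mY.det; rw [detY]; exact IsSquare.mul_self 2)

theorem gW_mem_iff (h2 : (2 : F) ≠ 0) : gW h2 ∈ psl F ↔ IsSquare (2 : F) := by
  rw [gW, mk_mem_psl_iff]
  show IsSquare (mW (F := F)).det ↔ _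
  rw [detW]

theorem gI_ne : (gI : G2 F) ≠ 1 := by
  intro h
  rw [gI, ← map_one ProjGenLinGroup.mk] at h
  obtain ⟨c, hc, h'⟩ := exists_smul_of_mk_eq h
  have := congrFun (congrFun h' 1) 0
  simp [GeneralLinearGroup.mkOfDetNeZero, mI] at this
  exact hc this

theorem gJ_ne : Q.gJ ≠ 1 := by
  intro h
  rw [gJ, ← map_one ProjGenLinGroup.mk] at h
  obtain ⟨c, hc, h'⟩ := exists_smul_of_mk_eq h
  have h1 := congrFun (congrFun h' 0) 0
  have h2 := congrFun (congrFun h' 1) 1
  simp [GeneralLinearGroup.mkOfDetNeZero, mJ] at h1 h2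
  apply Q.two
  linear_combination -h1 - h2

theorem gI_ne_gJ : gI ≠ Q.gJ := by
  intro h
  rw [gI, gJ] at h
  obtain ⟨c, hc, h'⟩ := exists_smul_of_mk_eq h
  have h00 := congrFun (congrFun h' 0) 0
  have h01 := congrFun (congrFun h' 0) 1
  have h10 := congrFun (congrFun h' 1) 0
  simp [GeneralLinearGroup.mkOfDetNeZero, mI, mJ] at h00 h01 h10
  have : (2 : F) * c = 0 := by linear_combination h10 - h01
  exact hc ((mul_eq_zero.1 this).resolve_left Q.two)

theorem gK_ne : Q.gK ≠ 1 := fun h => Q.gI_ne_gJ (by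
  rw [← Q.IJ, mul_eq_one_iff_eq_inv, inv_eq_of_mul_eq_one_right Q.JJ] at h
  exact h)

theorem KK : Q.gK * Q.gK = 1 := by
  calc Q.gK * Q.gK = gI * Q.gJ * (Q.gJ * gI) := by rw [Q.IJ, Q.JI]
    _ = gI * (Q.gJ * Q.gJ) * gI := by simp only [mul_assoc]
    _ = 1 := by rw [Q.JJ, mul_one, II]

/-- the Klein four group -/
def V : Subgroup (G2 F) where
  carrier := {g | g = 1 ∨ g = gI ∨ g = Q.gJ ∨ g = Q.gK}
  one_mem' := Or.inl rfl
  inv_mem' := by
    rintro g (rfl | rfl | rfl | rfl)
    · simp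
    · exact Or.inr (Or.inl (inv_eq_of_mul_eq_one_right II))
    · exact Or.inr (Or.inr (Or.inl (inv_eq_of_mul_eq_one_right Q.JJ)))
    · exact Or.inr (Or.inr (Or.inr (inv_eq_of_mul_eq_one_right Q.KK)))
  mul_mem' := by
    have hIK : gI * Q.gK = Q.gJ := by rw [← Q.IJ, ← mul_assoc, II, one_mul]
    have hKI : Q.gK * gI = Q.gJ := by rw [← Q.JI, mul_assoc, II, mul_one]
    have hJK : Q.gJ * Q.gK = gI := by rw [← Q.JI, ← mul_assoc, Q.JJ, one_mul]
    have hKJ : Q.gK * Q.gJ = gI := by rw [← Q.IJ, mul_assoc, Q.JJ, mul_one]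
    rintro g h (rfl | rfl | rfl | rfl) (rfl | rfl | rfl | rfl) <;>
      simp [II, Q.JJ, Q.KK, Q.IJ, Q.JI, hIK, hKI, hJK, hKJ]

theorem mem_V {g : G2 F} : g ∈ Q.V ↔ g = 1 ∨ g = gI ∨ g = Q.gJ ∨ g = Q.gK := Iff.rfl

theorem card_V : Nat.card Q.V = 4 := by
  classical
  have hIK : gI ≠ Q.gK := fun e => Q.gJ_ne (by rw [← Q.IJ] at e; exact mul_eq_left.1 e.symm)
  have hJK : Q.gJ ≠ Q.gK := fun e => gI_ne (F := F) (by rw [← Q.IJ] at e; exact mul_eq_right.1 e.symm)
  have e : (Q.V : Set (G2 F)) = ({1, gI, Q.gJ, Q.gK} : Finset (G2 F)) := by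
    ext g; simp [mem_V]
  rw [← SetLike.coe_sort_coe, Nat.card_coe_set_eq, e, Set.ncard_coe_finset, Finset.card_insert_of_notMem,
    Finset.card_insert_of_notMem, Finset.card_pair hJK]
  · simp [hIK, Q.gI_ne_gJ]
  · simp [Ne.symm gI_ne, Ne.symm Q.gJ_ne, Ne.symm Q.gK_ne]

theorem V_le_psl : Q.V ≤ psl F := by
  rintro g (rfl | rfl | rfl | rfl)
  · exact one_mem _
  · exact gI_mem
  · exact Q.gJ_mem
  · rw [← Q.IJ]; exact mul_mem gI_mem Q.gJ_mem

/-- centraliser of the Klein four group -/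
theorem mem_V_of_comm {g : G2 F} (hI : g * gI = gI * g) (hJ : g * Q.gJ = Q.gJ * g) : g ∈ Q.V := by
  suffices key : ∀ A : GL (Fin 2) F, A.1 * mI = mI * A.1 → A.1 * Q.mJ = Q.mJ * A.1 → ProjGenLinGroup.mk A = 1 by
    cases g using Matrix.ProjGenLinGroup.induction_on with
    | mk A =>
      rw [gI, ← map_mul, ← map_mul] at hI
      rw [gJ, ← map_mul, ← map_mul] at hJ
      obtain ⟨l, hl, el⟩ := exists_smul_of_mk_eq hI
      obtain ⟨m, hm, em⟩ := exists_smul_of_mk_eq hJ
      change l • (A.1 * mI) = mI * A.1 at el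
      change m • (A.1 * Q.mJ) = Q.mJ * A.1 at em
      have hd := ((Matrix.isUnit_iff_isUnit_det _).1 A.isUnit).ne_zero
      have sq : ∀ {c : F} {M : Matrix (Fin 2) (Fin 2) F}, M.det = 1 → c • (A.1 * M) = M * A.1 → c = 1 ∨ c = -1 := by
        intro c M hM e
        have := congrArg Matrix.det e
        rw [det_smul, det_mul, det_mul, hM, Fintype.card_fin, mul_one, one_mul, mul_eq_right₀ hd] at this
        exact sq_eq_one_iff.1 this
      have antiIJ : (mI : Matrix (Fin 2) (Fin 2) F) * Q.mJ = -(Q.mJ * mI) := by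
        ext i j; fin_cases i <;> fin_cases j <;> simp [mI, mJ, Matrix.mul_apply, Fin.sum_univ_two]
      rcases sq detI el with rfl | rfl <;> rcases sq Q.detJ em with rfl | rfl
      · rw [one_smul] at el em
        exact Or.inl (key A el em)
      · rw [one_smul] at el
        rw [neg_smul, one_smul, neg_eq_iff_eq_neg] at em
        right; left
        have := key (A * GeneralLinearGroup.mkOfDetNeZero mI (by rw [detI]; exact one_ne_zero))
          (by
            show A.1 * mI * mI = mI * (A.1 * mI)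
            rw [← mul_assoc, el])
          (by
            show A.1 * mI * Q.mJ = Q.mJ * (A.1 * mI)
            rw [mul_assoc, antiIJ, mul_neg, ← mul_assoc, em, neg_mul, neg_neg, mul_assoc])
        rw [map_mul, mul_eq_one_iff_eq_inv] at this
        rw [this]
        exact inv_eq_of_mul_eq_one_right II
      · rw [one_smul] at em
        rw [neg_smul, one_smul, neg_eq_iff_eq_neg] at el
        right; right; left
        have antiJI : Q.mJ * (mI : Matrix (Fin 2) (Fin 2) F) = -(mI * Q.mJ) := by rw [antiIJ, neg_neg]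
        have := key (A * GeneralLinearGroup.mkOfDetNeZero Q.mJ (by rw [detJ]; exact one_ne_zero))
          (by
            show A.1 * Q.mJ * mI = mI * (A.1 * Q.mJ)
            rw [mul_assoc, antiJI, mul_neg, ← mul_assoc, el, neg_mul, neg_neg, mul_assoc])
          (by
            show A.1 * Q.mJ * Q.mJ = Q.mJ * (A.1 * Q.mJ)
            rw [← mul_assoc, em])
        rw [map_mul, mul_eq_one_iff_eq_inv] at this
        rw [this]
        exact inv_eq_of_mul_eq_one_right Q.JJ
      · rw [neg_smul, one_smul, neg_eq_iff_eq_neg] at el em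
        right; right; right
        have := key (A * GeneralLinearGroup.mkOfDetNeZero Q.mK (by rw [detK]; exact one_ne_zero))
          (by
            show A.1 * Q.mK * mI = mI * (A.1 * Q.mK)
            have e1 : Q.mK * (mI : Matrix (Fin 2) (Fin 2) F) = -(mI * Q.mK) := by
              ext i j; fin_cases i <;> fin_cases j <;> simp [mI, mK, Matrix.mul_apply, Fin.sum_univ_two]
            rw [mul_assoc, e1, mul_neg, ← mul_assoc, el, neg_mul, neg_neg, mul_assoc])
          (by
            show A.1 * Q.mK * Q.mJ = Q.mJ * (A.1 * Q.mK)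
            have e1 : Q.mK * Q.mJ = -(Q.mJ * Q.mK) := by
              ext i j; fin_cases i <;> fin_cases j <;> simp [mJ, mK, Matrix.mul_apply, Fin.sum_univ_two] <;> ring
            rw [mul_assoc, e1, mul_neg, ← mul_assoc, em, neg_mul, neg_neg, mul_assoc])
        rw [map_mul, mul_eq_one_iff_eq_inv] at this
        rw [this]
        exact inv_eq_of_mul_eq_one_right Q.KK
  intro A h1 h2
  have a0 := congrFun (congrFun h1 0) 0
  have a1 := congrFun (congrFun h1 0) 1
  have b0 := congrFun (congrFun h2 0) 0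
  have b1 := congrFun (congrFun h2 0) 1
  simp [mI, mJ, Matrix.mul_apply, Fin.sum_univ_two] at a0 a1 b0 b1
  have hb : (2 * A.1 0 1) * Q.b = 0 := by linear_combination b0 + Q.b * a0
  have ha : (2 * A.1 0 1) * Q.a = 0 := by linear_combination -b1 + Q.b * a1
  have h01 : 2 * A.1 0 1 = 0 := by linear_combination (2 * A.1 0 1) * Q.h - Q.a * ha - Q.b * hb
  have h01' : A.1 0 1 = 0 := (mul_eq_zero.1 h01).resolve_left Q.two
  have hne : A.1 0 0 ≠ 0 := by
    intro e
    apply ((Matrix.isUnit_iff_isUnit_det _).1 A.isUnit).ne_zero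
    rw [det_fin_two, e, h01']; ring
  rw [← map_one ProjGenLinGroup.mk]
  refine mk_eq_of_smul (A.1 0 0)⁻¹ (inv_ne_zero hne) ?_
  ext i j
  fin_cases i <;> fin_cases j <;> simp [hne, h01'] <;>
    first
      | linear_combination a1
      | linear_combination -a1
      | linear_combination a0 + h01'
      | linear_combination -a0 + h01'
      | linear_combination a0 - h01'
      | linear_combination -a0 - h01'
      | (field_simp; linear_combination a1)
      | (field_simp; linear_combination -a1)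

end QPar

end CfsgLib.Perm.Dickson
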