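import Cfsg.Agent.Lib.Perm.Dickson.Klein

/-!
# Normalisers and conjugacy of Klein four groups
-/

set_option autoImplicit false
set_option linter.all false

namespace CfsgLib.Perm.Dickson

open Matrix

variable {F : Type*} [Field F]

namespace QPar

variable (Q : QPar F)

/-- the three involutions -/
noncomputable def inv3 : Fin 3 → G2 F := ![gI, Q.gJ, Q.gK]

theorem inv3_injective : Function.Injective Q.inv3 := by
  have hIK : gI ≠ Q.gK := fun e => Q.gJ_ne (by rw [← Q.IJ] at e; exact mul_eq_left.1 e.symm)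
  have hJK : Q.gJ ≠ Q.gK := fun e => gI_ne (F := F) (by rw [← Q.IJ] at e; exact mul_eq_right.1 e.symm)
  intro i j h
  fin_cases i <;> fin_cases j <;> simp [inv3] at h ⊢ <;>
    first
      | exact Q.gI_ne_gJ h
      | exact Q.gI_ne_gJ h.symm
      | exact hIK h
      | exact hIK h.symm
      | exact hJK h
      | exact hJK h.symm

theorem inv3_mem (l : Fin 3) : Q.inv3 l ∈ Q.V := by
  fin_cases l <;> simp [inv3, mem_V]

theorem exists_inv3 {g : G2 F} (hg : g ∈ Q.V) (h1 : g ≠ 1) : ∃ l, Q.inv3 l = g := by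
  rcases hg with rfl | rfl | rfl | rfl
  · exact absurd rfl h1
  · exact ⟨0, rfl⟩
  · exact ⟨1, rfl⟩
  · exact ⟨2, rfl⟩

/-- the normaliser -/
noncomputable abbrev N : Subgroup (G2 F) := Subgroup.normalizer (Q.V : Set (G2 F))

theorem perm_exists (n : Q.N) (l : Fin 3) : ∃ m, Q.inv3 m = (n : G2 F) * Q.inv3 l * (n : G2 F)⁻¹ := by
  refine Q.exists_inv3 ((Subgroup.mem_normalizer_iff.1 n.2 _).1 (Q.inv3_mem l)) fun e => ?_
  rw [conj_eq_one_iff] at e
  fin_cases l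
  · exact gI_ne e
  · exact Q.gJ_ne e
  · exact Q.gK_ne e

noncomputable def permFun (n : Q.N) (l : Fin 3) : Fin 3 := (Q.perm_exists n l).choose

theorem permFun_spec (n : Q.N) (l : Fin 3) : Q.inv3 (Q.permFun n l) = (n : G2 F) * Q.inv3 l * (n : G2 F)⁻¹ :=
  (Q.perm_exists n l).choose_spec

theorem permFun_mul (m n : Q.N) (l : Fin 3) : Q.permFun (m * n) l = Q.permFun m (Q.permFun n l) := by
  apply Q.inv3_injective
  rw [permFun_spec, permFun_spec, permFun_spec, Subgroup.coe_mul]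
  group

theorem permFun_one (l : Fin 3) : Q.permFun 1 l = l := by
  apply Q.inv3_injective
  rw [permFun_spec]
  simp

/-- the action on the three involutions -/
noncomputable def perm3 : Q.N →* Equiv.Perm (Fin 3) :=
  MonoidHom.mk' (fun n => ⟨Q.permFun n, Q.permFun n⁻¹, fun l => by rw [← permFun_mul, inv_mul_cancel, permFun_one],
    fun l => by rw [← permFun_mul, mul_inv_cancel, permFun_one]⟩) fun m n => Equiv.ext fun l => Q.permFun_mul m n l

theorem perm3_apply (n : Q.N) (l : Fin 3) : Q.inv3 (Q.perm3 n l) = (n : G2 F) * Q.inv3 l * (n : G2 F)⁻¹ :=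
  Q.permFun_spec n l

theorem mem_V_of_perm3 {n : Q.N} (h : Q.perm3 n = 1) : (n : G2 F) ∈ Q.V := by
  have key : ∀ l, (n : G2 F) * Q.inv3 l = Q.inv3 l * (n : G2 F) := fun l => by
    have := Q.perm3_apply n l
    rw [h, Equiv.Perm.one_apply, eq_mul_inv_iff_mul_eq] at this
    exact this.symm
  exact Q.mem_V_of_comm (key 0) (key 1)

theorem V_le_N : Q.V ≤ Q.N := Subgroup.le_normalizer

theorem mem_N_of {g : G2 F} (hI : g * gI * g⁻¹ ∈ Q.V) (hJ : g * Q.gJ * g⁻¹ ∈ Q.V) [Finite F] : g ∈ Q.N := by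
  haveI := finite_G2 (F := F)
  have hle : Q.V.map (MulAut.conj g).toMonoidHom ≤ Q.V := by
    rintro _ ⟨v, hv, rfl⟩
    show g * v * g⁻¹ ∈ Q.V
    rcases hv with rfl | rfl | rfl | rfl
    · simp [one_mem]
    · exact hI
    · exact hJ
    · have := mul_mem hI hJ
      rw [conj_mul, Q.IJ] at this
      exact this
  have heq : Q.V.map (MulAut.conj g).toMonoidHom = Q.V := Subgroup.eq_of_le_of_card_ge hle
    (by rw [← Nat.card_congr (Q.V.equivMapOfInjective _ (MulAut.conj g).injective).toEquiv])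
  rw [Subgroup.mem_normalizer_iff]
  intro v
  constructor
  · intro hv
    exact hle ⟨v, hv, rfl⟩
  · intro hv
    have hv' : g * v * g⁻¹ ∈ Q.V.map (MulAut.conj g).toMonoidHom := by rw [heq]; exact hv
    obtain ⟨w, hw, e⟩ := hv'
    rwa [← (MulAut.conj g).injective (show MulAut.conj g w = MulAut.conj g v from e)]

variable [Finite F]

theorem gY_mem_N : Q.gY ∈ Q.N :=
  Q.mem_N_of (by rw [Q.YI, mul_inv_cancel_right]; exact Or.inr (Or.inr (Or.inl rfl)))
    (by rw [Q.YJ, mul_inv_cancel_right]; exact Or.inr (Or.inr (Or.inr rfl)))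

theorem gW_mem_N : gW Q.two ∈ Q.N :=
  Q.mem_N_of (by rw [WI, mul_inv_cancel_right]; exact Or.inr (Or.inl rfl))
    (by rw [Q.WJ, mul_inv_cancel_right]; exact Or.inr (Or.inr (Or.inr rfl)))

theorem perm3_eval (n : Q.N) {l m : Fin 3} (h : (n : G2 F) * Q.inv3 l = Q.inv3 m * (n : G2 F)) : Q.perm3 n l = m := by
  apply Q.inv3_injective
  rw [perm3_apply, h, mul_inv_cancel_right]

theorem perm3_surjective : Function.Surjective Q.perm3 := by
  set y : Q.N := ⟨_, Q.gY_mem_N⟩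
  set w : Q.N := ⟨_, Q.gW_mem_N⟩
  have y0 : Q.perm3 y 0 = 1 := Q.perm3_eval y Q.YI
  have y1 : Q.perm3 y 1 = 2 := Q.perm3_eval y Q.YJ
  have y2 : Q.perm3 y 2 = 0 := by
    by_contra h
    have hne0 : Q.perm3 y 2 ≠ 1 := fun e => absurd ((Q.perm3 y).injective (e.trans y0.symm)) (by decide)
    have hne1 : Q.perm3 y 2 ≠ 2 := fun e => absurd ((Q.perm3 y).injective (e.trans y1.symm)) (by decide)
    revert h hne0 hne1
    generalize Q.perm3 y 2 = t
    decide +revert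
  have w0 : Q.perm3 w 0 = 0 := Q.perm3_eval w (WI Q.two)
  have w1 : Q.perm3 w 1 = 2 := Q.perm3_eval w Q.WJ
  have w2 : Q.perm3 w 2 = 1 := by
    by_contra h
    have hne0 : Q.perm3 w 2 ≠ 0 := fun e => absurd ((Q.perm3 w).injective (e.trans w0.symm)) (by decide)
    have hne1 : Q.perm3 w 2 ≠ 2 := fun e => absurd ((Q.perm3 w).injective (e.trans w1.symm)) (by decide)
    revert h hne0 hne1
    generalize Q.perm3 w 2 = t
    decide +revert
  have ey : Q.perm3 y = Equiv.swap 0 1 * Equiv.swap 1 2 := by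
    ext l; fin_cases l <;> simp [y0, y1, y2, Equiv.swap_apply_def]
  have ew : Q.perm3 w = Equiv.swap 1 2 := by
    ext l; fin_cases l <;> simp [w0, w1, w2, Equiv.swap_apply_def]
  have hall : ∀ σ : Equiv.Perm (Fin 3), σ ∈ ({1, Equiv.swap 0 1 * Equiv.swap 1 2,
      (Equiv.swap 0 1 * Equiv.swap 1 2) * (Equiv.swap 0 1 * Equiv.swap 1 2), Equiv.swap 1 2,
      Equiv.swap 0 1 * Equiv.swap 1 2 * Equiv.swap 1 2,
      (Equiv.swap 0 1 * Equiv.swap 1 2) * (Equiv.swap 0 1 * Equiv.swap 1 2) * Equiv.swap 1 2} :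
      Finset (Equiv.Perm (Fin 3))) := by decide +kernel
  intro σ
  have := hall σ
  simp only [Finset.mem_insert, Finset.mem_singleton] at this
  rcases this with rfl | rfl | rfl | rfl | rfl | rfl
  · exact ⟨1, map_one _⟩
  · exact ⟨y, ey⟩
  · exact ⟨y * y, by rw [map_mul, ey]⟩
  · exact ⟨w, ew⟩
  · exact ⟨y * w, by rw [map_mul, ey, ew]⟩
  · exact ⟨y * y * w, by rw [map_mul, map_mul, ey, ew]⟩

theorem ker_perm3 : Q.perm3.ker = Q.V.subgroupOf Q.N := by
  ext n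
  rw [MonoidHom.mem_ker, Subgroup.mem_subgroupOf]
  refine ⟨Q.mem_V_of_perm3, fun hn => Equiv.ext fun l => Q.perm3_eval n ?_⟩
  have hcomm : ∀ u v, u ∈ Q.V → v ∈ Q.V → u * v = v * u := by
    have hIK : gI * Q.gK = Q.gJ := by rw [← Q.IJ, ← mul_assoc, II, one_mul]
    have hKI : Q.gK * gI = Q.gJ := by rw [← Q.JI, mul_assoc, II, mul_one]
    have hJK : Q.gJ * Q.gK = gI := by rw [← Q.JI, ← mul_assoc, Q.JJ, one_mul]
    have hKJ : Q.gK * Q.gJ = gI := by rw [← Q.IJ, mul_assoc, Q.JJ, mul_one]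
    rintro u v (rfl | rfl | rfl | rfl) (rfl | rfl | rfl | rfl) <;> simp [Q.IJ, Q.JI, hIK, hKI, hJK, hKJ]
  exact hcomm _ _ hn (Q.inv3_mem l)

theorem card_N : Nat.card Q.N = 24 := by
  haveI := finite_G2 (F := F)
  have h := Q.perm3.ker.card_mul_index
  rw [Subgroup.index_ker, MonoidHom.range_eq_top.2 Q.perm3_surjective, Subgroup.card_top, Q.ker_perm3,
    Nat.card_congr (Subgroup.subgroupOfEquivOfLe Q.V_le_N).toEquiv, card_V, Nat.card_perm, Nat.card_fin] at h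
  rw [← h]
  rfl

theorem exists_y : ∃ t : Q.N, orderOf t = 3 ∧ (t : G2 F) ∈ psl F ∧ Q.perm3 t ≠ 1 := by
  haveI := finite_G2 (F := F)
  set y : Q.N := ⟨_, Q.gY_mem_N⟩
  have y0 : Q.perm3 y 0 = 1 := Q.perm3_eval y Q.YI
  have hy : Q.perm3 y ≠ 1 := fun e => by rw [e, Equiv.Perm.one_apply] at y0; exact absurd y0 (by decide)
  have y1 : Q.perm3 y 1 = 2 := Q.perm3_eval y Q.YJ
  have hperm : ∀ σ : Equiv.Perm (Fin 3), σ 0 = 1 → σ 1 = 2 → σ ^ 4 ≠ 1 := by decide +kernel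
  -- the fourth power has order dividing three
  have h12 : orderOf y ∣ 24 := Q.card_N ▸ orderOf_dvd_natCard y
  have h3 : 3 ∣ orderOf y := by
    by_contra hn
    have h8 : orderOf y ∣ 8 := Nat.Coprime.dvd_of_dvd_mul_left
      ((Nat.Prime.coprime_iff_not_dvd Nat.prime_three).2 hn).symm (show orderOf y ∣ 3 * 8 from h12)
    have e : Q.perm3 y ^ 8 = 1 := by rw [← map_pow, orderOf_dvd_iff_pow_eq_one.1 h8, map_one]
    have hperm8 : ∀ σ : Equiv.Perm (Fin 3), σ 0 = 1 → σ 1 = 2 → σ ^ 8 ≠ 1 := by decide +kernel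
    exact hperm8 _ y0 y1 e
  obtain ⟨c, hc⟩ := h3
  have hc0 : c ≠ 0 := fun e => (orderOf_pos y).ne' (by rw [hc, e])
  refine ⟨y ^ c, ?_, ?_, ?_⟩
  · rw [orderOf_pow, hc, Nat.gcd_eq_right (dvd_mul_left c 3), Nat.mul_div_cancel _ (Nat.pos_of_ne_zero hc0)]
  · rw [SubgroupClass.coe_pow]; exact pow_mem Q.gY_mem c
  · rw [map_pow]
    intro e
    have hc8 : c ∣ 8 := Nat.dvd_of_mul_dvd_mul_left (by norm_num : 0 < 3) (show 3 * c ∣ 3 * 8 from hc ▸ h12)
    have hperm8 : ∀ σ : Equiv.Perm (Fin 3), σ 0 = 1 → σ 1 = 2 → σ ^ 8 ≠ 1 := by decide +kernel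
    obtain ⟨d, hd⟩ := hc8
    exact hperm8 _ y0 y1 (by rw [hd, pow_mul, e, one_pow])

theorem no_six (g : Q.N) : orderOf g ≠ 6 := by
  haveI := finite_G2 (F := F)
  intro h
  have h3 : orderOf (g ^ 2) = 3 := by rw [orderOf_pow, h]; rfl
  have h2 : orderOf (g ^ 3) = 2 := by rw [orderOf_pow, h]; rfl
  have hperm1 : ∀ σ τ : Equiv.Perm (Fin 3), (σ ^ 3 = 1 ∧ σ ≠ 1 ∧ τ ^ 2 = 1 ∧ σ * τ = τ * σ) → τ = 1 := by
    decide +kernel
  have hperm2 : ∀ σ : Equiv.Perm (Fin 3), σ ^ 3 = 1 → σ ≠ 1 → ∀ l : Fin 3, σ l ≠ l := by decide +kernel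
  have hσ1 : Q.perm3 (g ^ 2) ≠ 1 := fun e => by
    have hm := Q.mem_V_of_perm3 e
    have hd : orderOf (⟨_, hm⟩ : Q.V) ∣ 4 := Q.card_V ▸ orderOf_dvd_natCard _
    rw [Subgroup.orderOf_mk, Subgroup.orderOf_coe, h3] at hd
    norm_num at hd
  have hfix := hperm2 (Q.perm3 (g ^ 2))
    (by rw [← map_pow, ← pow_mul, show g ^ (2 * 3) = 1 from by simpa [h] using pow_orderOf_eq_one g, map_one]) hσ1
  have hτ := hperm1 (Q.perm3 (g ^ 2)) (Q.perm3 (g ^ 3))
    ⟨(by rw [← map_pow, ← pow_mul, show g ^ (2 * 3) = 1 from by simpa [h] using pow_orderOf_eq_one g, map_one]), hσ1,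
    (by rw [← map_pow, ← pow_mul, show g ^ (3 * 2) = 1 from by simpa [h] using pow_orderOf_eq_one g, map_one]),
    (by rw [← map_mul, ← map_mul, ← pow_add, ← pow_add])⟩
  have hne : ((g ^ 3 : Q.N) : G2 F) ≠ 1 := fun e => by
    rw [Subtype.ext e (a2 := (1 : Q.N)), orderOf_one] at h2; omega
  obtain ⟨l, hl⟩ := Q.exists_inv3 (Q.mem_V_of_perm3 hτ) hne
  refine hfix l (Q.perm3_eval _ ?_)
  rw [hl, ← Subgroup.coe_mul, ← Subgroup.coe_mul, ← pow_add, ← pow_add]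

theorem N_s4 : Nonempty (Q.N ≃* Equiv.Perm (Fin 4)) := by
  haveI := finite_G2 (F := F)
  obtain ⟨t, ht, -, htp⟩ := Q.exists_y
  refine mulEquiv_s4 Q.card_N (T := Subgroup.zpowers t) (by rw [Nat.card_zpowers, ht]) (fun hn => ?_) Q.no_six
  -- the involutions would centralise `t`
  apply htp
  ext l : 1
  refine Q.perm3_eval t ?_
  set v : Q.N := ⟨Q.inv3 l, Q.V_le_N (Q.inv3_mem l)⟩
  have h1 : v * t * v⁻¹ * t⁻¹ ∈ Subgroup.zpowers t :=
    mul_mem (hn.conj_mem t (Subgroup.mem_zpowers t) v) (inv_mem (Subgroup.mem_zpowers t))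
  have hv : Q.perm3 v = 1 := (MonoidHom.mem_ker).1 (by rw [Q.ker_perm3]; exact Q.inv3_mem l)
  have h2 : Q.perm3 (v * t * v⁻¹ * t⁻¹) = 1 := by
    rw [map_mul, map_mul, map_mul, map_inv, map_inv, hv]; simp
  have h3 : v * t * v⁻¹ * t⁻¹ = 1 := by
    obtain ⟨k, hk⟩ := h1
    rw [← hk] at h2 ⊢
    show t ^ k = 1
    rw [← orderOf_dvd_iff_zpow_eq_one, ht]
    have h2' : Q.perm3 t ^ k = 1 := by rw [← map_zpow]; exact h2
    rw [← orderOf_dvd_iff_zpow_eq_one] at h2'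
    rwa [orderOf_eq_prime (p := 3) (by rw [← map_pow, show t ^ 3 = 1 from by simpa [ht] using pow_orderOf_eq_one t, map_one]) htp] at h2'
  have h4 : v * t = t * v := by
    rw [mul_inv_eq_one, mul_inv_eq_iff_eq_mul] at h3
    exact h3
  exact (congrArg Subtype.val h4).symm

theorem N_inf_psl_of_sq (h : IsSquare (2 : F)) : Q.N ≤ psl F := by
  intro g hg
  set n : Q.N := ⟨g, hg⟩
  set y : Q.N := ⟨_, Q.gY_mem_N⟩
  set w : Q.N := ⟨_, Q.gW_mem_N⟩
  have hker : ∀ m : Q.N, Q.perm3 m = 1 → (m : G2 F) ∈ psl F := fun m hm => Q.V_le_psl (Q.mem_V_of_perm3 hm)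
  have y0 : Q.perm3 y 0 = 1 := Q.perm3_eval y Q.YI
  have y1 : Q.perm3 y 1 = 2 := Q.perm3_eval y Q.YJ
  have w0 : Q.perm3 w 0 = 0 := Q.perm3_eval w (WI Q.two)
  have w1 : Q.perm3 w 1 = 2 := Q.perm3_eval w Q.WJ
  have hcases : ∀ σ s t : Equiv.Perm (Fin 3), s 0 = 1 → s 1 = 2 → t 0 = 0 → t 1 = 2 →
      σ = 1 ∨ σ = s ∨ σ = s * s ∨ σ = t ∨ σ = s * t ∨ σ = s * s * t := by decide +kernel
  have hy : (y : G2 F) ∈ psl F := Q.gY_mem
  have hw : (w : G2 F) ∈ psl F := (gW_mem_iff Q.two).2 h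
  have fin : ∀ m : Q.N, (m : G2 F) ∈ psl F → Q.perm3 n = Q.perm3 m → g ∈ psl F := by
    intro m hm e
    have := hker (n * m⁻¹) (by rw [map_mul, map_inv, e, mul_inv_cancel])
    exact (Subgroup.mul_mem_cancel_right _ (inv_mem hm)).1 this
  rcases hcases (Q.perm3 n) _ _ y0 y1 w0 w1 with e | e | e | e | e | e
  · exact hker n e
  · exact fin y hy e
  · exact fin (y * y) (mul_mem hy hy) (by rw [e, map_mul])
  · exact fin w hw e
  · exact fin (y * w) (mul_mem hy hw) (by rw [e, map_mul])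
  · exact fin (y * y * w) (mul_mem (mul_mem hy hy) hw) (by rw [e, map_mul, map_mul])

theorem card_N_psl (h : ¬ IsSquare (2 : F)) : Nat.card (Q.N ⊓ psl F : Subgroup (G2 F)) = 12 := by
  haveI := finite_G2 (F := F)
  have ho : Odd (Nat.card F) := by
    rcases Nat.even_or_odd (Nat.card F) with he | ho
    · exfalso
      have : gW Q.two ∈ psl F := by rw [psl_eq_top he]; exact Subgroup.mem_top _
      exact h ((gW_mem_iff Q.two).1 this)
    · exact ho
  have hidx : ((psl F).subgroupOf Q.N).index = 2 := by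
    rw [Subgroup.index_eq_two_iff]
    refine ⟨⟨_, Q.gW_mem_N⟩, fun g => ?_⟩
    have hw : gW Q.two ∉ psl F := fun e => h ((gW_mem_iff Q.two).1 e)
    by_cases hg : (g : G2 F) ∈ psl F
    · exact Or.inr ⟨hg, fun e => hw ((Subgroup.mul_mem_cancel_left _ hg).1 e)⟩
    · exact Or.inl ⟨(mul_mem_psl_iff ho).2 ⟨fun e => absurd e hg, fun e => absurd e hw⟩, hg⟩
  have := ((psl F).subgroupOf Q.N).card_mul_index
  rw [hidx, ← Subgroup.inf_subgroupOf_right, inf_comm,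
    Nat.card_congr (Subgroup.subgroupOfEquivOfLe inf_le_left).toEquiv, Q.card_N] at this
  omega

theorem N_psl_a4 (h : ¬ IsSquare (2 : F)) : Nonempty ((Q.N ⊓ psl F : Subgroup (G2 F)) ≃* alternatingGroup (Fin 4)) := by
  haveI := finite_G2 (F := F)
  obtain ⟨t, ht, htp, htne⟩ := Q.exists_y
  set A := Q.N ⊓ psl F
  set t' : A := ⟨(t : G2 F), t.2, htp⟩
  have ho : orderOf t' = 3 := by rw [← Subgroup.orderOf_coe, ← ht, ← Subgroup.orderOf_coe t]
  refine mulEquiv_a4 (Q.card_N_psl h) (T := Subgroup.zpowers t') (by rw [Nat.card_zpowers, ho]) fun hn => htne ?_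
  ext l : 1
  refine Q.perm3_eval t ?_
  set v : A := ⟨Q.inv3 l, Q.V_le_N (Q.inv3_mem l), Q.V_le_psl (Q.inv3_mem l)⟩
  have h1 : v * t' * v⁻¹ * t'⁻¹ ∈ Subgroup.zpowers t' :=
    mul_mem (hn.conj_mem t' (Subgroup.mem_zpowers t') v) (inv_mem (Subgroup.mem_zpowers t'))
  let ι : A →* Q.N := Subgroup.inclusion inf_le_left
  have hv : Q.perm3 (ι v) = 1 := (MonoidHom.mem_ker).1 (by rw [Q.ker_perm3]; exact Q.inv3_mem l)
  have h2 : Q.perm3 (ι (v * t' * v⁻¹ * t'⁻¹)) = 1 := by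
    rw [map_mul, map_mul, map_mul, map_mul, map_mul, map_mul, map_inv, map_inv, map_inv, map_inv, hv]; simp
  have h3 : v * t' * v⁻¹ * t'⁻¹ = 1 := by
    obtain ⟨k, hk⟩ := h1
    rw [← hk] at h2 ⊢
    show t' ^ k = 1
    rw [← orderOf_dvd_iff_zpow_eq_one, ho]
    have h2' : Q.perm3 t ^ k = 1 := by rw [← map_zpow]; rw [map_zpow] at h2; exact h2
    rw [← orderOf_dvd_iff_zpow_eq_one] at h2'
    rwa [orderOf_eq_prime (p := 3) (by rw [← map_pow, show t ^ 3 = 1 from by simpa [ht] using pow_orderOf_eq_one t, map_one]) htne] at h2'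
  have h4 : v * t' = t' * v := by
    rw [mul_inv_eq_one, mul_inv_eq_iff_eq_mul] at h3
    exact h3
  exact (congrArg Subtype.val h4).symm

end QPar

theorem exists_qpar [Finite F] (h2 : (2 : F) ≠ 0) : Nonempty (QPar F) := by
  obtain ⟨x, y, h⟩ := exists_sq_add h2 one_ne_zero one_ne_zero (-1 : F)
  exact ⟨⟨x, y, h2, by linear_combination h⟩⟩

end CfsgLib.Perm.Dickson
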