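import Cfsg.Agent.Lib.Perm.Dickson.IcosaConj
import Cfsg.Agent.Lib.Perm.Dickson.Minimal

/-!
# Tools for the list of maximal subgroups of PSL(2, q)
-/

set_option autoImplicit false
set_option linter.all false

namespace CfsgLib.Perm.Dickson

open Matrix

/-- a Sylow subgroup cannot be maximal when a larger proper subgroup has a multiple order -/
theorem not_coatom_sylow {G : Type*} [Group G] [Finite G] {M E : Subgroup G} (hM : IsCoatom M) {l a : ℕ}
    [Fact l.Prime] (hc : Nat.card M = l ^ a) (hn : ¬ l ^ (a + 1) ∣ Nat.card G) (hE : E ≠ ⊤)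
    (hd : l ^ a ∣ Nat.card E) (hne : Nat.card E ≠ l ^ a) : False := by
  obtain ⟨P, hP⟩ := Sylow.exists_subgroup_card_pow_prime l hd
  have hfac : ∀ K : Subgroup G, Nat.card K = l ^ a → IsPGroup l K ∧ ¬ l ∣ K.index := fun K hK =>
    ⟨IsPGroup.of_card hK, fun h => hn (by
      rw [pow_succ, ← K.card_mul_index, hK]; exact Nat.mul_dvd_mul_left _ h)⟩
  have hPm : Nat.card (P.map E.subtype) = l ^ a := by
    rw [← Nat.card_congr (P.equivMapOfInjective _ Subtype.val_injective).toEquiv, hP]
  let S := (hfac M hc).1.toSylow (hfac M hc).2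
  let T := (hfac _ hPm).1.toSylow (hfac _ hPm).2
  obtain ⟨g, hg⟩ := MulAction.exists_smul_eq G T S
  have hle : M ≤ E.map (MulAut.conj g).toMonoidHom := by
    have e : M = (P.map E.subtype).map (MulAut.conj g).toMonoidHom := by
      have := congrArg (fun R : Sylow l G => (R : Subgroup G)) hg
      simp only [Sylow.coe_subgroup_smul] at this
      exact this.symm
    rw [e]
    exact Subgroup.map_mono (fun x hx => by obtain ⟨y, -, rfl⟩ := hx; exact y.2)
  have hcard : Nat.card (E.map (MulAut.conj g).toMonoidHom) = Nat.card E :=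
    (Nat.card_congr (E.equivMapOfInjective _ (MulAut.conj g).injective).toEquiv).symm
  rcases hle.lt_or_eq with h | h
  · exact hE (Subgroup.map_injective (f := (MulAut.conj g).toMonoidHom) (MulAut.conj g).injective ((hM.2 _ h).trans
      (Subgroup.map_top_of_surjective _ (MulAut.conj g).surjective).symm))
  · exact hne (by rw [← hcard, ← h, hc])

/-- a subgroup of order twice a prime cannot be maximal in the presence of a suitable larger subgroup -/
theorem not_coatom_dihedral {G : Type*} [Group G] [Finite G] [IsSimpleGroup G] {M E : Subgroup G} (hM : IsCoatom M)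
    {k : ℕ} [Fact k.Prime] (hk2 : k ≠ 2) (hc : Nat.card M = 2 * k) (hn : ¬ k * k ∣ Nat.card G) (hE : E ≠ ⊤)
    (hd : k ∣ Nat.card E) (hne : Nat.card E ≠ 2 * k) (hmod : Nat.card E / k % k ≠ 1) : False := by
  have hkp : k.Prime := Fact.out
  obtain ⟨x, hx⟩ := exists_prime_orderOf_dvd_card' (G := M) k (hc ▸ dvd_mul_left k 2)
  obtain ⟨y, hy⟩ := exists_prime_orderOf_dvd_card' (G := E) k hd
  have hzc : ∀ g : G, orderOf g = k → IsPGroup k (Subgroup.zpowers g) ∧ ¬ k ∣ (Subgroup.zpowers g).index := fun g hg =>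
    ⟨IsPGroup.of_card (n := 1) (by rw [Nat.card_zpowers, hg, pow_one]), fun h => hn (by
      rw [← (Subgroup.zpowers g).card_mul_index, Nat.card_zpowers, hg]; exact Nat.mul_dvd_mul_left _ h)⟩
  have hxk : orderOf (x : G) = k := by rw [Subgroup.orderOf_coe, hx]
  have hyk : orderOf (y : G) = k := by rw [Subgroup.orderOf_coe, hy]
  set C := Subgroup.zpowers (x : G) with hC
  have hCc : Nat.card C = k := by rw [hC, Nat.card_zpowers, hxk]
  let S : Sylow k G := (hzc _ hxk).1.toSylow (hzc _ hxk).2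
  let T : Sylow k G := (hzc _ hyk).1.toSylow (hzc _ hyk).2
  obtain ⟨g, hg⟩ := MulAction.exists_smul_eq G T S
  set E' := E.map (MulAut.conj g).toMonoidHom with hE'
  have hCE : C ≤ E' := by
    have e : C = (Subgroup.zpowers (y : G)).map (MulAut.conj g).toMonoidHom := by
      have := congrArg (fun R : Sylow k G => (R : Subgroup G)) hg
      simp only [Sylow.coe_subgroup_smul] at this
      exact this.symm
    rw [e]
    exact Subgroup.map_mono (Subgroup.zpowers_le.2 y.2)
  have hCM : C ≤ M := Subgroup.zpowers_le.2 x.2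
  have hidx : (C.subgroupOf M).index = 2 := by
    have := (C.subgroupOf M).card_mul_index
    rw [Nat.card_congr (Subgroup.subgroupOfEquivOfLe hCM).toEquiv, hCc, hc, mul_comm 2 k] at this
    exact Nat.eq_of_mul_eq_mul_left hkp.pos this
  haveI := Subgroup.normal_of_index_eq_two hidx
  have hMN : M ≤ Subgroup.normalizer (C : Set G) := (Subgroup.normal_subgroupOf_iff_le_normalizer hCM).1 this
  have hNM : Subgroup.normalizer (C : Set G) = M := by
    rcases hMN.lt_or_eq with h | h
    · exfalso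
      haveI := Subgroup.normalizer_eq_top_iff.1 (hM.2 _ h)
      rcases IsSimpleGroup.eq_bot_or_eq_top_of_normal C inferInstance with e | e
      · rw [e, Subgroup.card_bot] at hCc
        exact hkp.one_lt.ne hCc
      · exact hM.1 (eq_top_iff.2 (e ▸ hCM))
    · exact h.symm
  have hE'c : Nat.card E' = Nat.card E :=
    (Nat.card_congr (E.equivMapOfInjective _ (MulAut.conj g).injective).toEquiv).symm
  have hE't : E' ≠ ⊤ := fun e => hE (Subgroup.map_injective (f := (MulAut.conj g).toMonoidHom) (MulAut.conj g).injective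
    (e.trans (Subgroup.map_top_of_surjective _ (MulAut.conj g).surjective).symm))
  have hI1 : C ≤ M ⊓ E' := le_inf hCM hCE
  have hd1 := Subgroup.card_dvd_of_le hI1
  have hd2 := Subgroup.card_dvd_of_le (inf_le_left : M ⊓ E' ≤ M)
  rw [hCc] at hd1
  rw [hc] at hd2
  obtain ⟨j, hj⟩ := hd1
  rw [hj] at hd2
  have hj2 : j ∣ 2 := Nat.dvd_of_mul_dvd_mul_left hkp.pos (by rwa [mul_comm 2 k] at hd2)
  rcases (Nat.dvd_prime Nat.prime_two).1 hj2 with rfl | rfl
  · -- C is its own normaliser in E'
    have hself : M ⊓ E' = C := (Subgroup.eq_of_le_of_card_ge hI1 (by rw [hj, hCc, mul_one])).symm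
    have hns : Subgroup.normalizer ((C.subgroupOf E' : Subgroup E') : Set E') = C.subgroupOf E' := by
      refine le_antisymm (fun z hz => ?_) Subgroup.le_normalizer
      show (z : G) ∈ C
      rw [← hself]
      refine ⟨?_, z.2⟩
      show (z : G) ∈ M
      rw [← hNM, Subgroup.mem_normalizer_iff]
      intro w
      constructor
      · intro hw
        exact ((Subgroup.mem_normalizer_iff.1 hz ⟨w, hCE hw⟩).1 hw :)
      · intro hw
        have hwE : w ∈ E' := by
          have := mul_mem (mul_mem (inv_mem z.2) (hCE hw)) z.2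
          simpa [mul_assoc] using this
        exact ((Subgroup.mem_normalizer_iff.1 hz ⟨w, hwE⟩).2 hw :)
    have hsc : Nat.card (C.subgroupOf E') = k := by
      rw [Nat.card_congr (Subgroup.subgroupOfEquivOfLe hCE).toEquiv, hCc]
    have hi : ¬ k ∣ (C.subgroupOf E').index := fun h => hn (by
      refine dvd_trans ?_ (Subgroup.card_subgroup_dvd_card E')
      rw [← (C.subgroupOf E').card_mul_index, hsc]
      exact Nat.mul_dvd_mul_left _ h)
    let U : Sylow k E' := (IsPGroup.of_card (n := 1) (by rw [hsc, pow_one]) : IsPGroup k (C.subgroupOf E')).toSylow hi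
    have h1 := card_sylow_modEq_one k E'
    rw [U.card_eq_index_normalizer] at h1
    have h2 : (Subgroup.normalizer (U : Set E')).index = Nat.card E / k := by
      show (Subgroup.normalizer ((C.subgroupOf E' : Subgroup E') : Set E')).index = _
      rw [hns]
      have := (C.subgroupOf E').card_mul_index
      rw [hsc, hE'c] at this
      rw [← this, Nat.mul_div_cancel_left _ hkp.pos]
    rw [h2, Nat.ModEq, Nat.mod_eq_of_lt hkp.one_lt] at h1
    exact hmod h1
  · have hle : M ≤ E' := by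
      rw [← Subgroup.eq_of_le_of_card_ge (inf_le_left : M ⊓ E' ≤ M) (by rw [hj, hc, mul_comm])]
      exact inf_le_right
    rcases hle.lt_or_eq with h | h
    · exact hE't (hM.2 _ h)
    · exact hne (by rw [← hE'c, ← h, hc])

variable {F : Type*} [Field F]

theorem up_lt_of_ne_top {H : Subgroup (S2P F)} (h : H ≠ ⊤) : up H < psl F :=
  lt_of_le_of_ne (up_le H) fun e => h (up_injective (e.trans up_top.symm))

theorem coatom_up {M : Subgroup (S2P F)} (hM : IsCoatom M) {H : Subgroup (G2 F)} (hle : up M ≤ H) (hlt : H < psl F) :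
    H = up M := by
  rw [← up_down hlt.le] at hle ⊢
  rcases (up_le_iff.1 hle).lt_or_eq with h | h
  · exact absurd (by rw [← up_down hlt.le, hM.2 _ h, up_top]) hlt.ne
  · rw [h]

variable [Finite F]

/-- a maximal subgroup has no larger proper overgroup up to conjugacy -/
theorem coatom_card_eq {M : Subgroup (S2P F)} (hM : IsCoatom M) {σ : G2 F} {E : Subgroup (G2 F)}
    (hle : conjG σ (up M) ≤ E) (hlt : E < psl F) : Nat.card E = Nat.card M := by
  have h1 : conjG σ⁻¹ E < psl F := by
    refine lt_of_le_of_ne ((Subgroup.map_mono hlt.le).trans (conjG_psl _).le) fun e => hlt.ne ?_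
    rw [← conjG_one E, ← mul_inv_cancel σ, conjG_mul, e, conjG_psl]
  have h2 : up M ≤ conjG σ⁻¹ E := by
    rw [← conjG_one (up M), ← inv_mul_cancel σ, conjG_mul]
    exact Subgroup.map_mono hle
  rw [← card_up M, ← coatom_up hM h2 h1, card_conjG]

theorem coatom_borel {M : Subgroup (S2P F)} (hM : IsCoatom M) {x : P2 F} (hx : ∀ g ∈ up M, g • x = x) :
    Nat.gcd 2 (Nat.card F - 1) * Nat.card M = Nat.card F * (Nat.card F - 1) := by
  haveI := finite_G2 (F := F)
  have hlt : bor x ⊓ psl F < psl F := by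
    refine lt_of_le_of_ne inf_le_right fun e => ?_
    have h1 := card_bor_psl x
    rw [e, card_psl] at h1
    have h2 := card_pos_lt (F := F)
    have : (Nat.card F - 1) * (Nat.card F + 1) = (Nat.card F - 1) := Nat.eq_of_mul_eq_mul_left (by omega) h1
    have := Nat.mul_le_mul_left (Nat.card F - 1) (show 2 ≤ Nat.card F + 1 by omega)
    omega
  rw [← card_up M, ← coatom_up hM (le_inf (le_bor hx) (up_le M)) hlt]
  exact card_bor_psl x

theorem coatom_torus (h4 : 4 ≤ Nat.card F) {M : Subgroup (S2P F)} (hM : IsCoatom M) {a b : P2 (Kc F)}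
    (hg : GoodPair a b) (h : up M ≤ pairSet a b) :
    ∃ k, (Nat.gcd 2 (Nat.card F - 1) * k = Nat.card F - 1 ∨ Nat.gcd 2 (Nat.card F - 1) * k = Nat.card F + 1) ∧
      Nat.card M = 2 * k ∧ Nonempty (M ≃* DihedralGroup k) := by
  haveI := finite_G2 (F := F)
  obtain ⟨w, hwp, hws, hwn⟩ := exists_swap hg
  set D := pairSet a b ⊓ psl F with hD
  have hn : ¬ D ≤ pairFix a b := fun h => hwn (h ⟨hws, hwp⟩)
  obtain ⟨hcard, hiso⟩ := dihedral_of_le hg.1 (isCyclic_pairFix hg.1) (inf_le_left : D ≤ pairSet a b) hn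
  have hDC : D ⊓ pairFix a b = pairFix a b ⊓ psl F := by
    refine le_antisymm (fun g hg' => ⟨hg'.2, hg'.1.2⟩) fun g hg' => ⟨⟨pairFix_le_pairSet a b hg'.1, hg'.2⟩, hg'.1⟩
  rw [hDC] at hcard hiso
  set k := Nat.card (pairFix a b ⊓ psl F : Subgroup (G2 F)) with hk
  have hk' : Nat.gcd 2 (Nat.card F - 1) * k = Nat.card F - 1 ∨ Nat.gcd 2 (Nat.card F - 1) * k = Nat.card F + 1 := by
    rw [hk, card_pairFix_psl hg]
    rcases card_pairFix hg with ⟨-, e⟩ | ⟨-, e⟩
    · exact Or.inl e
    · exact Or.inr e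
  have hlt : D < psl F := by
    refine lt_of_le_of_ne inf_le_right fun e => ?_
    have h1 := card_psl F
    rw [← e, hcard, mul_left_comm] at h1
    have h2 := Nat.mul_le_mul h4 (Nat.mul_le_mul_right (Nat.card F + 1) (show 3 ≤ Nat.card F - 1 by omega))
    omega
  have e := coatom_up hM (le_inf h (up_le M)) hlt
  refine ⟨k, hk', ?_, ?_⟩
  · rw [← card_up M, ← e]; exact hcard
  · obtain ⟨f⟩ := hiso
    exact ⟨(upEquiv M).trans ((MulEquiv.subgroupCongr e.symm).trans f)⟩

/-- the subfield groups are small -/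
theorem pglSub_inf_lt {F1 : Subfield F} (h : Nat.card F1 ≠ Nat.card F) : pglSub F1 ⊓ psl F < psl F := by
  haveI := finite_G2 (F := F)
  refine lt_of_le_of_ne inf_le_right fun e => ?_
  have h1 : Nat.card (psl F) ≤ Nat.card (pglSub F1) :=
    Nat.card_le_card_of_injective _ (Subgroup.inclusion_injective (e ▸ inf_le_left))
  rw [card_pglSub] at h1
  have h2 := card_psl F
  have h3 := subfield_card_sq_le h
  have h4 := two_le_card_subfield F1
  have hd := Nat.le_of_dvd (by norm_num) (Nat.gcd_dvd_left 2 (Nat.card F - 1))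
  obtain ⟨c, hc⟩ : ∃ c, Nat.card F1 = c + 1 := ⟨Nat.card F1 - 1, by omega⟩
  rw [hc, Nat.add_sub_cancel] at h1
  rw [hc] at h3 h4
  have h5 : (c + 1) * (c + 1) * ((c + 1) * (c + 1) - 1) ≤ Nat.card F * (Nat.card F - 1) := Nat.mul_le_mul h3 (by omega)
  have h6 : (c + 1) * (c + 1) - 1 = c * (c + 2) := by
    rw [show (c + 1) * (c + 1) = c * (c + 2) + 1 by ring, Nat.add_sub_cancel]
  rw [h6] at h5
  have h7 : Nat.card F * ((Nat.card F - 1) * (Nat.card F + 1)) ≤ 2 * ((c + 1) * c * (c + 2)) :=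
    h2 ▸ Nat.mul_le_mul hd h1
  have h8 : (c + 1) * ((c + 1) * c * (c + 2)) * 5 ≤ 2 * ((c + 1) * c * (c + 2)) := by
    refine le_trans ?_ h7
    rw [← mul_assoc (Nat.card F)]
    refine Nat.mul_le_mul (le_trans (le_of_eq (by ring)) h5) ?_
    have := Nat.mul_le_mul (show 2 ≤ c + 1 by omega) (show 2 ≤ c + 1 by omega)
    omega
  have h9 : (c + 1) * 5 ≤ 2 := by
    have hp0 : 0 < (c + 1) * c * (c + 2) := Nat.mul_pos (Nat.mul_pos (by omega) (by omega)) (by omega)
    refine Nat.le_of_mul_le_mul_left ?_ hp0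
    calc _ = (c + 1) * ((c + 1) * c * (c + 2)) * 5 := by ring
      _ ≤ 2 * ((c + 1) * c * (c + 2)) := h8
      _ = _ := by ring
  omega

theorem card_pglSub_inf_ge (F1 : Subfield F) :
    Nat.card F1 * (Nat.card F1 - 1) * (Nat.card F1 + 1) ≤ 2 * Nat.card (pglSub F1 ⊓ psl F : Subgroup (G2 F)) := by
  haveI := finite_G2 (F := F)
  exact (card_pslSub_ge F1).trans (Nat.mul_le_mul_left _ (Nat.card_le_card_of_injective _
    (Subgroup.inclusion_injective (le_inf (pslSub_le_pglSub F1) (pslSub_le_psl F1)))))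

variable (p : ℕ) [Fact p.Prime] [CharP F p]
include p

theorem charP_subfield (F1 : Subfield F) : CharP F1 p := (RingHom.charP_iff_charP F1.subtype p).2 inferInstance

theorem exists_subfield_of_dvd {n k : ℕ} (hn : Nat.card F = p ^ n) (hk : 1 ≤ k) (h : k ∣ n) (hn0 : n ≠ 0) :
    ∃ F1 : Subfield F, Nat.card F1 = p ^ k ∧ Nonempty (F1 ≃+* GaloisField p k) := by
  obtain ⟨m, rfl⟩ := h
  have hm : 1 ≤ m := Nat.pos_of_ne_zero fun e => hn0 (by rw [e, mul_zero])
  haveI : Finite (GaloisField p k) := Module.finite_of_finite (ZMod p)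
  obtain ⟨F1, ⟨e⟩⟩ := exists_subfield_ringEquiv (F := F) (K := GaloisField p k) p hm
    (by rw [GaloisField.card p k (by omega), ← pow_mul, hn])
  exact ⟨F1, by rw [Nat.card_congr e.toEquiv, GaloisField.card p k (by omega)], ⟨e⟩⟩

/-- the field of a maximal subfield subgroup has prime codegree -/
theorem coatom_subfield {M : Subgroup (S2P F)} (hM : IsCoatom M) {σ : G2 F} {F1 : Subfield F}
    (h3 : 3 ≤ Nat.card F1) (hne : Nat.card F1 ≠ Nat.card F) (h : conjG σ (up M) ≤ pglSub F1) :
    ∃ r, r.Prime ∧ Nat.card F = Nat.card F1 ^ r ∧ conjG σ (up M) = pglSub F1 ⊓ psl F ∧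
      ∃ i, Nonempty (F1 ≃+* GaloisField p i) := by
  haveI := finite_G2 (F := F)
  have hle : conjG σ (up M) ≤ pglSub F1 ⊓ psl F :=
    le_inf h ((Subgroup.map_mono (up_le M)).trans (conjG_psl σ).le)
  have hc := coatom_card_eq hM hle (pglSub_inf_lt hne)
  have heq : conjG σ (up M) = pglSub F1 ⊓ psl F :=
    Subgroup.eq_of_le_of_card_ge hle (by rw [hc, card_conjG, card_up])
  obtain ⟨n, hn, hq⟩ := card_eq_pow (F := F) p
  obtain ⟨m, hm, hpow⟩ := exists_card_pow F1
  obtain ⟨i, -, hFi⟩ := (Nat.dvd_prime_pow Fact.out).1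
    (hq ▸ hpow ▸ dvd_pow_self (Nat.card F1) (by omega : m ≠ 0) : Nat.card F1 ∣ p ^ n)
  have hi0 : i ≠ 0 := by rintro rfl; rw [pow_zero] at hFi; omega
  have him : i * m = n := Nat.pow_right_injective (Fact.out : p.Prime).two_le
    (show p ^ (i * m) = p ^ n by rw [pow_mul, ← hFi, hpow, hq])
  have hmp : m.Prime := by
    by_contra hmp
    have hm2 : 2 ≤ m := by
      by_contra hlt
      obtain rfl : m = 1 := by omega
      exact hne (by rw [← hpow, pow_one])
    obtain ⟨s, hsm, hs1, hsne⟩ := Nat.exists_dvd_of_not_prime hm2 hmp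
    obtain ⟨t, rfl⟩ := hsm
    have hs0 : s ≠ 0 := by rintro rfl; omega
    obtain ⟨F2, hF2, -⟩ := exists_subfield_of_dvd (F := F) p hq (k := i * s)
      (Nat.one_le_iff_ne_zero.2 (mul_ne_zero hi0 hs0)) ⟨t, by rw [← him]; ring⟩ (by omega)
    have hF2' : Nat.card F2 = Nat.card F1 ^ s := by rw [hF2, hFi, ← pow_mul]
    have ht : s < s * t := lt_of_le_of_ne (Nat.le_mul_of_pos_right _ (Nat.pos_of_ne_zero fun e => by
      rw [e, mul_zero] at hm2; omega)) hsne
    have hne2 : Nat.card F2 ≠ Nat.card F := by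
      rw [hF2', ← hpow]
      exact (Nat.pow_lt_pow_right (by omega) ht).ne
    have h12 : pglSub F1 ⊓ psl F ≤ pglSub F2 ⊓ psl F := inf_le_inf_right _ (pglSub_mono (subfield_le_of_card hF2'))
    have h2c := coatom_card_eq hM (hle.trans h12) (pglSub_inf_lt hne2)
    have hge := card_pglSub_inf_ge F2
    rw [h2c, ← hc] at hge
    have hle1 : Nat.card (pglSub F1 ⊓ psl F : Subgroup (G2 F)) ≤ Nat.card F1 * (Nat.card F1 - 1) * (Nat.card F1 + 1) := by
      rw [← card_pglSub]
      exact Nat.card_le_card_of_injective _ (Subgroup.inclusion_injective inf_le_left)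
    have hsq : Nat.card F1 * Nat.card F1 ≤ Nat.card F2 := by
      rw [hF2', ← pow_two]
      exact Nat.pow_le_pow_right (by omega) (by omega)
    have hb : Nat.card F1 * Nat.card F1 * (Nat.card F1 - 1) * (Nat.card F1 + 1) ≤
        Nat.card F2 * (Nat.card F2 - 1) * (Nat.card F2 + 1) := by
      have h1 : Nat.card F1 ≤ Nat.card F2 := le_trans (Nat.le_mul_self _) hsq
      exact Nat.mul_le_mul (Nat.mul_le_mul hsq (by omega)) (by omega)
    have hfin : Nat.card F1 * (Nat.card F1 * (Nat.card F1 - 1) * (Nat.card F1 + 1)) ≤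
        2 * (Nat.card F1 * (Nat.card F1 - 1) * (Nat.card F1 + 1)) := by
      refine le_trans (le_trans (le_of_eq (by ring)) (hb.trans hge)) (Nat.mul_le_mul_left _ hle1)
    have hpos : 0 < Nat.card F1 * (Nat.card F1 - 1) * (Nat.card F1 + 1) :=
      Nat.mul_pos (Nat.mul_pos (by omega) (by omega)) (by omega)
    have := Nat.le_of_mul_le_mul_right hfin hpos
    omega
  obtain ⟨F3, hF3, e⟩ := exists_subfield_of_dvd (F := F) p hq (k := i) (Nat.one_le_iff_ne_zero.2 hi0) ⟨m, him.symm⟩
    (by omega)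
  obtain rfl : F3 = F1 := subfield_eq_of_card (hF3.trans hFi.symm)
  exact ⟨m, hmp, hpow.symm, heq, i, e⟩

end CfsgLib.Perm.Dickson
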