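import Mathlib
import Cfsg.Agent.Lib.Classical.ProjLine

/-!
# Moebius transformations of the projective line

Coordinates for `PGL(2, K)` acting on its line: translations, dilations and inversions.
-/

set_option autoImplicit false
set_option linter.all false

namespace CfsgLib.Perm.Dickson

open Matrix

variable (K : Type*) [Field K]

/-- the projective line -/
abbrev P2 := Projectivization K (Fin 2 → K)

/-- the projective group of degree two -/
abbrev G2 := Matrix.ProjGenLinGroup (Fin 2) K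

variable {K}

theorem vec_one_ne (z : K) : (![z, 1] : Fin 2 → K) ≠ 0 := fun h => by simpa using congrFun h 1

/-- the point at infinity -/
def ip : P2 K := Projectivization.mk K (![1, 0] : Fin 2 → K) (by simp)

/-- an affine point -/
def fp (z : K) : P2 K := Projectivization.mk K (![z, 1] : Fin 2 → K) (vec_one_ne z)

theorem mk_eq_fp {v : Fin 2 → K} (hv : v ≠ 0) (h : v 1 ≠ 0) : Projectivization.mk K v hv = fp (v 0 / v 1) := by
  refine (Projectivization.mk_eq_mk_iff' K _ _ hv _).2 ⟨v 1, ?_⟩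
  ext i; fin_cases i <;> simp [mul_div_cancel₀ _ h]

theorem mk_eq_ip {v : Fin 2 → K} (hv : v ≠ 0) (h : v 1 = 0) : Projectivization.mk K v hv = ip := by
  refine (Projectivization.mk_eq_mk_iff' K _ _ hv _).2 ⟨v 0, ?_⟩
  ext i; fin_cases i <;> simp [h]

theorem fp_inj {a b : K} (h : fp a = fp b) : a = b := by
  obtain ⟨c, hc⟩ := (Projectivization.mk_eq_mk_iff' K _ _ _ _).1 h
  have h0 := congrFun hc 0
  have h1 := congrFun hc 1
  simp at h0 h1
  rw [h1, one_mul] at h0
  exact h0.symm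

theorem fp_ne_ip (z : K) : fp z ≠ ip := fun h => by
  obtain ⟨c, hc⟩ := (Projectivization.mk_eq_mk_iff' K _ _ _ _).1 h
  simpa using congrFun hc 1

theorem ip_ne_fp (z : K) : ip ≠ fp z := (fp_ne_ip z).symm

theorem point_cases (x : P2 K) : x = ip ∨ ∃ z, x = fp z := by
  induction x using Projectivization.ind with
  | _ v hv =>
    by_cases h : v 1 = 0
    · exact Or.inl (mk_eq_ip hv h)
    · exact Or.inr ⟨_, mk_eq_fp hv h⟩

/-- translation -/
def tr (t : K) : G2 K :=
  ProjGenLinGroup.mk (GeneralLinearGroup.mkOfDetNeZero !![1, t; 0, 1] (by simp [Matrix.det_fin_two]))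

/-- dilation -/
def di (u : Kˣ) : G2 K :=
  ProjGenLinGroup.mk (GeneralLinearGroup.mkOfDetNeZero !![(u : K), 0; 0, 1] (by simp [Matrix.det_fin_two]))

/-- inversion -/
def iv (b : Kˣ) : G2 K :=
  ProjGenLinGroup.mk (GeneralLinearGroup.mkOfDetNeZero !![0, (b : K); 1, 0] (by simp [Matrix.det_fin_two]))

theorem mk_smul (g : GL (Fin 2) K) {v : Fin 2 → K} (hv : v ≠ 0) :
    ProjGenLinGroup.mk g • Projectivization.mk K v hv =
      Projectivization.mk K ((g : Matrix (Fin 2) (Fin 2) K) *ᵥ v)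
        (((Matrix.mulVec_injective_of_isUnit g.isUnit).ne_iff' (Matrix.mulVec_zero _)).mpr hv) :=
  rfl

theorem tr_fp (t z : K) : tr t • fp z = fp (z + t) := by
  rw [tr, fp, mk_smul, mk_eq_fp]
  · congr 1
    simp [Matrix.mulVec, dotProduct, Fin.sum_univ_two]
  · simp [Matrix.mulVec, dotProduct, Fin.sum_univ_two]

theorem tr_ip (t : K) : tr t • (ip : P2 K) = (ip : P2 K) := by
  rw [tr, ip, mk_smul, mk_eq_ip]
  · rfl
  · simp [Matrix.mulVec, dotProduct, Fin.sum_univ_two]

theorem di_fp (u : Kˣ) (z : K) : di u • fp z = fp ((u : K) * z) := by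
  rw [di, fp, mk_smul, mk_eq_fp]
  · congr 1
    simp [Matrix.mulVec, dotProduct, Fin.sum_univ_two]
  · simp [Matrix.mulVec, dotProduct, Fin.sum_univ_two]

theorem di_ip (u : Kˣ) : di u • (ip : P2 K) = (ip : P2 K) := by
  rw [di, ip, mk_smul, mk_eq_ip]
  · rfl
  · simp [Matrix.mulVec, dotProduct, Fin.sum_univ_two]

theorem iv_ip (b : Kˣ) : iv b • (ip : P2 K) = (fp (0 : K) : P2 K) := by
  rw [iv, ip, mk_smul, mk_eq_fp]
  · congr 1
    simp [Matrix.mulVec, dotProduct, Fin.sum_univ_two]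
  · simp [Matrix.mulVec, dotProduct, Fin.sum_univ_two]

theorem iv_fp_zero (b : Kˣ) : iv b • fp (0 : K) = (ip : P2 K) := by
  rw [iv, fp, mk_smul, mk_eq_ip]
  simp [Matrix.mulVec, dotProduct, Fin.sum_univ_two]

theorem iv_fp (b : Kˣ) {z : K} (hz : z ≠ 0) : iv b • fp z = fp ((b : K) / z) := by
  rw [iv, fp, mk_smul, mk_eq_fp]
  · congr 1
    simp [Matrix.mulVec, dotProduct, Fin.sum_univ_two]
  · simp [Matrix.mulVec, dotProduct, Fin.sum_univ_two, hz]

theorem eq_one_of_three {g : G2 K} {a b c : P2 K} (hab : a ≠ b) (hac : a ≠ c) (hbc : b ≠ c)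
    (ha : g • a = a) (hb : g • b = b) (hc : g • c = c) : g = 1 :=
  CfsgLib.Classical.pgl2_sharp g a b c hab hac hbc ha hb hc

/-- two elements agreeing on three points are equal -/
theorem eq_of_three {g h : G2 K} {a b c : P2 K} (hab : a ≠ b) (hac : a ≠ c) (hbc : b ≠ c)
    (ha : g • a = h • a) (hb : g • b = h • b) (hc : g • c = h • c) : g = h := by
  have := eq_one_of_three (g := h⁻¹ * g) hab hac hbc (by rw [mul_smul, ha, inv_smul_smul])
    (by rw [mul_smul, hb, inv_smul_smul]) (by rw [mul_smul, hc, inv_smul_smul])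
  exact (inv_mul_eq_one.1 this).symm

theorem eq_of_std {g h : G2 K} (h1 : g • (ip : P2 K) = h • (ip : P2 K)) (h2 : g • fp (0 : K) = h • fp (0 : K)) (h3 : g • fp (1 : K) = h • fp (1 : K)) : g = h :=
  eq_of_three (ip_ne_fp (0 : K)) (ip_ne_fp (1 : K)) (fun e => zero_ne_one (α := K) (fp_inj e)) h1 h2 h3

theorem ext_fp {g h : G2 K} (h1 : g • (ip : P2 K) = h • (ip : P2 K)) (h2 : ∀ z : K, g • fp z = h • fp z) : g = h :=
  eq_of_std h1 (h2 0) (h2 1)

theorem tr_mul (s t : K) : tr s * tr t = tr (s + t) :=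
  ext_fp (by rw [mul_smul, tr_ip, tr_ip, tr_ip]) fun z => by rw [mul_smul, tr_fp, tr_fp, tr_fp, add_comm s t, add_assoc]

theorem tr_zero : tr (0 : K) = 1 :=
  ext_fp (by rw [tr_ip, one_smul]) fun z => by rw [tr_fp, add_zero, one_smul]

theorem tr_inv (t : K) : (tr t)⁻¹ = tr (-t) :=
  inv_eq_of_mul_eq_one_right (by rw [tr_mul, add_neg_cancel, tr_zero])

theorem tr_pow (t : K) (n : ℕ) : tr t ^ n = tr (n * t) := by
  induction n with
  | zero => rw [pow_zero, Nat.cast_zero, zero_mul, tr_zero]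
  | succ n ih => rw [pow_succ, ih, tr_mul]; congr 1; push_cast; ring

theorem tr_injective : Function.Injective (tr : K → G2 K) := fun s t h => by
  have := congrArg (fun g => g • fp (0 : K)) h
  simp only [tr_fp, zero_add] at this
  exact fp_inj this

theorem di_mul (u v : Kˣ) : di u * di v = di (u * v) :=
  ext_fp (by rw [mul_smul, di_ip, di_ip, di_ip]) fun z => by rw [mul_smul, di_fp, di_fp, di_fp, Units.val_mul, mul_assoc]

theorem di_one : di (1 : Kˣ) = (1 : G2 K) :=
  ext_fp (by rw [di_ip, one_smul]) fun z => by rw [di_fp, Units.val_one, one_mul, one_smul]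

/-- dilations as a homomorphism -/
def diHom : Kˣ →* G2 K where
  toFun := di
  map_one' := di_one
  map_mul' u v := (di_mul u v).symm

theorem diHom_apply (u : Kˣ) : diHom u = di u := rfl

theorem di_injective : Function.Injective (di : Kˣ → G2 K) := fun u v h => by
  have := congrArg (fun g => g • fp (1 : K)) h
  simp only [di_fp, mul_one] at this
  exact Units.ext (fp_inj this)

theorem di_inv (u : Kˣ) : (di u)⁻¹ = di u⁻¹ := (map_inv diHom u).symm

theorem di_tr (u : Kˣ) (t : K) : di u * tr t = tr ((u : K) * t) * di u :=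
  ext_fp (by rw [mul_smul, tr_ip, di_ip, mul_smul, di_ip, tr_ip]) fun z => by
    rw [mul_smul, tr_fp, di_fp, mul_smul, di_fp, tr_fp, mul_add]

theorem iv_sq (b : Kˣ) : iv b * iv b = (1 : G2 K) := by
  refine eq_of_std ?_ ?_ ?_
  · rw [mul_smul, iv_ip, iv_fp_zero, one_smul]
  · rw [mul_smul, iv_fp_zero, iv_ip, one_smul]
  · rw [mul_smul, iv_fp _ one_ne_zero, div_one, iv_fp _ b.ne_zero, div_self b.ne_zero, one_smul]

theorem iv_di (b u : Kˣ) : iv b * di u * iv b = di u⁻¹ := by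
  refine eq_of_std ?_ ?_ ?_
  · rw [mul_smul, mul_smul, iv_ip, di_fp, mul_zero, iv_fp_zero, di_ip]
  · rw [mul_smul, mul_smul, iv_fp_zero, di_ip, iv_ip, di_fp, mul_zero]
  · rw [mul_smul, mul_smul, iv_fp _ one_ne_zero, div_one, di_fp,
      iv_fp _ (mul_ne_zero u.ne_zero b.ne_zero), di_fp, mul_one, Units.val_inv_eq_inv_val]
    congr 1
    field_simp [b.ne_zero, u.ne_zero]

theorem exists_of_fix_ip {g : G2 K} (hg : g • (ip : P2 K) = ip) : ∃ (t : K) (u : Kˣ), g = tr t * di u := by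
  obtain h0 | ⟨t, ht⟩ := point_cases (g • fp (0 : K))
  · exact absurd (MulAction.injective g (h0.trans hg.symm)) (fp_ne_ip 0)
  obtain h1 | ⟨s, hs⟩ := point_cases (g • fp (1 : K))
  · exact absurd (MulAction.injective g (h1.trans hg.symm)) (fp_ne_ip 1)
  have hne : s - t ≠ 0 := fun h => by
    rw [sub_eq_zero] at h
    subst h
    exact zero_ne_one (fp_inj (MulAction.injective g (ht.trans hs.symm)))
  refine ⟨t, Units.mk0 _ hne, eq_of_std ?_ ?_ ?_⟩
  · rw [hg, mul_smul, di_ip, tr_ip]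
  · rw [ht, mul_smul, di_fp, mul_zero, tr_fp, zero_add]
  · rw [hs, mul_smul, di_fp, tr_fp, Units.val_mk0, mul_one, sub_add_cancel]

theorem trdi_fp (t : K) (u : Kˣ) (z : K) : (tr t * di u) • fp z = fp ((u : K) * z + t) := by
  rw [mul_smul, di_fp, tr_fp]

theorem trdi_ip (t : K) (u : Kˣ) : (tr t * di u) • (ip : P2 K) = (ip : P2 K) := by rw [mul_smul, di_ip, tr_ip]

theorem trdi_inj {s t : K} {u v : Kˣ} (h : tr s * di u = tr t * di v) : s = t ∧ u = v := by
  have h0 := congrArg (fun g => g • fp (0 : K)) h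
  simp only [trdi_fp, mul_zero, zero_add] at h0
  obtain rfl := fp_inj h0
  exact ⟨rfl, di_injective (mul_left_cancel h)⟩

theorem trdi_mul (s t : K) (u v : Kˣ) : tr s * di u * (tr t * di v) = tr (s + (u : K) * t) * di (u * v) := by
  rw [← mul_assoc, mul_assoc (tr s), di_tr, ← mul_assoc, tr_mul, mul_assoc, di_mul]

/-- the only fixed point at infinity -/
theorem single_fix_iff (t : K) (u : Kˣ) :
    (∀ x : P2 K, (tr t * di u) • x = x → x = ip) ↔ (u = 1 ∧ t ≠ 0) := by
  constructor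
  · intro h
    by_cases hu : u = 1
    · refine ⟨hu, fun ht => fp_ne_ip (0 : K) (h _ ?_)⟩
      rw [hu, ht, tr_zero, one_mul, di_one, one_smul]
    · exfalso
      have hu' : (1 : K) - u ≠ 0 := sub_ne_zero.2 fun e => hu (Units.ext e.symm)
      refine fp_ne_ip (t / (1 - (u : K))) (h _ ?_)
      rw [trdi_fp]
      congr 1
      field_simp
      ring
  · rintro ⟨rfl, ht⟩ x hx
    obtain rfl | ⟨z, rfl⟩ := point_cases x
    · rfl
    · rw [trdi_fp, Units.val_one, one_mul] at hx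
      exact absurd (add_eq_left.1 (fp_inj hx)) ht

theorem eq_di_of_fix_two {g : G2 K} (h1 : g • (ip : P2 K) = ip) (h2 : g • fp (0 : K) = fp (0 : K)) : ∃ u, g = di u := by
  obtain ⟨t, u, rfl⟩ := exists_of_fix_ip h1
  rw [trdi_fp, mul_zero, zero_add] at h2
  exact ⟨u, by rw [fp_inj h2, tr_zero, one_mul]⟩

theorem eq_iv_of_swap {g : G2 K} (h1 : g • (ip : P2 K) = fp (0 : K)) (h2 : g • fp (0 : K) = ip) : ∃ b, g = iv b := by
  obtain h | ⟨b, hb⟩ := point_cases (g • fp (1 : K))
  · exact absurd (MulAction.injective g (h.trans h2.symm)) fun e => zero_ne_one (α := K) (fp_inj e).symm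
  have hb0 : b ≠ 0 := fun e => ip_ne_fp (1 : K) (MulAction.injective g (h1.trans (e ▸ hb.symm)))
  exact ⟨Units.mk0 b hb0, eq_of_std (h1.trans (iv_ip _).symm) (h2.trans (iv_fp_zero _).symm)
    (by rw [hb, iv_fp _ one_ne_zero, Units.val_mk0, div_one])⟩

theorem exists_move_two {a b : P2 K} (hab : a ≠ b) : ∃ σ : G2 K, σ • a = ip ∧ σ • b = fp (0 : K) := by
  classical
  obtain ⟨c, hca, hcb⟩ : ∃ c : P2 K, c ≠ a ∧ c ≠ b := by
    by_contra hcon
    push Not at hcon
    have h1 : ∀ x : P2 K, x = a ∨ x = b := fun x => or_iff_not_imp_left.2 (hcon x)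
    rcases h1 ip with e1 | e1 <;> rcases h1 (fp (0 : K)) with e2 | e2 <;> rcases h1 (fp (1 : K)) with e3 | e3 <;>
      first
        | exact ip_ne_fp (0 : K) (e1.trans e2.symm)
        | exact ip_ne_fp (1 : K) (e1.trans e3.symm)
        | exact zero_ne_one (fp_inj (e2.trans e3.symm))
  let P : Fin 3 ↪ P2 K := ⟨![a, b, c], by
    intro i j h
    fin_cases i <;> fin_cases j <;> simp_all [Ne.symm]⟩
  let Q : Fin 3 ↪ P2 K := ⟨![ip, fp (0 : K), fp (1 : K)], by
    intro i j h
    fin_cases i <;> fin_cases j <;>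
      first
        | rfl
        | exact absurd h (ip_ne_fp _)
        | exact absurd h (fp_ne_ip _)
        | exact absurd (fp_inj h) zero_ne_one
        | exact absurd (fp_inj h).symm zero_ne_one⟩
  haveI := CfsgLib.Classical.pgl2_three_transitive (F := K)
  obtain ⟨σ, hσ⟩ := MulAction.exists_smul_eq (G2 K) P Q
  exact ⟨σ, congrArg (fun f : Fin 3 ↪ P2 K => f 0) hσ, congrArg (fun f : Fin 3 ↪ P2 K => f 1) hσ⟩

theorem exists_move_ip (a : P2 K) : ∃ σ : G2 K, σ • a = ip := by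
  by_cases h : a = ip
  · exact ⟨1, by rw [one_smul, h]⟩
  · obtain ⟨σ, hσ, -⟩ := exists_move_two h
    exact ⟨σ, hσ⟩

theorem exists_move_three {a b c : P2 K} (hab : a ≠ b) (hac : a ≠ c) (hbc : b ≠ c) :
    ∃ σ : G2 K, σ • a = ip ∧ σ • b = fp (0 : K) ∧ σ • c = fp (1 : K) := by
  obtain ⟨σ, h1, h2⟩ := exists_move_two hab
  obtain h | ⟨z, hz⟩ := point_cases (σ • c)
  · exact absurd (MulAction.injective σ (h1.trans h.symm)) hac
  have hz0 : z ≠ 0 := fun e => hbc (MulAction.injective σ (h2.trans (e ▸ hz.symm)))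
  refine ⟨di (Units.mk0 z hz0)⁻¹ * σ, ?_, ?_, ?_⟩
  · rw [mul_smul, h1, di_ip]
  · rw [mul_smul, h2, di_fp, mul_zero]
  · rw [mul_smul, hz, di_fp, Units.val_inv_eq_inv_val, Units.val_mk0, inv_mul_cancel₀ hz0]

/-- conjugate subgroup -/
def conjG (σ : G2 K) (G : Subgroup (G2 K)) : Subgroup (G2 K) := G.map (MulAut.conj σ).toMonoidHom

theorem mem_conjG {σ g : G2 K} {G : Subgroup (G2 K)} : g ∈ conjG σ G ↔ σ⁻¹ * g * σ ∈ G := by
  simp only [conjG, Subgroup.mem_map, MulEquiv.coe_toMonoidHom, MulAut.conj_apply]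
  constructor
  · rintro ⟨h, hh, rfl⟩
    simpa [mul_assoc] using hh
  · intro h
    exact ⟨_, h, by group⟩

theorem conjG_equiv (σ : G2 K) (G : Subgroup (G2 K)) : Nonempty (G ≃* conjG σ G) :=
  ⟨(MulAut.conj σ).subgroupMap G⟩

end CfsgLib.Perm.Dickson
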