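import Cfsg.Agent.Lib.Perm.Dickson.SubfieldPair

/-!
# Two root groups in characteristic two

A subgroup of `SL(2)` in characteristic two containing the upper translations by a subfield of prime index, one
further upper translation different from zero and one, and the lower translation by an irrational element
contains every upper translation.
-/

set_option autoImplicit false
set_option linter.all false

namespace CfsgLib.Perm.Dickson

open Matrix

variable {F : Type*} [Field F] [Fintype F]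

/-- two root groups in characteristic two -/
theorem all_upper_two [CharP F 2] {F₀ : Subfield F} {r : ℕ} (hr : r.Prime)
    (hcard : Fintype.card F = Nat.card F₀ ^ r) {G : Subgroup (SpecialLinearGroup (Fin 2) F)}
    (hup : ∀ t ∈ F₀, upS t ∈ G) {a : F} (ha : upS a ∈ G) (ha0 : a ≠ 0) (ha1 : a ≠ 1) {μ : F} (hμ : μ ∉ F₀)
    (hlo : loS μ ∈ G) : ∀ t : F, upS t ∈ G := by
  classical
  haveI : Fact (Nat.Prime 2) := ⟨Nat.prime_two⟩
  haveI := finite_G2 (F := F)
  have hμ0 : μ ≠ 0 := fun h => hμ (h ▸ F₀.zero_mem)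
  obtain ⟨H, hH⟩ : ∃ H, H = G.map projS := ⟨_, rfl⟩
  have hHtr : ∀ t, upS t ∈ G → tr t ∈ H := fun t ht => hH ▸ ⟨upS t, ht, projS_upS t⟩
  have hHlo : projS (loS μ) ∈ H := hH ▸ ⟨_, hlo, rfl⟩
  have h1 : tr (1 : F) ∈ H := hHtr 1 (hup 1 F₀.one_mem)
  have hnot : ∀ {a b : P2 (Kc F)}, GoodPair a b → ∀ {t : F}, t ≠ 0 → tr t ∉ pairFix a b := by
    intro a b hg t ht hm
    apply not_p_dvd_torus 2 hg
    have ho : orderOf (tr t) = 2 := orderOf_eq_prime (by rw [tr_pow, Nat.cast_ofNat, CharTwo.two_eq_zero, zero_mul, tr_zero])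
      fun e => ht (tr_injective (e.trans tr_zero.symm))
    have := orderOf_dvd_natCard (⟨tr t, hm⟩ : pairFix a b)
    rwa [Subgroup.orderOf_mk, ho] at this
  obtain ⟨n, -, hn⟩ := FiniteField.card F 2
  have hsqrt : ∀ (F1 : Subfield F) (x : F), x * x ∈ F1 → x ∈ F1 := fun F1 x hx => by
    have h := F1.pow_mem hx (2 ^ ((n : ℕ) - 1))
    rwa [← sq, ← pow_mul, ← pow_succ', Nat.sub_add_cancel n.pos, ← hn, FiniteField.pow_card] at h
  cases classify_finite 2 H with
  | borel x hx =>
    exfalso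
    have e1 := single_tr one_ne_zero x (hx _ h1)
    have e2 := hx _ hHlo
    rw [e1, projS_loS_ip hμ0] at e2
    exact fp_ne_ip _ e2
  | cyclic a b hg hle hne => exact absurd (hle h1) (hnot hg one_ne_zero)
  | dihedral x y hg hle hn hC =>
    exfalso
    have := mul_mem_of_swap (hle h1) (hnot hg one_ne_zero) (hle (hHtr a ha)) (hnot hg ha0)
    rw [tr_mul] at this
    exact hnot hg (fun e => ha1 (CharTwo.add_eq_zero.1 e).symm) this
  | a4 _ h2 _ _ => exact absurd rfl h2
  | s4 _ h2 _ _ => exact absurd rfl h2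
  | a5 _ h2 _ _ => exact absurd rfl h2
  | subfield σ F1 h31 h =>
    have hle : conjG σ H ≤ pglSub F1 := by
      rcases h with h | ⟨-, h⟩ <;> rw [h]
      exact pslSub_le_pglSub F1
    have hge : pslSub F1 ≤ conjG σ H := by
      rcases h with h | ⟨-, h⟩ <;> rw [h]
      exact pslSub_le_pglSub F1
    have huμ : ∀ u ∈ F₀, u * μ ∈ F1 := fun u hu => hsqrt F1 _ (by
      have hmem : σ * projS (upS u * loS μ) * σ⁻¹ ∈ pglSub F1 := hle (mem_conjG.2 (by
        rw [show σ⁻¹ * (σ * projS (upS u * loS μ) * σ⁻¹) * σ = projS (upS u * loS μ) by group, hH]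
        exact ⟨_, mul_mem (hup u hu) hlo, rfl⟩))
      have := trace_sq_mem hmem
      convert this using 1
      simp only [show ∀ i j, (upS u * loS μ).1 i j = ((upS u).1 * (loS μ).1) i j from fun _ _ => rfl]
      simp [upS, loS, Matrix.mul_apply, Fin.sum_univ_two]
      linear_combination (-(2 * u * μ) - 2) * (CharTwo.two_eq_zero : (2 : F) = 0))
    have hμ1 : μ ∈ F1 := by simpa using huμ 1 F₀.one_mem
    have hF0 : ∀ u ∈ F₀, u ∈ F1 := fun u hu => by
      have := F1.div_mem (huμ u hu) hμ1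
      rwa [mul_div_cancel_right₀ _ hμ0] at this
    have hall : ∀ x : F, x ∈ F1 := fun x => CfsgLib.Perm.Trans.Subf.eq_univ_of_closed (F₀ := F₀) hr hcard
      (C := (F1 : Set F)) (fun x hx y hy => F1.add_mem hx hy) (fun x hx y hy => F1.mul_mem hx hy)
      (fun x => hF0 x x.2) hμ1 hμ x
    have hpsl : psl F ≤ conjG σ H := by
      refine psl_le (fun t => hge (tr_mem_pslSub (hall t))) fun t => hge ?_
      refine ⟨iv (-1) * tr ⟨t, hall t⟩ * iv (-1),
        mul_mem (mul_mem iv_neg_one_mem_psl (tr_mem_psl _)) iv_neg_one_mem_psl, ?_⟩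
      rw [map_mul, map_mul, mapG_iv, mapG_tr,
        show Units.map F1.subtype.toMonoidHom (-1) = -1 from Units.ext (by simp)]
      rfl
    intro t
    have hs : tr t ∈ H := by
      have h' := mem_conjG.1 (hpsl ((psl_normal F).conj_mem _ (tr_mem_psl t) σ))
      rwa [show σ⁻¹ * (σ * tr t * σ⁻¹) * σ = tr t by group] at h'
    rw [hH] at hs
    obtain ⟨A, hA, hAt⟩ := hs
    obtain ⟨c, hc⟩ := ProjGenLinGroup.mk_eq_mk_iff.1 (hAt.trans (projS_upS t).symm)
    have hm := congrArg (fun M : GL (Fin 2) F => (M : Matrix (Fin 2) (Fin 2) F)) hc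
    simp at hm
    have h' : (upS t).1 = (c : F) • A.1 := by rw [Matrix.smul_eq_mul_diagonal]; exact hm.symm
    have hc1 : (c : F) = 1 := by
      have := congrArg Matrix.det h'
      rw [(upS t).2, Matrix.det_smul, A.2, Fintype.card_fin, mul_one] at this
      have h2 : ((c : F) - 1) * ((c : F) - 1) = 0 := by
        linear_combination -this - ((c : F) - 1) * (CharTwo.two_eq_zero : (2 : F) = 0)
      simpa [sub_eq_zero] using h2
    rw [hc1, one_smul] at h'
    rw [show upS t = A from Subtype.ext h']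
    exact hA

end CfsgLib.Perm.Dickson
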