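import Cfsg.Agent.Lib.Perm.Dickson.Mobius

/-!
# Stabilisers of points in finite subgroups of PGL(2)
-/

set_option autoImplicit false
set_option linter.all false

namespace CfsgLib.Perm.Dickson

variable {K : Type*} [Field K]

theorem card_dvd_of_invariant {A : Type*} [CommGroup A] (T : Subgroup A) (S : Set A)
    (h : ∀ t ∈ T, ∀ z ∈ S, t * z ∈ S) : Nat.card T ∣ Nat.card S := by
  have e : QuotientGroup.mk ⁻¹' ((QuotientGroup.mk : A → A ⧸ T) '' S) = S := by
    refine Set.Subset.antisymm ?_ (Set.subset_preimage_image _ _)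
    rintro x ⟨y, hy, hxy⟩
    rw [QuotientGroup.eq] at hxy
    have := h _ hxy y hy
    rwa [mul_comm (y⁻¹ * x), mul_inv_cancel_left] at this
  rw [← Nat.card_congr (Equiv.setCongr e), Nat.card_congr (QuotientGroup.preimageMkEquivSubgroupProdSet T _),
    Nat.card_prod]
  exact dvd_mul_right _ _

variable (G : Subgroup (G2 K))

/-- translations in `G` -/
def Tset : AddSubgroup K where
  carrier := {t | tr t ∈ G}
  zero_mem' := by show tr 0 ∈ G; rw [tr_zero]; exact one_mem G
  add_mem' := fun {a b} ha hb => by show tr (a + b) ∈ G; rw [← tr_mul]; exact mul_mem ha hb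
  neg_mem' := fun {a} ha => by show tr (-a) ∈ G; rw [← tr_inv]; exact inv_mem ha

/-- multipliers of the stabiliser of infinity -/
def Lset : Subgroup Kˣ where
  carrier := {u | ∃ t, tr t * di u ∈ G}
  one_mem' := ⟨0, by rw [tr_zero, di_one, mul_one]; exact one_mem G⟩
  mul_mem' := fun {a b} => fun ⟨s, hs⟩ ⟨t, ht⟩ => ⟨_, trdi_mul s t a b ▸ mul_mem hs ht⟩
  inv_mem' := fun {a} => fun ⟨s, hs⟩ => ⟨-((a⁻¹ : Kˣ) : K) * s, by
    have := inv_mem hs
    rwa [mul_inv_rev, di_inv, tr_inv, di_tr, mul_neg, ← neg_mul] at this⟩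

theorem mem_Tset {t : K} : t ∈ Tset G ↔ tr t ∈ G := Iff.rfl

theorem mem_Lset {u : Kˣ} : u ∈ Lset G ↔ ∃ t, tr t * di u ∈ G := Iff.rfl

theorem mul_mem_Tset {u : Kˣ} (hu : u ∈ Lset G) {t : K} (ht : t ∈ Tset G) : (u : K) * t ∈ Tset G := by
  obtain ⟨s, hs⟩ := hu
  have := mul_mem (mul_mem hs ht) (inv_mem hs)
  rw [mul_assoc (tr s) (di u) (tr t), di_tr, ← mul_assoc, mul_inv_rev, mul_assoc (tr s * tr _), ← mul_assoc (di u),
    mul_inv_cancel, one_mul, tr_inv, tr_mul, tr_mul] at this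
  rw [mem_Tset]
  convert this using 2
  ring

theorem finite_Tset [Finite G] : Finite (Tset G) :=
  Finite.of_injective (fun t : Tset G => (⟨tr t.1, t.2⟩ : G))
    fun _ _ e => Subtype.ext (tr_injective (congrArg Subtype.val e))

theorem finite_Lset [Finite G] : Finite (Lset G) := by
  classical
  refine Finite.of_injective (fun u : Lset G => (⟨_, (mem_Lset G).1 u.2 |>.choose_spec⟩ : G)) ?_
  intro a b e
  exact Subtype.ext (trdi_inj (congrArg Subtype.val e)).2

theorem tset_pow [Finite G] (p : ℕ) [Fact p.Prime] [CharP K p] : ∃ k, Nat.card (Tset G) = p ^ k := by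
  haveI := finite_Tset G
  have hp : IsPGroup p (Multiplicative (Tset G)) := fun x => ⟨1, by
    rw [pow_one]
    change p • (Multiplicative.toAdd x) = 0
    refine Subtype.ext ?_
    simp⟩
  exact (IsPGroup.iff_card (G := Multiplicative (Tset G))).1 hp

theorem lset_coprime [Finite G] (p : ℕ) [Fact p.Prime] [CharP K p] : ¬ p ∣ Nat.card (Lset G) := by
  haveI := finite_Lset G
  intro hd
  obtain ⟨x, hx⟩ := exists_prime_orderOf_dvd_card' p hd
  have hp := pow_orderOf_eq_one x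
  rw [hx] at hp
  have h1 : ((x : Kˣ) : K) ^ p = 1 := by
    rw [← Units.val_pow_eq_pow_val, ← SubgroupClass.coe_pow, hp, OneMemClass.coe_one, Units.val_one]
  have h2 : (((x : Kˣ) : K) - 1) ^ p = 0 := by rw [sub_pow_char, h1, one_pow, sub_self]
  have h3 := sub_eq_zero.1 (pow_eq_zero_iff (Fact.out : p.Prime).ne_zero |>.1 h2)
  rw [orderOf_eq_one_iff.2 (Subtype.ext (Units.ext h3) : x = 1)] at hx
  exact (Fact.out : p.Prime).ne_one hx.symm

theorem isCyclic_Lset [Finite G] : IsCyclic (Lset G) := by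
  haveI := finite_Lset G
  infer_instance

/-- nonzero translations as units -/
def Tunits : Set Kˣ := {u | (u : K) ∈ Tset G}

theorem card_Tunits [Finite G] : Nat.card (Tunits G) = Nat.card (Tset G) - 1 := by
  classical
  haveI := finite_Tset G
  haveI := Fintype.ofFinite (Tset G)
  let e : Tunits G ≃ {t : Tset G // t ≠ 0} :=
    { toFun := fun u => ⟨⟨u.1, u.2⟩, fun e => u.1.ne_zero (congrArg Subtype.val e)⟩
      invFun := fun t => ⟨Units.mk0 t.1.1 (fun e => t.2 (Subtype.ext e)), t.1.2⟩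
      left_inv := fun u => Subtype.ext (Units.ext rfl)
      right_inv := fun t => rfl }
  rw [Nat.card_congr e, Nat.card_eq_fintype_card, Fintype.card_subtype_compl, Fintype.card_subtype_eq,
    Nat.card_eq_fintype_card]

theorem lset_dvd [Finite G] : Nat.card (Lset G) ∣ Nat.card (Tset G) - 1 := by
  rw [← card_Tunits]
  exact card_dvd_of_invariant _ _ fun u hu z hz => mul_mem_Tset G hu hz

theorem lset_eq [Finite G] (h1 : (1 : K) ∈ Tset G) (h : Nat.card (Lset G) = Nat.card (Tset G) - 1) {u : Kˣ} :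
    u ∈ Lset G ↔ (u : K) ∈ Tset G := by
  haveI := finite_Tset G
  have hsub : ((Lset G : Subgroup Kˣ) : Set Kˣ) ⊆ Tunits G := fun v hv => by
    have := mul_mem_Tset G hv h1
    rwa [mul_one] at this
  haveI : Finite (Tunits G) := Finite.of_injective (fun u : Tunits G => (⟨u.1, u.2⟩ : Tset G))
    fun a b e => Subtype.ext (Units.ext (congrArg Subtype.val e : (a.1 : K) = b.1))
  have := Set.eq_of_subset_of_ncard_le hsub (le_of_eq (by
    rw [← Nat.card_coe_set_eq, ← Nat.card_coe_set_eq, card_Tunits]; exact h.symm)) (Set.toFinite _)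
  exact Set.ext_iff.1 this u

/-- the stabiliser of infinity is `T` by `Λ` -/
theorem card_stab_ip :
    Nat.card {g : G // g • (ip : P2 K) = ip} = Nat.card (Tset G) * Nat.card (Lset G) := by
  classical
  have hc : ∀ u : Lset G, ∃ t : K, tr t * di (u : Kˣ) ∈ G := fun u => u.2
  choose c hc using hc
  have hfix : ∀ (t : K) (u : Kˣ), (tr t * di u) • (ip : P2 K) = ip := trdi_ip
  let f : (Tset G) × (Lset G) → {g : G // g • (ip : P2 K) = ip} := fun x =>
    ⟨⟨tr (x.1.1 + c x.2) * di (x.2 : Kˣ), by rw [← tr_mul, mul_assoc]; exact mul_mem x.1.2 (hc x.2)⟩,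
      hfix _ _⟩
  rw [← Nat.card_prod, eq_comm]
  refine Nat.card_eq_of_bijective f ⟨fun x y e => ?_, fun g => ?_⟩
  · obtain ⟨h1, h2⟩ := trdi_inj (congrArg (fun g : {g : G // g • (ip : P2 K) = ip} => (g.1 : G2 K)) e)
    have h2' : x.2 = y.2 := Subtype.ext h2
    rw [h2', add_left_inj] at h1
    exact Prod.ext (Subtype.ext h1) h2'
  · obtain ⟨s, u, hg⟩ := exists_of_fix_ip (g := (g.1 : G2 K)) g.2
    have hu : u ∈ Lset G := ⟨s, hg ▸ g.1.2⟩
    have ht : s - c ⟨u, hu⟩ ∈ Tset G := by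
      rw [mem_Tset]
      have := mul_mem (show tr s * di u ∈ G from hg ▸ g.1.2) (inv_mem (hc ⟨u, hu⟩))
      rw [mul_inv_rev, tr_inv, mul_assoc (tr s), ← mul_assoc (di u), mul_inv_cancel, one_mul, tr_mul] at this
      rwa [sub_eq_add_neg]
    refine ⟨(⟨_, ht⟩, ⟨u, hu⟩), Subtype.ext (Subtype.ext ?_)⟩
    show tr (s - c ⟨u, hu⟩ + c ⟨u, hu⟩) * di u = _
    rw [sub_add_cancel, hg]

/-- elements fixing only infinity -/
theorem card_single_ip :
    Nat.card {g : G // g • (ip : P2 K) = ip ∧ (g ≠ 1 → ∀ y : P2 K, g • y = y → y = ip)} = Nat.card (Tset G) := by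
  classical
  let f : Tset G → {g : G // g • (ip : P2 K) = ip ∧ (g ≠ 1 → ∀ y : P2 K, g • y = y → y = ip)} := fun t =>
    ⟨⟨tr t.1, t.2⟩, tr_ip _, fun hne y hy => by
      have ht : t.1 ≠ 0 := fun e => hne (Subtype.ext (by show tr t.1 = 1; rw [e, tr_zero]))
      refine ((single_fix_iff t.1 1).2 ⟨rfl, ht⟩) y ?_
      rw [di_one, mul_one]
      exact hy⟩
  rw [eq_comm]
  refine Nat.card_eq_of_bijective f ⟨fun a b e => ?_, fun g => ?_⟩
  · exact Subtype.ext (tr_injective (congrArg (fun g => ((g.1 : G) : G2 K)) e))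
  · obtain ⟨s, u, hg⟩ := exists_of_fix_ip (g := (g.1 : G2 K)) g.2.1
    by_cases h1 : g.1 = 1
    · exact ⟨0, Subtype.ext (h1.symm ▸ Subtype.ext tr_zero)⟩
    have := (single_fix_iff s u).1 (fun x hx => g.2.2 h1 x (by rw [← hg] at hx; exact hx))
    obtain ⟨rfl, -⟩ := this
    rw [di_one, mul_one] at hg
    exact ⟨⟨s, by rw [mem_Tset, ← hg]; exact g.1.2⟩, Subtype.ext (Subtype.ext hg.symm)⟩

end CfsgLib.Perm.Dickson
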