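import Cfsg.Agent.Lib.Perm.Dickson.Minimal
import Cfsg.Agent.Lib.Perm.Dickson.Bridge

/-!
# Solvable subgroups through an element of PSL(2, q), q = 2 ^ p or 3 ^ p
-/

set_option autoImplicit false
set_option linter.all false

namespace CfsgLib.Perm.Dickson.Solub

open Matrix Subgroup

/-! ### Generalities -/

/-- an abelian normal part with a cyclic top gives a solvable group -/
theorem solvable_of_ext {G : Type*} [Group G] {H V : Subgroup G} (y : G) (hV : ∀ a ∈ V, ∀ b ∈ V, Commute a b)
    (hn : y ∈ normalizer (V : Set G)) (hle : H ≤ V ⊔ zpowers y) : Group.IsSolvable H := by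
  have hN : zpowers y ≤ normalizer (V : Set G) := zpowers_le.2 hn
  have hmem : ∀ g ∈ H, ∃ v ∈ V, ∃ k : ℤ, v * y ^ k = g := fun g hg => by
    have hm := hle hg
    rw [← SetLike.mem_coe, coe_mul_of_right_le_normalizer_left V (zpowers y) hN, Set.mem_mul] at hm
    obtain ⟨v, hv, w, hw, rfl⟩ := hm
    obtain ⟨k, rfl⟩ := mem_zpowers_iff.1 hw
    exact ⟨v, hv, k, rfl⟩
  have hc : ∀ a b : H, ((a * b * a⁻¹ * b⁻¹ : H) : G) ∈ V := by
    intro a b
    obtain ⟨v, hv, i, ha⟩ := hmem _ a.2
    obtain ⟨w, hw, j, hb⟩ := hmem _ b.2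
    simp only [Subgroup.coe_mul, Subgroup.coe_inv]
    rw [← ha, ← hb]
    have hconj : ∀ (k : ℤ), ∀ u ∈ V, y ^ k * u * (y ^ k)⁻¹ ∈ V := fun k u hu =>
      (mem_normalizer_iff.1 (hN (zpow_mem (mem_zpowers y) k)) u).1 hu
    have e : v * y ^ i * (w * y ^ j) * (v * y ^ i)⁻¹ * (w * y ^ j)⁻¹ =
        v * (y ^ i * w * (y ^ i)⁻¹) * (y ^ j * v⁻¹ * (y ^ j)⁻¹) * w⁻¹ := by group
    rw [e]
    exact mul_mem (mul_mem (mul_mem hv (hconj i w hw)) (hconj j _ (inv_mem hv))) (inv_mem hw)
  exact solvable_of_comm_comm fun a b c d => Subtype.ext (hV _ (hc a b) _ (hc c d)).eq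

theorem solvable_of_le {G : Type*} [Group G] {H K : Subgroup G} (hK : Group.IsSolvable K) (h : H ≤ K) :
    Group.IsSolvable H := by
  haveI := hK
  exact Group.isSolvable_of_isSolvable_injective (inclusion_injective h)

theorem solvable_two_two {G : Type*} [Group G] {x y : G} (hx : x * x = 1) (hy : y * y = 1) :
    Group.IsSolvable (closure ({x, y} : Set G)) := by
  refine solvable_of_ext (V := zpowers (x * y)) x ?_ ?_ ?_
  · rintro a ⟨i, rfl⟩ b ⟨j, rfl⟩
    exact Commute.zpow_zpow (Commute.refl _) i j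
  · have hxi : x⁻¹ = x := inv_eq_of_mul_eq_one_right hx
    have hyi : y⁻¹ = y := inv_eq_of_mul_eq_one_right hy
    have key : ∀ k : ℤ, x * (x * y) ^ k * x⁻¹ = (x * y) ^ (-k) := fun k => by
      rw [← conj_zpow, _root_.zpow_neg, ← _root_.inv_zpow, hxi, _root_.mul_inv_rev, hxi, hyi, ← mul_assoc, hx, one_mul]
    refine mem_normalizer_iff.2 fun g => ⟨?_, fun hg => ?_⟩
    · rintro ⟨k, rfl⟩
      exact ⟨-k, (key k).symm⟩
    · obtain ⟨k, hk⟩ := hg
      refine ⟨-k, ?_⟩
      show (x * y) ^ (-k) = g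
      rw [← key k, show (x * y) ^ k = x * g * x⁻¹ from hk]
      rw [hxi, ← mul_assoc, ← mul_assoc, hx, one_mul, mul_assoc, hx, mul_one]
  · rw [closure_le]
    rintro g (rfl | rfl)
    · exact mem_sup_right (mem_zpowers _)
    · have : x * (x * g) ∈ zpowers (x * g) ⊔ zpowers x :=
        mul_mem (mem_sup_right (mem_zpowers _)) (mem_sup_left (mem_zpowers _))
      rwa [← mul_assoc, hx, one_mul] at this

theorem solvable_commute {G : Type*} [Group G] {x y : G} (h : Commute x y) :
    Group.IsSolvable (closure ({x, y} : Set G)) := by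
  refine solvable_of_ext (V := zpowers x) y ?_ ?_ ?_
  · rintro a ⟨i, rfl⟩ b ⟨j, rfl⟩
    exact Commute.zpow_zpow (Commute.refl _) i j
  · refine mem_normalizer_iff.2 fun g => ⟨?_, ?_⟩
    · rintro ⟨k, rfl⟩
      exact ⟨k, by show x ^ k = y * x ^ k * y⁻¹; rw [((h.zpow_left k).symm).eq, mul_inv_cancel_right]⟩
    · rintro ⟨k, hk⟩
      refine ⟨k, ?_⟩
      show x ^ k = g
      have e : g = y⁻¹ * x ^ k * y := by rw [show x ^ k = y * g * y⁻¹ from hk]; group
      rw [e, mul_assoc, (h.zpow_left k).eq, inv_mul_cancel_left]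
  · rw [closure_le]
    rintro g (rfl | rfl)
    · exact mem_sup_left (mem_zpowers _)
    · exact mem_sup_right (mem_zpowers _)

theorem solvable_two_three {G : Type*} [Group G] {x y : G} (hx : x * x = 1) (hy : y ^ 3 = 1) (hxy : (x * y) ^ 3 = 1) :
    Group.IsSolvable (closure ({x, y} : Set G)) := by
  have hxi : x⁻¹ = x := inv_eq_of_mul_eq_one_right hx
  set c := y * x * y⁻¹ with hc
  set d := y⁻¹ * x * y with hd
  have hy2 : y⁻¹ * y⁻¹ = y := by
    rw [← _root_.mul_inv_rev, inv_eq_iff_mul_eq_one, ← pow_two, ← pow_succ, hy]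
  have hcd : x * c = d := by
    have e1 : x * y * x = y⁻¹ * x * y⁻¹ := by
      have e : x * y * x * (y * x * y) = 1 := by
        rw [← hxy, pow_succ, pow_succ, pow_one]; group
      rw [mul_eq_one_iff_eq_inv] at e
      rw [e, _root_.mul_inv_rev, _root_.mul_inv_rev, hxi, mul_assoc]
    calc x * c = x * y * x * y⁻¹ := by rw [hc]; group
      _ = y⁻¹ * x * (y⁻¹ * y⁻¹) := by rw [e1, mul_assoc]
      _ = d := by rw [hy2]
  have hcc : c * c = 1 := by rw [hc, conj_mul, hx, mul_one, mul_inv_cancel]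
  have hdd : d * d = 1 := by
    rw [hd, show y⁻¹ * x * y * (y⁻¹ * x * y) = y⁻¹ * (x * x) * y from by
      simp only [mul_assoc, mul_inv_cancel_left], hx, mul_one, inv_mul_cancel]
  have hxc : Commute x c := by
    have hci : c⁻¹ = c := inv_eq_of_mul_eq_one_right hcc
    have h1 : (x * c)⁻¹ = x * c := by rw [hcd]; exact inv_eq_of_mul_eq_one_right hdd
    rw [_root_.mul_inv_rev, hci, hxi] at h1
    exact h1.symm
  have hyd : y * c * y⁻¹ = d := by
    rw [hc, hd]
    have : y * (y * x * y⁻¹) * y⁻¹ = (y * y) * x * (y⁻¹ * y⁻¹) := by group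
    rw [this, hy2]
    congr 2
    rw [← pow_two, eq_inv_iff_mul_eq_one, ← pow_succ, hy]
  refine solvable_of_ext (V := closure ({x, c} : Set G)) y ?_ ?_ ?_
  · intro a ha b hb
    have h0 : ∀ g ∈ ({x, c} : Set G), ∀ h ∈ ({x, c} : Set G), g * h = h * g := by
      rintro g (rfl | rfl) h (rfl | rfl)
      exacts [rfl, hxc.eq, hxc.symm.eq, rfl]
    have := Subgroup.isMulCommutative_closure h0
    exact congrArg Subtype.val (this.is_comm.comm (⟨a, ha⟩ : closure ({x, c} : Set G)) ⟨b, hb⟩)
  · have hd' : d ∈ closure ({x, c} : Set G) :=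
      hcd ▸ mul_mem (subset_closure (by simp)) (subset_closure (by simp))
    have hmap : ∀ g ∈ closure ({x, c} : Set G), y * g * y⁻¹ ∈ closure ({x, c} : Set G) := by
      intro g hg
      induction hg using Subgroup.closure_induction with
      | mem g hg =>
        rcases hg with rfl | rfl
        · exact subset_closure (by simp [hc])
        · rw [hyd]; exact hd'
      | one => simp
      | mul a b _ _ ha hb => rw [show y * (a * b) * y⁻¹ = (y * a * y⁻¹) * (y * b * y⁻¹) by group]; exact mul_mem ha hb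
      | inv a _ ha => rw [show y * a⁻¹ * y⁻¹ = (y * a * y⁻¹)⁻¹ by group]; exact inv_mem ha
    refine mem_normalizer_iff.2 fun g => ⟨hmap g, fun hg => ?_⟩
    have := hmap _ (hmap _ hg)
    have e : y * (y * (y * g * y⁻¹) * y⁻¹) * y⁻¹ = y ^ 3 * g * (y ^ 3)⁻¹ := by
      rw [pow_succ, pow_two, _root_.mul_inv_rev, _root_.mul_inv_rev]; simp only [mul_assoc]
    rwa [e, hy, inv_one, mul_one, one_mul] at this
  · rw [closure_le]
    rintro g (rfl | rfl)
    · exact mem_sup_left (subset_closure (by simp))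
    · exact mem_sup_right (mem_zpowers _)

variable {F : Type*} [Field F]

/-- the solubilizer, computed in `PGL(2)` -/
theorem card_sol (x : S2P F) :
    Nat.card {y : S2P F // Group.IsSolvable ↥(closure ({x, y} : Set (S2P F)))} =
      {g : G2 F | g ∈ psl F ∧ Group.IsSolvable ↥(closure ({incl x, g} : Set (G2 F)))}.ncard := by
  have key : ∀ y : S2P F, Group.IsSolvable ↥(closure ({x, y} : Set (S2P F))) ↔
      Group.IsSolvable ↥(closure ({incl x, incl y} : Set (G2 F))) := fun y => by
    have e : closure ({incl x, incl y} : Set (G2 F)) = up (closure ({x, y} : Set (S2P F))) := by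
      rw [up, MonoidHom.map_closure, Set.image_insert_eq, Set.image_singleton]
    rw [e]
    constructor <;> intro h <;> haveI := h
    · exact Group.isSolvable_of_surjective (f := (upEquiv (closure ({x, y} : Set (S2P F)))).toMonoidHom)
        (upEquiv (closure ({x, y} : Set (S2P F)))).surjective
    · exact Group.isSolvable_of_surjective (f := (upEquiv (closure ({x, y} : Set (S2P F)))).symm.toMonoidHom)
        (upEquiv (closure ({x, y} : Set (S2P F)))).symm.surjective
  rw [← Nat.card_coe_set_eq]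
  refine Nat.card_eq_of_bijective
    (fun y => (⟨incl y.1, incl_mem y.1, (key y.1).1 y.2⟩ :
      {g : G2 F | g ∈ psl F ∧ Group.IsSolvable ↥(closure ({incl x, g} : Set (G2 F)))}))
    ⟨fun a b e => Subtype.ext (incl_injective (congrArg Subtype.val e)), fun g => ?_⟩
  obtain ⟨y, hy⟩ : g.1 ∈ (incl (F := F)).range := by rw [incl_range]; exact g.2.1
  exact ⟨⟨y, (key y).2 (by rw [hy]; exact g.2.2)⟩, Subtype.ext hy⟩

variable [Finite F] (p : ℕ) [Fact p.Prime] [CharP F p]
include p

/-- solvable subgroups when the degree of the field is prime -/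
theorem solvable_cases {r : ℕ} (hr : r.Prime) (hF : Nat.card F = p ^ r) (hp : p = 2 ∨ (p = 3 ∧ Odd r))
    {H : Subgroup (G2 F)} (hH : H ≤ psl F) (hs : Group.IsSolvable H) :
    (∃ z : P2 F, ∀ g ∈ H, g • z = z) ∨ (∃ a b : P2 (Kc F), GoodPair a b ∧ H ≤ pairSet a b) ∨
      (p = 3 ∧ Nat.card H = 12 ∧ ∀ k ∈ H, k ^ 2 = 1 ∨ k ^ 3 = 1) := by
  haveI := finite_G2 (F := F)
  have h4 : 4 ≤ Nat.card F := by
    rw [hF]
    calc 4 = 2 ^ 2 := rfl
      _ ≤ p ^ 2 := Nat.pow_le_pow_left (Fact.out : p.Prime).two_le 2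
      _ ≤ p ^ r := Nat.pow_le_pow_right (Fact.out : p.Prime).pos hr.two_le
  cases classify_finite p H with
  | borel x h => exact Or.inl ⟨x, h⟩
  | cyclic a b hg h hne => exact Or.inr (Or.inl ⟨a, b, hg, h.trans (pairFix_le_pairSet a b)⟩)
  | dihedral a b hg h hn hC => exact Or.inr (Or.inl ⟨a, b, hg, h⟩)
  | a4 hN h2 h3 h => exfalso; omega
  | s4 hN h2 h3 h => exfalso; omega
  | a5 hN h2 h5 h =>
    exfalso
    obtain ⟨e⟩ := h
    haveI := hs
    have h' : Group.IsSolvable (alternatingGroup (Fin 5)) :=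
      Group.isSolvable_of_surjective (f := e.toMonoidHom) e.surjective
    haveI : IsSimpleGroup (alternatingGroup (Fin 5)) := alternatingGroup.isSimpleGroup_five
    have hcomm := IsSimpleGroup.comm_iff_isSolvable.2 h'
    revert hcomm
    decide +kernel
  | subfield σ F1 h3 h =>
    obtain ⟨m, hm, hmc⟩ := exists_card_pow F1
    obtain ⟨n, hn, hnc⟩ := card_eq_pow (F := F1) p
    have hnm : n * m = r := by
      refine Nat.pow_right_injective (Fact.out : p.Prime).two_le ?_
      show p ^ (n * m) = p ^ r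
      rw [pow_mul, ← hnc, hmc, hF]
    rcases (Nat.dvd_prime hr).1 (Dvd.intro m hnm) with hn1 | hnr
    · -- the prime field
      subst hn1
      rw [one_mul] at hnm
      rw [pow_one] at hnc
      rcases hp with hp2 | ⟨hp3, hodd⟩
      · exfalso; omega
      right; right
      refine ⟨hp3, ?_⟩
      refine (fun hh => ⟨hh.1, hh.2⟩) (?_ : Nat.card H = 12 ∧ ∀ k ∈ H, k ^ 2 = 1 ∨ k ^ 3 = 1)
      have hle : conjG σ H ≤ psl F := by
        rintro _ ⟨g, hg, rfl⟩
        exact (psl_normal F).conj_mem _ (hH hg) σ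
      have hmodd : Odd m := hnm ▸ hodd
      have he : conjG σ H = pslSub F1 := by
        rcases h with h | ⟨-, h⟩
        · have e2 := pglSub_inf_psl F1 hmc hmodd
          rw [← e2, show pglSub F1 = conjG σ H from h.symm, inf_eq_left.2 hle]
        · exact h
      have hc : Nat.card H = Nat.card (conjG σ H) := Nat.card_congr (conjEquiv σ H).toEquiv
      have := card_pslSub F1
      rw [card_pglSub, ← he, ← hc, hnc, hp3] at this
      norm_num at this
      refine ⟨by omega, fun k hk => ?_⟩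
      have hm' : MulAut.conj σ k ∈ pslSub F1 := he ▸ ⟨k, hk, rfl⟩
      obtain ⟨k1, hk1, hk1'⟩ := hm'
      have ho : orderOf k = orderOf k1 := by
        rw [← MulEquiv.orderOf_eq (MulAut.conj σ) k, ← hk1', orderOf_injective _ (mapG_injective _)]
      have h3' : Nat.card F1 = 3 := hnc.trans hp3
      rcases psl_order_cases p hk1 with e | e | e
      · left; rw [h3'] at e; norm_num at e
        rw [e, orderOf_one] at ho
        rw [orderOf_eq_one_iff.1 ho, one_pow]
      · left; rw [h3'] at e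
        exact orderOf_dvd_iff_pow_eq_one.1 ((dvd_of_eq ho).trans (by simpa using e))
      · right
        exact orderOf_dvd_iff_pow_eq_one.1 (dvd_of_eq (ho.trans (e.trans hp3)))
    · -- the whole field
      exfalso
      subst hnr
      have hcard : Nat.card F1 = Nat.card F := by rw [hnc, hF]
      have htop : F1 = ⊤ := SetLike.coe_injective (Set.eq_of_subset_of_ncard_le (Set.subset_univ _) (by
        rw [Subfield.coe_top, Set.ncard_univ, ← Nat.card_coe_set_eq]; exact hcard.ge))
      have hsurj : Function.Bijective F1.subtype :=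
        ⟨Subtype.val_injective, fun x => ⟨⟨x, htop ▸ Subfield.mem_top x⟩, rfl⟩⟩
      have hp' : psl F ≤ conjG σ H := by
        have e := psl_map_equiv (RingEquiv.ofBijective F1.subtype hsurj)
        have e' : pslSub F1 = psl F := e
        rcases h with h | ⟨-, h⟩
        · rw [h, ← e']; exact pslSub_le_pglSub F1
        · rw [h]; exact e'.ge
      haveI := hs
      have hsc : Group.IsSolvable (conjG σ H) :=
        Group.isSolvable_of_surjective (f := (conjEquiv σ H).toMonoidHom) (conjEquiv σ H).surjective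
      haveI := solvable_of_le hsc hp'
      exact psl_not_solvable h4
        (Group.isSolvable_of_surjective (f := (pslEquiv F).symm.toMonoidHom) (pslEquiv F).symm.surjective)

omit p

/-! ### Elements of tori -/

theorem mem_pairFix_of_not_inv {a b : P2 (Kc F)} (hab : a ≠ b) {g : G2 F} (hg : g ∈ pairSet a b) (h2 : g * g ≠ 1) :
    g ∈ pairFix a b := by
  by_contra hn
  exact h2 (sq_of_swap hab hg hn)

theorem fixed_of_pairFix {a b : P2 (Kc F)} (hab : a ≠ b) {g : G2 F} (hg : g ∈ pairFix a b) (h1 : g ≠ 1)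
    {w : P2 (Kc F)} (hw : mapG (iF F) g • w = w) : w = a ∨ w = b := by
  by_contra hcon
  push Not at hcon
  exact h1 ((map_eq_one_iff _ (mapG_injective _)).1
    (eq_one_of_three hab (Ne.symm hcon.1) (Ne.symm hcon.2) hg.1 hg.2 hw))

theorem pairSet_eq {a b c d : P2 (Kc F)} (hab : a ≠ b) (hcd : c ≠ d) {g : G2 F} (hg : g ∈ pairFix a b) (h1 : g ≠ 1)
    (hg' : g ∈ pairFix c d) : pairSet c d = pairSet a b := by
  rcases fixed_of_pairFix hab hg h1 hg'.1 with rfl | rfl <;> rcases fixed_of_pairFix hab hg h1 hg'.2 with rfl | rfl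
  · exact absurd rfl hcd
  · rfl
  · ext k
    simp only [mem_pairSet]
    tauto
  · exact absurd rfl hcd

theorem card_pairSet_psl {a b : P2 (Kc F)} (hg : GoodPair a b) :
    Nat.card (pairSet a b ⊓ psl F : Subgroup (G2 F)) = 2 * Nat.card (pairFix a b ⊓ psl F : Subgroup (G2 F)) := by
  obtain ⟨w, hw, hws, hwf⟩ := exists_swap hg
  have h := (dihedral_of_le hg.1 (isCyclic_pairFix hg.1) (H := pairSet a b ⊓ psl F) inf_le_left
    (fun hle => hwf (hle ⟨hws, hw⟩))).1
  rw [h, inf_right_comm, inf_eq_right.2 (pairFix_le_pairSet a b)]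

/-- the solubilizer of a torus element that is not an involution -/
theorem sol_iff_torus {x : G2 F} (hx : x ∈ psl F) {r : ℕ} (hr : r.Prime) (p : ℕ) [Fact p.Prime] [CharP F p]
    (hF : Nat.card F = p ^ r) (hp : p = 2 ∨ (p = 3 ∧ Odd r)) {a b : P2 (Kc F)} (hg : GoodPair a b)
    (hxab : x ∈ pairFix a b) (h1 : x ≠ 1) (h2 : x * x ≠ 1) (h3 : p = 3 → x ^ 3 ≠ 1) {g : G2 F} :
    g ∈ psl F ∧ Group.IsSolvable ↥(closure ({x, g} : Set (G2 F))) ↔
      g ∈ psl F ∧ (g ∈ pairSet a b ∨ ∃ z : P2 F, (mapP (iF F) z = a ∨ mapP (iF F) z = b) ∧ g • z = z) := by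
  haveI := finite_G2 (F := F)
  constructor
  · rintro ⟨hgp, hs⟩
    refine ⟨hgp, ?_⟩
    set H := closure ({x, g} : Set (G2 F))
    have hle : H ≤ psl F := (closure_le _).2 (by rintro k (rfl | rfl) <;> assumption)
    have hxH : x ∈ H := subset_closure (by simp)
    have hgH : g ∈ H := subset_closure (by simp)
    rcases solvable_cases p hr hF hp hle hs with ⟨z, hz⟩ | ⟨c, d, hcd, hH⟩ | ⟨hp3, h12, -⟩
    · exact Or.inr ⟨z, fixed_of_pairFix hg.1 hxab h1 ((fix_map_iff x z).2 (hz x hxH)), hz g hgH⟩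
    · refine Or.inl ?_
      have hxc := mem_pairFix_of_not_inv hcd.1 (hH hxH) h2
      rw [← pairSet_eq hg.1 hcd.1 hxab h1 hxc]
      exact hH hgH
    · exfalso
      have hd : orderOf x ∣ 12 := by
        have := orderOf_dvd_natCard (⟨x, hxH⟩ : H)
        rwa [h12, Subgroup.orderOf_mk] at this
      have hnot : ¬ 3 ∣ Nat.card (pairFix a b) := hp3 ▸ not_p_dvd_torus p hg
      have hdt : orderOf x ∣ Nat.card (pairFix a b) := by
        have := orderOf_dvd_natCard (⟨x, hxab⟩ : pairFix a b)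
        rwa [Subgroup.orderOf_mk] at this
      have hd4 : orderOf x ∣ 4 := by
        have hcop : Nat.Coprime (orderOf x) 3 :=
          ((Nat.prime_three.coprime_iff_not_dvd).2 fun h => hnot (h.trans hdt)).symm
        exact hcop.dvd_of_dvd_mul_right (show orderOf x ∣ 4 * 3 from hd)
      exfalso
      have hodd : Odd (Nat.card F) := by rw [hF, hp3]; exact Odd.pow (by decide)
      have h4 : ¬ 4 ∣ orderOf x := fun h4 => by
        obtain ⟨k, hk⟩ : ∃ k, Nat.card F = 3 ^ (2 * k + 1) := by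
          rcases hp with h | ⟨-, ⟨k, hk⟩⟩
          · omega
          · exact ⟨k, by rw [hF, hp3, hk]⟩
        have hq4 : Nat.card F % 8 = 3 := by
          rw [hk, pow_succ, pow_mul, Nat.mul_mod, Nat.pow_mod]; norm_num
        have hc := card_pairFix_psl hg
        rw [gcd_odd hodd] at hc
        have hdp : orderOf x ∣ Nat.card (pairFix a b ⊓ psl F : Subgroup (G2 F)) := by
          exact (dvd_of_eq (Subgroup.orderOf_coe (⟨x, hxab, hx⟩ : (pairFix a b ⊓ psl F : Subgroup (G2 F))))).trans
            (orderOf_dvd_natCard _)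
        have h4' := h4.trans hdp
        rcases card_pairFix hg with ⟨-, hn⟩ | ⟨-, hn⟩ <;> rw [hn] at hc <;> omega
      have : orderOf x ∣ 2 := by
        have hmem : orderOf x ∈ Nat.divisors 4 := Nat.mem_divisors.2 ⟨hd4, by norm_num⟩
        rw [show Nat.divisors 4 = {1, 2, 4} by decide] at hmem
        simp only [Finset.mem_insert, Finset.mem_singleton] at hmem
        rcases hmem with e | e | e
        · rw [e]; norm_num
        · rw [e]
        · exact absurd (dvd_of_eq e.symm) h4
      exact h2 (by rw [← pow_two]; exact orderOf_dvd_iff_pow_eq_one.1 this)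
  · rintro ⟨hgp, h⟩
    refine ⟨hgp, ?_⟩
    rcases h with h | ⟨z, hz, hgz⟩
    · exact solvable_of_pairSet hg.1 ((closure_le _).2 (by
        rintro k (rfl | rfl)
        exacts [pairFix_le_pairSet a b hxab, h]))
    · have hxz : x • z = z := by
        rw [← fix_map_iff]
        rcases hz with e | e <;> rw [e]
        exacts [hxab.1, hxab.2]
      exact solvable_of_fixed (x := z) fun k hk => by
        have : closure ({x, g} : Set (G2 F)) ≤ MulAction.stabilizer (G2 F) z :=
          (closure_le _).2 (by rintro w (rfl | rfl) <;> assumption)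
        exact this hk

variable {r : ℕ}

/-- split tori -/
theorem count_split (hr : r.Prime) (p : ℕ) [Fact p.Prime] [CharP F p] (hF : Nat.card F = p ^ r)
    (hp : p = 2 ∨ (p = 3 ∧ Odd r)) (x : S2P F) (h1 : x ≠ 1) (h2 : orderOf x ≠ 2)
    (hd : orderOf x ∣ Nat.card F - 1) :
    Nat.gcd 2 (Nat.card F - 1) *
        Nat.card {y : S2P F // Group.IsSolvable ↥(closure ({x, y} : Set (S2P F)))} =
      2 * (Nat.card F * (Nat.card F - 1)) := by
  haveI := finite_G2 (F := F)
  have ho : orderOf (incl x) = orderOf x := orderOf_injective incl incl_injective x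
  have h1' : incl x ≠ 1 := fun e => h1 (incl_injective (e.trans (map_one _).symm))
  have hnp : orderOf x ≠ p := fun e => not_dvd_q_sub_one (F := F) p (e ▸ hd)
  have hn3 : p = 3 → incl x ^ 3 ≠ 1 := fun e h => hnp (by
    rw [e, ← ho]; exact orderOf_eq_prime (hp := ⟨Nat.prime_three⟩) h h1')
  have h2' : incl x * incl x ≠ 1 := fun e => h2 (by
    rw [← ho]; exact orderOf_eq_prime (by rwa [pow_two]) h1')
  obtain ⟨a, b, hg, hxab⟩ := exists_torus p h1' (ho ▸ hnp)
  obtain ⟨⟨⟨za, rfl⟩, ⟨zb, rfl⟩⟩, hc⟩ | ⟨-, hc⟩ := card_pairFix hg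
  swap
  · exfalso
    have hd' : orderOf x ∣ Nat.card F + 1 := by
      rw [← hc, ← ho]
      have := orderOf_dvd_natCard (⟨_, hxab⟩ : pairFix a b)
      rwa [Subgroup.orderOf_mk] at this
    have := Nat.dvd_sub hd' hd
    rw [show Nat.card F + 1 - (Nat.card F - 1) = 2 by have := card_pos_lt (F := F); omega] at this
    rcases (Nat.dvd_prime Nat.prime_two).1 this with e | e
    · exact h1 (orderOf_eq_one_iff.1 e)
    · exact h2 e
  have hne : za ≠ zb := fun e => hg.1 (congrArg _ e)
  set A := bor za ⊓ psl F with hA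
  set B := bor zb ⊓ psl F with hB
  set S := pairSet (mapP (iF F) za) (mapP (iF F) zb) ⊓ psl F with hS
  set T := pairFix (mapP (iF F) za) (mapP (iF F) zb) ⊓ psl F with hT
  have hset : {g : G2 F | g ∈ psl F ∧ Group.IsSolvable ↥(closure ({incl x, g} : Set (G2 F)))} =
      (A : Set (G2 F)) ∪ B ∪ S := by
    ext g
    rw [Set.mem_ofPred_eq, sol_iff_torus (incl_mem x) hr p hF hp hg hxab h1' h2' hn3]
    simp only [Set.mem_union, SetLike.mem_coe, hA, hB, hS, Subgroup.mem_inf, MulAction.mem_stabilizer_iff]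
    constructor
    · rintro ⟨hgp, h | ⟨z, hz | hz, hgz⟩⟩
      · exact Or.inr ⟨h, hgp⟩
      · exact Or.inl (Or.inl ⟨mapP_injective _ hz ▸ hgz, hgp⟩)
      · exact Or.inl (Or.inr ⟨mapP_injective _ hz ▸ hgz, hgp⟩)
    · rintro ((⟨h, hgp⟩ | ⟨h, hgp⟩) | ⟨h, hgp⟩)
      · exact ⟨hgp, Or.inr ⟨za, Or.inl rfl, h⟩⟩
      · exact ⟨hgp, Or.inr ⟨zb, Or.inr rfl, h⟩⟩
      · exact ⟨hgp, Or.inl h⟩
  have hmemT : ∀ g, g ∈ T ↔ (g • za = za ∧ g • zb = zb) ∧ g ∈ psl F := fun g => by
    simp only [hT, Subgroup.mem_inf, mem_pairFix, fix_map_iff]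
  have hAB : (A : Set (G2 F)) ∩ B = T := by
    ext g
    simp only [Set.mem_inter_iff, SetLike.mem_coe, hmemT, hA, hB, Subgroup.mem_inf, MulAction.mem_stabilizer_iff]
    tauto
  have hABS : ((A : Set (G2 F)) ∪ B) ∩ S = T := by
    ext g
    simp only [Set.mem_inter_iff, Set.mem_union, SetLike.mem_coe, hmemT, hA, hB, hS, Subgroup.mem_inf,
      MulAction.mem_stabilizer_iff, mem_pairSet, fix_map_iff]
    constructor
    · rintro ⟨h, hs | hs, hgp⟩
      · exact ⟨hs, hgp⟩
      · exfalso
        rw [map_smul_pt, map_smul_pt] at hs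
        rcases h with ⟨h, -⟩ | ⟨h, -⟩
        · exact hne ((h.symm).trans (mapP_injective _ hs.1))
        · exact hne ((mapP_injective _ hs.2).symm.trans h)
    · rintro ⟨⟨ha, hb⟩, hgp⟩
      exact ⟨Or.inl ⟨ha, hgp⟩, Or.inl ⟨ha, hb⟩, hgp⟩
  have hA' : Nat.gcd 2 (Nat.card F - 1) * Nat.card A = _ := card_bor_psl za
  have hB' : Nat.gcd 2 (Nat.card F - 1) * Nat.card B = _ := card_bor_psl zb
  have hST : Nat.card S = 2 * Nat.card T := card_pairSet_psl hg
  have e1 := Set.ncard_union_add_ncard_inter (A : Set (G2 F)) B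
  have e2 := Set.ncard_union_add_ncard_inter ((A : Set (G2 F)) ∪ B) S
  rw [hAB] at e1
  rw [hABS] at e2
  simp only [← Nat.card_coe_set_eq, SetLike.coe_sort_coe] at e1 e2
  rw [card_sol, hset, ← Nat.card_coe_set_eq]
  have e3 : Nat.card ↑((A : Set (G2 F)) ∪ B ∪ S) = Nat.card A + Nat.card B := by omega
  rw [e3, mul_add, hA', hB', two_mul]

/-- non-split tori -/
theorem count_ell (hr : r.Prime) (p : ℕ) [Fact p.Prime] [CharP F p] (hF : Nat.card F = p ^ r)
    (hp : p = 2 ∨ (p = 3 ∧ Odd r)) (x : S2P F) (h1 : x ≠ 1) (h2 : orderOf x ≠ 2)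
    (hd : orderOf x ∣ Nat.card F + 1) :
    Nat.gcd 2 (Nat.card F - 1) *
        Nat.card {y : S2P F // Group.IsSolvable ↥(closure ({x, y} : Set (S2P F)))} =
      2 * (Nat.card F + 1) := by
  haveI := finite_G2 (F := F)
  have ho : orderOf (incl x) = orderOf x := orderOf_injective incl incl_injective x
  have h1' : incl x ≠ 1 := fun e => h1 (incl_injective (e.trans (map_one _).symm))
  have hnp : orderOf x ≠ p := fun e => not_dvd_q_add_one (F := F) p (e ▸ hd)
  have hn3 : p = 3 → incl x ^ 3 ≠ 1 := fun e h => hnp (by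
    rw [e, ← ho]; exact orderOf_eq_prime (hp := ⟨Nat.prime_three⟩) h h1')
  have h2' : incl x * incl x ≠ 1 := fun e => h2 (by
    rw [← ho]; exact orderOf_eq_prime (by rwa [pow_two]) h1')
  obtain ⟨a, b, hg, hxab⟩ := exists_torus p h1' (ho ▸ hnp)
  obtain ⟨-, hc⟩ | ⟨⟨ha, hb⟩, hc⟩ := card_pairFix hg
  · exfalso
    have hd' : orderOf x ∣ Nat.card F - 1 := by
      rw [← hc, ← ho]
      have := orderOf_dvd_natCard (⟨_, hxab⟩ : pairFix a b)
      rwa [Subgroup.orderOf_mk] at this
    have := Nat.dvd_sub hd hd'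
    rw [show Nat.card F + 1 - (Nat.card F - 1) = 2 by have := card_pos_lt (F := F); omega] at this
    rcases (Nat.dvd_prime Nat.prime_two).1 this with e | e
    · exact h1 (orderOf_eq_one_iff.1 e)
    · exact h2 e
  have hset : {g : G2 F | g ∈ psl F ∧ Group.IsSolvable ↥(closure ({incl x, g} : Set (G2 F)))} =
      ((pairSet a b ⊓ psl F : Subgroup (G2 F)) : Set (G2 F)) := by
    ext g
    rw [Set.mem_ofPred_eq, sol_iff_torus (incl_mem x) hr p hF hp hg hxab h1' h2' hn3]
    simp only [SetLike.mem_coe, Subgroup.mem_inf]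
    constructor
    · rintro ⟨hgp, h | ⟨z, hz | hz, -⟩⟩
      · exact ⟨h, hgp⟩
      · exact absurd ⟨z, hz⟩ ha
      · exact absurd ⟨z, hz⟩ hb
    · exact fun h => ⟨h.2, Or.inl h.1⟩
  rw [card_sol, hset, ← Nat.card_coe_set_eq]
  show _ * Nat.card (pairSet a b ⊓ psl F : Subgroup (G2 F)) = _
  rw [card_pairSet_psl hg, ← hc, ← card_pairFix_psl hg]
  ring

/-- involutions in characteristic two -/
theorem count_involution_even (hr : r.Prime) [CharP F 2] (hF : Nat.card F = 2 ^ r) (x : S2P F) (h2 : orderOf x = 2) :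
    Nat.card {y : S2P F // Group.IsSolvable ↥(closure ({x, y} : Set (S2P F)))} =
      3 * Nat.card F * (Nat.card F - 1) := by
  haveI := finite_G2 (F := F)
  haveI : Fact (Nat.Prime 2) := ⟨Nat.prime_two⟩
  have he : Even (Nat.card F) := by rw [hF]; exact Nat.even_pow.2 ⟨even_two, hr.ne_zero⟩
  have htop := psl_eq_top (F := F) he
  set u := incl x with hu
  have hou : orderOf u = 2 := (orderOf_injective incl incl_injective x).trans h2
  have huu : u * u = 1 := by rw [← pow_two]; exact (orderOf_eq_prime_iff.1 hou).1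
  have hu1 : u ≠ 1 := fun e => by rw [e, orderOf_one] at hou; omega
  obtain ⟨z, hz⟩ : ∃ z : P2 F, u • z = z := by
    by_contra hcon
    push Not at hcon
    have := orderOf_dvd_of_free hcon
    rw [hou] at this
    obtain ⟨k, hk⟩ := he
    omega
  obtain ⟨σ, hσ⟩ := exists_move_ip z
  have hpowz : ∀ w : P2 F, u • w = w → w = z := by
    obtain ⟨t, c, htc⟩ := exists_of_fix_ip (g := σ * u * σ⁻¹) (by rw [conj_smul_eq hσ, hz, hσ])
    have hsq : tr t * di c * (tr t * di c) = tr 0 * di 1 := by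
      rw [← htc, conj_mul, huu, mul_one, mul_inv_cancel, tr_zero, di_one, one_mul]
    rw [trdi_mul] at hsq
    have hc : c = 1 := Units.ext (CharTwo.sq_injective (R := F) (by
      simpa [pow_two] using congrArg Units.val (trdi_inj hsq).2))
    have ht : t ≠ 0 := fun e => hu1 (by
      rw [e, hc, tr_zero, di_one, one_mul, conj_eq_one_iff] at htc
      exact htc)
    intro w hw
    apply MulAction.injective σ
    show σ • w = σ • z
    rw [hσ]
    refine (single_fix_iff t c).2 ⟨hc, ht⟩ _ ?_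
    rw [← htc, conj_smul_eq rfl, hw]
  have hset : {g : G2 F | g ∈ psl F ∧ Group.IsSolvable ↥(closure ({u, g} : Set (G2 F)))} =
      (bor z : Set (G2 F)) ∪ {g | g * g = 1 ∧ g • z ≠ z} ∪ {g | u * g * (u * g) = 1 ∧ g • z ≠ z} := by
    ext g
    simp only [Set.mem_union, SetLike.mem_coe, MulAction.mem_stabilizer_iff, Set.mem_ofPred_eq]
    constructor
    · rintro ⟨-, hs⟩
      by_cases hgz : g • z = z
      · exact Or.inl (Or.inl hgz)
      set H := closure ({u, g} : Set (G2 F))
      rcases solvable_cases 2 hr hF (Or.inl rfl) (htop ▸ le_top : H ≤ psl F) hs with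
        ⟨w, hw⟩ | ⟨a, b, hab, hH⟩ | ⟨h, -, -⟩
      · exact absurd (hpowz w (hw u (subset_closure (by simp))) ▸ hw g (subset_closure (by simp))) hgz
      · have huS := hH (subset_closure (by simp) : u ∈ H)
        have hgS := hH (subset_closure (by simp) : g ∈ H)
        have hun : u ∉ pairFix a b := fun h => not_p_dvd_torus 2 hab (by
          have := orderOf_dvd_natCard (⟨u, h⟩ : pairFix a b)
          rwa [Subgroup.orderOf_mk, hou] at this)
        by_cases hgF : g ∈ pairFix a b
        · refine Or.inr ⟨sq_of_swap hab.1 (mul_mem huS hgS) fun h => hun ?_, hgz⟩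
          exact (Subgroup.mul_mem_cancel_right _ hgF).1 h
        · exact Or.inl (Or.inr ⟨sq_of_swap hab.1 hgS hgF, hgz⟩)
      · omega
    · intro h
      refine ⟨htop ▸ Subgroup.mem_top g, ?_⟩
      rcases h with (h | ⟨h, -⟩) | ⟨h, -⟩
      · refine solvable_of_fixed (x := z) fun k hk => ?_
        have : closure ({u, g} : Set (G2 F)) ≤ MulAction.stabilizer (G2 F) z :=
          (closure_le _).2 (by rintro w (rfl | rfl) <;> assumption)
        exact this hk
      · exact solvable_two_two huu h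
      · refine solvable_of_le (solvable_two_two huu h) ((closure_le _).2 ?_)
        rintro w (rfl | rfl)
        · exact subset_closure (by simp)
        · have : u * (u * w) ∈ closure ({u, u * w} : Set (G2 F)) :=
            mul_mem (subset_closure (by simp)) (subset_closure (by simp))
          rwa [← mul_assoc, huu, one_mul] at this
  have hI : {g : G2 F | g * g = 1 ∧ g • z ≠ z}.ncard = Nat.card F * (Nat.card F - 1) := by
    rw [← Nat.card_coe_set_eq, ← Nat.card_units, ← Nat.card_prod, eq_comm]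
    have hz' : σ⁻¹ • (ip : P2 F) = z := by rw [← hσ, inv_smul_smul]
    let f : F × Fˣ → {g : G2 F | g * g = 1 ∧ g • z ≠ z} := fun s =>
      ⟨σ⁻¹ * (tr s.1 * iv s.2 * tr (-s.1)) * σ, by
        refine ⟨?_, fun e => ?_⟩
        · calc σ⁻¹ * (tr s.1 * iv s.2 * tr (-s.1)) * σ * (σ⁻¹ * (tr s.1 * iv s.2 * tr (-s.1)) * σ)
              = σ⁻¹ * (tr s.1 * (iv s.2 * (tr (-s.1) * tr s.1) * iv s.2) * tr (-s.1)) * σ := by group
            _ = 1 := by
              rw [tr_mul, neg_add_cancel, tr_zero, mul_one, iv_sq, mul_one, tr_mul, add_neg_cancel, tr_zero,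
                mul_one, inv_mul_cancel]
        · rw [mul_smul, mul_smul, mul_smul, mul_smul, hσ, tr_ip, iv_ip, tr_fp, zero_add, inv_smul_eq_iff, hσ] at e
          exact fp_ne_ip _ e⟩
    refine Nat.card_eq_of_bijective f ⟨fun s s' e => ?_, fun g => ?_⟩
    · have e' := mul_left_cancel (mul_right_cancel (congrArg Subtype.val e))
      have h1 := congrArg (fun k : G2 F => k • (ip : P2 F)) e'
      simp only [mul_smul, tr_ip, iv_ip, tr_fp, zero_add] at h1
      have hs := fp_inj h1
      rw [hs] at e'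
      have h3 := mul_left_cancel (mul_right_cancel e')
      have h4 := congrArg (fun k : G2 F => k • fp (1 : F)) h3
      simp only [iv_fp _ one_ne_zero, div_one] at h4
      exact Prod.ext hs (Units.ext (fp_inj h4))
    · obtain ⟨g, hgg, hgz⟩ := g
      set k := σ * g * σ⁻¹ with hk
      have hkk : k * k = 1 := by rw [hk, conj_mul, hgg, mul_one, mul_inv_cancel]
      obtain h0 | ⟨s, hs⟩ := point_cases (k • (ip : P2 F))
      · rw [hk, conj_smul_eq hσ, ← hσ] at h0
        exact absurd (MulAction.injective σ h0) hgz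
      have hks : k • fp s = ip := by rw [← hs, ← mul_smul, hkk, one_smul]
      obtain ⟨b, hb⟩ := eq_iv_of_swap (g := tr (-s) * k * tr s)
        (by rw [mul_smul, mul_smul, tr_ip, hs, tr_fp, add_neg_cancel])
        (by rw [mul_smul, mul_smul, tr_fp, zero_add, hks, tr_ip])
      refine ⟨(s, b), Subtype.ext ?_⟩
      show σ⁻¹ * (tr s * iv b * tr (-s)) * σ = g
      rw [← hb, ← tr_inv, hk]
      group
  have hshift : {g : G2 F | u * g * (u * g) = 1 ∧ g • z ≠ z} =
      (u * ·) '' {g : G2 F | g * g = 1 ∧ g • z ≠ z} := by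
    have hmz : ∀ g : G2 F, (u * g) • z = z ↔ g • z = z := fun g => by
      rw [mul_smul]
      constructor
      · intro e
        exact MulAction.injective u (e.trans hz.symm)
      · intro e; rw [e, hz]
    ext g
    simp only [Set.mem_ofPred_eq, Set.mem_image]
    constructor
    · rintro ⟨h, hgz⟩
      exact ⟨u * g, ⟨h, fun e => hgz ((hmz g).1 e)⟩, by rw [← mul_assoc, huu, one_mul]⟩
    · rintro ⟨k, ⟨hk, hkz⟩, rfl⟩
      exact ⟨by rw [← mul_assoc u u k, huu, one_mul, hk], fun e => hkz ((hmz k).1 e)⟩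
  have hd1 : Disjoint (bor z : Set (G2 F)) {g | g * g = 1 ∧ g • z ≠ z} :=
    Set.disjoint_left.2 fun g hg h => h.2 hg
  have hd2 : Disjoint ((bor z : Set (G2 F)) ∪ {g | g * g = 1 ∧ g • z ≠ z}) {g | u * g * (u * g) = 1 ∧ g • z ≠ z} := by
    refine Set.disjoint_left.2 ?_
    rintro g (hg | ⟨hgg, hgz⟩) ⟨h, hgz'⟩
    · exact hgz' hg
    · apply hgz
      have hgi : g⁻¹ = g := inv_eq_of_mul_eq_one_right hgg
      have hui : u⁻¹ = u := inv_eq_of_mul_eq_one_right huu
      have hc : u * g = g * u := by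
        have := inv_eq_of_mul_eq_one_right h
        rw [_root_.mul_inv_rev, hgi, hui] at this
        exact this.symm
      refine hpowz _ ?_
      rw [← mul_smul, hc, mul_smul, hz]
  rw [card_sol, hset, Set.ncard_union_eq hd2, Set.ncard_union_eq hd1, hshift,
    Set.ncard_image_of_injective _ (mul_right_injective u), hI, ← Nat.card_coe_set_eq]
  show Nat.card (bor z) + _ + _ = _
  rw [card_bor]
  ring

end CfsgLib.Perm.Dickson.Solub
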