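import Cfsg.Agent.Lib.Perm.Dickson.Solubilizer

/-!
# Solubilizers of involutions and of elements of order three in PSL(2, 3 ^ p)
-/

set_option autoImplicit false
set_option linter.all false

namespace CfsgLib.Perm.Dickson.Solub

open Matrix Subgroup

variable {F : Type*} [Field F]

local notation "SL2" => Matrix.SpecialLinearGroup (Fin 2) F

/-- the class of a special matrix -/
noncomputable def mkS : SL2 →* G2 F := ProjGenLinGroup.mk.comp Matrix.SpecialLinearGroup.toGL

theorem mkS_range : (mkS (F := F)).range = psl F := rfl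

/-- the special matrix with the given rows -/
def mat (a b c d : F) (h : a * d - b * c = 1) : SL2 := ⟨!![a, b; c, d], by rw [Matrix.det_fin_two_of]; exact h⟩

@[simp] theorem mat_val (a b c d : F) (h : a * d - b * c = 1) : (mat a b c d h).1 = !![a, b; c, d] := rfl

theorem det_eq (A : SL2) : A.1 0 0 * A.1 1 1 - A.1 0 1 * A.1 1 0 = 1 := by
  rw [← Matrix.det_fin_two]; exact A.2

theorem mkS_eq_iff {A B : SL2} : mkS A = mkS B ↔ B = A ∨ B = -A := by
  constructor
  · intro h
    obtain ⟨k, hk⟩ := ProjGenLinGroup.mk_eq_mk_iff.1 h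
    have hkm : ∀ i j, A.1 i j * (k : F) = B.1 i j := fun i j => by
      have := congrArg (fun M : GL (Fin 2) F => M.1 i j) hk
      simpa [Matrix.SpecialLinearGroup.toGL] using this
    have hd := det_eq B
    rw [← hkm, ← hkm, ← hkm, ← hkm] at hd
    have hk2 : (k : F) * k = 1 := by linear_combination hd - ((k : F) * k) * det_eq A
    rcases mul_self_eq_one_iff.1 hk2 with e | e
    · exact Or.inl (Subtype.ext (Matrix.ext fun i j => by rw [← hkm, e, mul_one]))
    · exact Or.inr (Subtype.ext (Matrix.ext fun i j => by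
        rw [← hkm, e, Matrix.SpecialLinearGroup.coe_neg, Matrix.neg_apply, mul_neg_one]))
  · rintro (rfl | rfl)
    · rfl
    · refine ProjGenLinGroup.mk_eq_mk_iff.2 ⟨-1, Units.ext (Matrix.ext fun i j => ?_)⟩
      simp [Matrix.SpecialLinearGroup.toGL]

theorem mkS_eq_one_iff {A : SL2} : mkS A = 1 ↔ A.1 0 1 = 0 ∧ A.1 1 0 = 0 ∧ A.1 0 0 = A.1 1 1 := by
  rw [← map_one (mkS (F := F)), eq_comm, mkS_eq_iff]
  constructor
  · rintro (rfl | rfl) <;> simp
  · rintro ⟨hb, hc, hd⟩
    have := det_eq A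
    rw [hb, hc, ← hd, mul_zero, sub_zero] at this
    rcases mul_self_eq_one_iff.1 this with e | e
    · left; ext i j; fin_cases i <;> fin_cases j <;> simp [hb, hc, ← hd, e]
    · right; ext i j; fin_cases i <;> fin_cases j <;> simp [hb, hc, ← hd, e]

theorem sq_iff {A : SL2} : mkS A ^ 2 = 1 ↔
    A.1 0 0 + A.1 1 1 = 0 ∨ (A.1 0 1 = 0 ∧ A.1 1 0 = 0 ∧ A.1 0 0 = A.1 1 1) := by
  rw [← map_pow, mkS_eq_one_iff, Matrix.SpecialLinearGroup.coe_pow, pow_two]
  simp only [Matrix.mul_apply, Fin.sum_univ_two]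
  constructor
  · rintro ⟨hb, hc, hd⟩
    by_cases ht : A.1 0 0 + A.1 1 1 = 0
    · exact Or.inl ht
    · refine Or.inr ⟨?_, ?_, ?_⟩
      · exact (mul_eq_zero.1 (show A.1 0 1 * (A.1 0 0 + A.1 1 1) = 0 by linear_combination hb)).resolve_right ht
      · exact (mul_eq_zero.1 (show A.1 1 0 * (A.1 0 0 + A.1 1 1) = 0 by linear_combination hc)).resolve_right ht
      · exact sub_eq_zero.1 ((mul_eq_zero.1
          (show (A.1 0 0 - A.1 1 1) * (A.1 0 0 + A.1 1 1) = 0 by linear_combination hd)).resolve_right ht)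
  · rintro (ht | ⟨hb, hc, hd⟩)
    · exact ⟨by linear_combination (A.1 0 1) * ht, by linear_combination (A.1 1 0) * ht,
        by linear_combination (A.1 0 0 - A.1 1 1) * ht⟩
    · simp [hb, hc, hd]

theorem cube_iff {A : SL2} : mkS A ^ 3 = 1 ↔
    (A.1 0 0 + A.1 1 1) ^ 2 = 1 ∨ (A.1 0 1 = 0 ∧ A.1 1 0 = 0 ∧ A.1 0 0 = A.1 1 1) := by
  rw [← map_pow, mkS_eq_one_iff, Matrix.SpecialLinearGroup.coe_pow, pow_succ, pow_two]
  simp only [Matrix.mul_apply, Fin.sum_univ_two]
  have hdet := det_eq A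
  constructor
  · rintro ⟨hb, hc, hd⟩
    by_cases ht : (A.1 0 0 + A.1 1 1) ^ 2 = 1
    · exact Or.inl ht
    · have ht' : (A.1 0 0 + A.1 1 1) ^ 2 - 1 ≠ 0 := sub_ne_zero.2 ht
      refine Or.inr ⟨?_, ?_, ?_⟩
      · exact (mul_eq_zero.1 (show A.1 0 1 * ((A.1 0 0 + A.1 1 1) ^ 2 - 1) = 0 by
          linear_combination hb + A.1 0 1 * hdet)).resolve_right ht'
      · exact (mul_eq_zero.1 (show A.1 1 0 * ((A.1 0 0 + A.1 1 1) ^ 2 - 1) = 0 by
          linear_combination hc + A.1 1 0 * hdet)).resolve_right ht'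
      · exact sub_eq_zero.1 ((mul_eq_zero.1 (show (A.1 0 0 - A.1 1 1) * ((A.1 0 0 + A.1 1 1) ^ 2 - 1) = 0 by
          linear_combination hd + (A.1 0 0 - A.1 1 1) * hdet)).resolve_right ht')
  · rintro (ht | ⟨hb, hc, hd⟩)
    · refine ⟨?_, ?_, ?_⟩
      · linear_combination A.1 0 1 * ht - A.1 0 1 * hdet
      · linear_combination A.1 1 0 * ht - A.1 1 0 * hdet
      · linear_combination (A.1 0 0 - A.1 1 1) * ht - (A.1 0 0 - A.1 1 1) * hdet
    · simp [hb, hc, hd]

variable [Finite F]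

/-- each element of PSL(2) has two matrices -/
theorem ncard_double (h2 : (2 : F) ≠ 0) (P : G2 F → Prop) :
    {A : SL2 | P (mkS A)}.ncard = 2 * {g : G2 F | g ∈ psl F ∧ P g}.ncard := by
  classical
  haveI := finite_G2 (F := F)
  haveI := Fintype.ofFinite SL2
  haveI := Fintype.ofFinite (G2 F)
  rw [Set.ncard_eq_toFinset_card', Set.ncard_eq_toFinset_card', mul_comm]
  refine (Finset.card_eq_sum_card_fiberwise (f := mkS) fun A hA => ?_).trans (Finset.sum_const_nat ?_)
  · simp only [Finset.mem_coe, Set.mem_toFinset, Set.mem_ofPred_eq] at hA ⊢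
    exact ⟨⟨A, rfl⟩, hA⟩
  · intro g hg
    rw [Set.mem_toFinset, Set.mem_ofPred_eq] at hg
    obtain ⟨A, hA⟩ : g ∈ (mkS (F := F)).range := by rw [mkS_range]; exact hg.1
    have hne : A ≠ -A := fun e => by
      have e' : ∀ i j, A.1 i j = 0 := fun i j => by
        have hh := congrArg (fun M : SL2 => M.1 i j) e
        simp only [Matrix.SpecialLinearGroup.coe_neg, Matrix.neg_apply] at hh
        exact (mul_eq_zero.1 (show (2 : F) * A.1 i j = 0 by linear_combination hh)).resolve_left h2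
      have := det_eq A
      rw [e' 0 0, e' 0 1] at this
      simp at this
    rw [show (Finset.filter (fun B => mkS B = g) {A : SL2 | P (mkS A)}.toFinset) = {A, -A} from ?_,
      Finset.card_pair hne]
    ext B
    simp only [Finset.mem_filter, Set.mem_toFinset, Set.mem_ofPred_eq, Finset.mem_insert, Finset.mem_singleton]
    constructor
    · rintro ⟨-, hB⟩
      exact mkS_eq_iff.1 (hA.trans hB.symm)
    · intro hB
      have e : mkS B = g := (mkS_eq_iff.2 hB).symm.trans hA
      exact ⟨by rw [e]; exact hg.2, e⟩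

/-! ### The circle -/

section Circle

variable (hm : ¬ IsSquare (-1 : F))
include hm

theorem circle_zero {s w : F} (h : s ^ 2 + w ^ 2 = 0) : s = 0 ∧ w = 0 := by
  by_cases hw : w = 0
  · subst hw; exact ⟨pow_eq_zero_iff two_ne_zero |>.1 (by linear_combination h), rfl⟩
  · exact absurd ⟨s / w, by field_simp; linear_combination -h⟩ hm

theorem ncard_circle (h2 : (2 : F) ≠ 0) {c : F} (hc : c ≠ 0) :
    {x : F × F | x.1 ^ 2 + x.2 ^ 2 = c}.ncard = Nat.card F + 1 := by
  classical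
  have hall : ∀ d : F, d ≠ 0 →
      {x : F × F | x.1 ^ 2 + x.2 ^ 2 = d}.ncard = {x : F × F | x.1 ^ 2 + x.2 ^ 2 = 1}.ncard := by
    intro d hd
    obtain ⟨s0, w0, h0⟩ := exists_sq_add (α := (1 : F)) (β := 1) h2 one_ne_zero one_ne_zero d
    rw [one_mul, one_mul] at h0
    rw [← Set.ncard_image_of_injective {x : F × F | x.1 ^ 2 + x.2 ^ 2 = 1}
      (f := fun x : F × F => (s0 * x.1 - w0 * x.2, s0 * x.2 + w0 * x.1)) fun x y e => ?_]
    · congr 1
      ext ⟨s, w⟩
      simp only [Set.mem_image, Set.mem_ofPred_eq, Prod.mk.injEq, Prod.exists]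
      constructor
      · intro h
        refine ⟨(s0 * s + w0 * w) / d, (s0 * w - w0 * s) / d, ?_, ?_, ?_⟩
        · field_simp
          linear_combination (s0 ^ 2 + w0 ^ 2) * h + d * h0
        · field_simp
          linear_combination s * h0
        · field_simp
          linear_combination w * h0
      · rintro ⟨a, b, hab, rfl, rfl⟩
        linear_combination (s0 ^ 2 + w0 ^ 2) * hab + h0
    · simp only [Prod.mk.injEq] at e
      have e1 : d * (x.1 - y.1) = 0 := by linear_combination s0 * e.1 + w0 * e.2 - (x.1 - y.1) * h0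
      have e2 : d * (x.2 - y.2) = 0 := by linear_combination s0 * e.2 - w0 * e.1 - (x.2 - y.2) * h0
      exact Prod.ext (sub_eq_zero.1 ((mul_eq_zero.1 e1).resolve_left hd))
        (sub_eq_zero.1 ((mul_eq_zero.1 e2).resolve_left hd))
  rw [hall c hc]
  set N := {x : F × F | x.1 ^ 2 + x.2 ^ 2 = 1}.ncard with hN
  haveI := Fintype.ofFinite F
  have hsum : Fintype.card (F × F) = ∑ d : F, {x : F × F | x.1 ^ 2 + x.2 ^ 2 = d}.ncard := by
    rw [← Finset.card_univ, Finset.card_eq_sum_card_fiberwise (f := fun x : F × F => x.1 ^ 2 + x.2 ^ 2)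
      (t := Finset.univ) (by simp)]
    exact Finset.sum_congr rfl fun d _ => by rw [Set.ncard_eq_toFinset_card']; congr 1; ext; simp
  rw [← Finset.add_sum_erase _ _ (Finset.mem_univ (0 : F)),
    Finset.sum_congr rfl (fun d hd => hall d (Finset.ne_of_mem_erase hd)), Finset.sum_const,
    Finset.card_erase_of_mem (Finset.mem_univ _), Finset.card_univ, Fintype.card_prod, smul_eq_mul,
    show {x : F × F | x.1 ^ 2 + x.2 ^ 2 = 0} = {(0, 0)} from Set.ext fun x =>
      ⟨fun h => Prod.ext (circle_zero hm h).1 (circle_zero hm h).2, fun h => by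
        rw [Set.mem_singleton_iff] at h; subst h; simp⟩, Set.ncard_singleton] at hsum
  rw [Nat.card_eq_fintype_card]
  obtain ⟨k, hk⟩ : ∃ k, Fintype.card F = k + 2 := ⟨_, (Nat.sub_add_cancel Fintype.one_lt_card).symm⟩
  rw [hk, show k + 2 - 1 = k + 1 by omega] at hsum
  rw [hk]
  refine Nat.eq_of_mul_eq_mul_left (show 0 < k + 1 by omega) ?_
  nlinarith [hsum]

theorem ncard_circle_ne (h2 : (2 : F) ≠ 0) {c : F} (h : c ≠ 0) :
    {x : F × F | x.1 ^ 2 + x.2 ^ 2 = c ∧ x ≠ (0, 0)}.ncard = Nat.card F + 1 := by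
    rw [show {x : F × F | x.1 ^ 2 + x.2 ^ 2 = c ∧ x ≠ (0, 0)} = {x : F × F | x.1 ^ 2 + x.2 ^ 2 = c} from
      Set.ext fun x => ⟨And.left, fun hx => ⟨hx, fun e => h (by
        rw [Set.mem_ofPred_eq, e] at hx; simpa using hx.symm)⟩⟩, ncard_circle hm h2 h]

end Circle

/-! ### Characteristic three -/

variable [CharP F 3]

omit [Finite F] in
theorem three_zero : (3 : F) = 0 := by exact_mod_cast CharP.cast_eq_zero F 3

omit [Finite F] in
theorem two_ne : (2 : F) ≠ 0 := fun h => one_ne_zero (α := F) (by linear_combination three_zero (F := F) - h)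

omit [Finite F] in
theorem conj_solvable {σ u g : G2 F} (h : Group.IsSolvable ↥(closure ({u, g} : Set (G2 F)))) :
    Group.IsSolvable ↥(closure ({MulAut.conj σ u, MulAut.conj σ g} : Set (G2 F))) := by
  have e : closure ({MulAut.conj σ u, MulAut.conj σ g} : Set (G2 F)) =
      (closure ({u, g} : Set (G2 F))).map (MulAut.conj σ).toMonoidHom := by
    rw [MonoidHom.map_closure, Set.image_insert_eq, Set.image_singleton]; rfl
  rw [e]
  haveI := h
  exact Group.isSolvable_of_surjective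
    (f := ((MulAut.conj σ).subgroupMap (closure ({u, g} : Set (G2 F)))).toMonoidHom)
    ((MulAut.conj σ).subgroupMap (closure ({u, g} : Set (G2 F)))).surjective

/-- conjugate elements have solubilizers of one size -/
theorem card_sol_conj (x : S2P F) (σ u : G2 F) (hu : σ * incl x * σ⁻¹ = u) :
    Nat.card {y : S2P F // Group.IsSolvable ↥(closure ({x, y} : Set (S2P F)))} =
      {g : G2 F | g ∈ psl F ∧ Group.IsSolvable ↥(closure ({u, g} : Set (G2 F)))}.ncard := by
  rw [card_sol, ← Set.ncard_image_of_injective _ (MulAut.conj σ).injective]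
  congr 1
  ext g
  constructor
  · rintro ⟨g, ⟨hg, hs⟩, rfl⟩
    refine ⟨(psl_normal F).conj_mem _ hg σ, ?_⟩
    have := conj_solvable (σ := σ) hs
    rwa [MulAut.conj_apply, hu] at this
  · rintro ⟨hg, hs⟩
    refine ⟨σ⁻¹ * g * σ, ⟨?_, ?_⟩, by rw [MulAut.conj_apply]; group⟩
    · have := (psl_normal F).conj_mem _ hg σ⁻¹
      rwa [inv_inv] at this
    · have := conj_solvable (σ := σ⁻¹) hs
      rw [MulAut.conj_apply, MulAut.conj_apply, inv_inv, ← hu] at this
      convert this using 4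
      group

variable {r : ℕ}

theorem q_mod (hodd : Odd r) (hF : Nat.card F = 3 ^ r) : Nat.card F % 4 = 3 := by
  obtain ⟨k, rfl⟩ := hodd
  rw [hF, pow_succ, pow_mul, Nat.mul_mod, Nat.pow_mod]; norm_num

theorem neg_one_nonsquare (hodd : Odd r) (hF : Nat.card F = 3 ^ r) : ¬ IsSquare (-1 : F) := by
  haveI := Fintype.ofFinite F
  rw [FiniteField.isSquare_neg_one_iff, ← Nat.card_eq_fintype_card]
  exact fun h => h (q_mod hodd hF)

/-- the standard involution -/
def J : SL2 := mat 0 (-1) 1 0 (by ring)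

omit [Finite F] [CharP F 3] in
@[simp] theorem J_val : (J : SL2).1 = !![(0 : F), -1; 1, 0] := rfl

omit [Finite F] [CharP F 3] in
theorem mkS_J : mkS (J : SL2) = iv (-1) := by
  refine congrArg ProjGenLinGroup.mk (Units.ext ?_)
  ext i j
  fin_cases i <;> fin_cases j <;> simp [J_val, GeneralLinearGroup.mkOfDetNeZero]

theorem involution_iff (hr : r.Prime) (hodd : Odd r) (hF : Nat.card F = 3 ^ r) (A : SL2) :
    Group.IsSolvable ↥(closure ({iv (-1 : Fˣ), mkS A} : Set (G2 F))) ↔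
      ((A.1 0 0 = A.1 1 1 ∧ A.1 0 1 = -A.1 1 0) ∨ A.1 0 0 + A.1 1 1 = 0 ∨ A.1 0 1 = A.1 1 0 ∨
        ((A.1 0 0 + A.1 1 1) ^ 2 = 1 ∧ (A.1 0 1 - A.1 1 0) ^ 2 = 1)) := by
  haveI := finite_G2 (F := F)
  haveI : Fact (Nat.Prime 3) := ⟨Nat.prime_three⟩
  set u := iv (-1 : Fˣ) with hu
  set g := mkS A with hg
  have hug : u * g = mkS (J * A) := by rw [map_mul, mkS_J]
  have hgu : g * u = mkS (A * J) := by rw [map_mul, mkS_J]
  have huu : u * u = 1 := iv_sq _
  have hm00 : (J * A).1 0 0 = -A.1 1 0 := by simp [Matrix.SpecialLinearGroup.coe_mul, J_val, Matrix.mul_apply, Fin.sum_univ_two]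
  have hm01 : (J * A).1 0 1 = -A.1 1 1 := by simp [Matrix.SpecialLinearGroup.coe_mul, J_val, Matrix.mul_apply, Fin.sum_univ_two]
  have hm10 : (J * A).1 1 0 = A.1 0 0 := by simp [Matrix.SpecialLinearGroup.coe_mul, J_val, Matrix.mul_apply, Fin.sum_univ_two]
  have hm11 : (J * A).1 1 1 = A.1 0 1 := by simp [Matrix.SpecialLinearGroup.coe_mul, J_val, Matrix.mul_apply, Fin.sum_univ_two]
  have hn00 : (A * J).1 0 0 = A.1 0 1 := by simp [Matrix.SpecialLinearGroup.coe_mul, J_val, Matrix.mul_apply, Fin.sum_univ_two]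
  have hn01 : (A * J).1 0 1 = -A.1 0 0 := by simp [Matrix.SpecialLinearGroup.coe_mul, J_val, Matrix.mul_apply, Fin.sum_univ_two]
  have hn10 : (A * J).1 1 0 = A.1 1 1 := by simp [Matrix.SpecialLinearGroup.coe_mul, J_val, Matrix.mul_apply, Fin.sum_univ_two]
  have hn11 : (A * J).1 1 1 = -A.1 1 0 := by simp [Matrix.SpecialLinearGroup.coe_mul, J_val, Matrix.mul_apply, Fin.sum_univ_two]
  have hcomm : u * g = g * u ↔
      ((A.1 0 0 = A.1 1 1 ∧ A.1 0 1 = -A.1 1 0) ∨ (A.1 0 0 + A.1 1 1 = 0 ∧ A.1 0 1 = A.1 1 0)) := by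
    rw [hug, hgu, mkS_eq_iff]
    constructor
    · rintro (e | e)
      · refine Or.inl ⟨?_, ?_⟩
        · rw [← hn10, e, hm10]
        · rw [← hn00, e, hm00]
      · have e1 := congrArg (fun M : SL2 => M.1 1 0) e
        have e2 := congrArg (fun M : SL2 => M.1 0 0) e
        simp only [Matrix.SpecialLinearGroup.coe_neg, Matrix.neg_apply, hm10, hn10, hm00, hn00, neg_neg] at e1 e2
        exact Or.inr ⟨by rw [e1]; ring, e2⟩
    · rintro (⟨h1, h2⟩ | ⟨h1, h2⟩)
      · left; ext i j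
        fin_cases i <;> fin_cases j <;> simp only [Fin.zero_eta, Fin.mk_one, hm00, hm01, hm10, hm11, hn00, hn01, hn10, hn11]
        · exact h2
        · rw [h1]
        · exact h1.symm
        · rw [h2]
      · right; ext i j
        fin_cases i <;> fin_cases j <;> simp only [Fin.zero_eta, Fin.mk_one, Matrix.SpecialLinearGroup.coe_neg,
          Matrix.neg_apply, hm00, hm01, hm10, hm11, hn00, hn01, hn10, hn11, neg_neg]
        · exact h2
        · linear_combination -h1
        · linear_combination h1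
        · rw [h2]
  constructor
  · intro hs
    set H := closure ({u, g} : Set (G2 F))
    have hgp : g ∈ psl F := ⟨A, rfl⟩
    have hle : H ≤ psl F := (closure_le _).2 (by
      rintro k (rfl | rfl)
      exacts [iv_neg_one_mem_psl, hgp])
    have huH : u ∈ H := subset_closure (by simp)
    have hgH : g ∈ H := subset_closure (by simp)
    have key : u * g = g * u ∨ g ^ 2 = 1 ∨ (u * g) ^ 2 = 1 ∨ (g ^ 3 = 1 ∧ (u * g) ^ 3 = 1) := by
      rcases solvable_cases 3 hr hF (Or.inr ⟨rfl, hodd⟩) hle hs with ⟨z, hz⟩ | ⟨a, b, hab, hH⟩ | ⟨-, -, h12⟩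
      · exfalso
        have hzu := hz u huH
        obtain rfl | ⟨t, rfl⟩ := point_cases z
        · rw [hu, iv_ip] at hzu; exact fp_ne_ip _ hzu
        by_cases ht : t = 0
        · subst ht; rw [hu, iv_fp_zero] at hzu; exact ip_ne_fp _ hzu
        · rw [hu, iv_fp _ ht] at hzu
          have := fp_inj hzu
          rw [Units.val_neg, Units.val_one, div_eq_iff ht] at this
          exact neg_one_nonsquare hodd hF ⟨t, this⟩
      · have huS := hH huH
        have hgS := hH hgH
        by_cases hgF : g ∈ pairFix a b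
        · by_cases huF : u ∈ pairFix a b
          · left
            letI := (isCyclic_pairFix (F := F) hab.1).commGroup
            exact congrArg Subtype.val (mul_comm (⟨u, huF⟩ : pairFix a b) ⟨g, hgF⟩)
          · right; right; left
            rw [pow_two]
            exact sq_of_swap hab.1 (mul_mem huS hgS) fun h => huF ((Subgroup.mul_mem_cancel_right _ hgF).1 h)
        · right; left
          rw [pow_two]; exact sq_of_swap hab.1 hgS hgF
      · rcases h12 g hgH with h | h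
        · exact Or.inr (Or.inl h)
        rcases h12 _ (mul_mem huH hgH) with h' | h'
        · exact Or.inr (Or.inr (Or.inl h'))
        · exact Or.inr (Or.inr (Or.inr ⟨h, h'⟩))
    have hscal : (A.1 0 1 = 0 ∧ A.1 1 0 = 0 ∧ A.1 0 0 = A.1 1 1) →
        A.1 0 0 = A.1 1 1 ∧ A.1 0 1 = -A.1 1 0 := fun ⟨hb, hc, hd⟩ => ⟨hd, by rw [hb, hc, neg_zero]⟩
    have hscal' : ((J * A).1 0 1 = 0 ∧ (J * A).1 1 0 = 0 ∧ (J * A).1 0 0 = (J * A).1 1 1) →
        A.1 0 0 = A.1 1 1 ∧ A.1 0 1 = -A.1 1 0 := by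
      rw [hm01, hm10, hm00, hm11]
      exact fun ⟨hb, hc, hd⟩ => ⟨by rw [hc, neg_eq_zero.1 hb], hd.symm⟩
    rcases key with h | h | h | ⟨h, h'⟩
    · exact (hcomm.1 h).imp id fun hh => Or.inl hh.1
    · rcases sq_iff.1 h with h | h
      exacts [Or.inr (Or.inl h), Or.inl (hscal h)]
    · rw [hug] at h
      rcases sq_iff.1 h with h | h
      · rw [hm00, hm11] at h
        exact Or.inr (Or.inr (Or.inl (by linear_combination h)))
      · exact Or.inl (hscal' h)
    · rw [hug] at h'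
      rcases cube_iff.1 h with h | h
      · rcases cube_iff.1 h' with h' | h'
        · rw [hm00, hm11] at h'
          exact Or.inr (Or.inr (Or.inr ⟨h, by linear_combination h'⟩))
        · exact Or.inl (hscal' h')
      · exact Or.inl (hscal h)
  · rintro (h | h | h | ⟨h, h'⟩)
    · exact solvable_commute (hcomm.2 (Or.inl h))
    · exact solvable_two_two huu (by rw [← pow_two]; exact sq_iff.2 (Or.inl h))
    · have hxy : (u * g) * (u * g) = 1 := by
        rw [← pow_two, hug, sq_iff]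
        exact Or.inl (by rw [hm00, hm11, h]; ring)
      refine solvable_of_le (solvable_two_two huu hxy) ((closure_le _).2 ?_)
      rintro w (rfl | rfl)
      · exact subset_closure (by simp)
      · have : u * (u * g) ∈ closure ({u, u * g} : Set (G2 F)) :=
          mul_mem (subset_closure (by simp)) (subset_closure (by simp))
        rwa [← mul_assoc, huu, one_mul] at this
    · refine solvable_two_three huu (cube_iff.2 (Or.inl h)) ?_
      rw [hug, cube_iff]
      exact Or.inl (by rw [hm00, hm11]; linear_combination h')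

/-- involutions in characteristic three -/
theorem count_involution_three (hr : r.Prime) (hodd : Odd r) (hF : Nat.card F = 3 ^ r) (x : S2P F)
    (h2 : orderOf x = 2) :
    Nat.card {y : S2P F // Group.IsSolvable ↥(closure ({x, y} : Set (S2P F)))} = Nat.card F * (Nat.card F + 1) := by
  classical
  haveI := finite_G2 (F := F)
  haveI : Fact (Nat.Prime 2) := ⟨Nat.prime_two⟩
  haveI := Fintype.ofFinite F
  have hm := neg_one_nonsquare hodd hF
  have t3 : (3 : F) = 0 := three_zero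
  have h2F : (2 : F) ≠ 0 := two_ne
  -- move the involution to the standard one
  set u := incl x with hudef
  have hou : orderOf u = 2 := (orderOf_injective incl incl_injective x).trans h2
  have huu : u * u = 1 := by rw [← pow_two]; exact (orderOf_eq_prime_iff.1 hou).1
  obtain ⟨z, hz⟩ : ∃ z : P2 F, u • z ≠ z := by
    by_contra hcon
    push Not at hcon
    have : u = 1 := eq_of_std (by rw [hcon, one_smul]) (by rw [hcon, one_smul]) (by rw [hcon, one_smul])
    rw [this, orderOf_one] at hou; omega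
  obtain ⟨σ, s1, s2⟩ := exists_move_two (Ne.symm hz)
  obtain ⟨b, hb⟩ := eq_iv_of_swap (g := σ * u * σ⁻¹) (by rw [conj_smul_eq s1, s2])
    (by rw [conj_smul_eq s2, ← mul_smul u u, huu, one_smul, s1])
  obtain ⟨c, hc⟩ := (iv_mem_psl_iff b).1 (hb ▸ (psl_normal F).conj_mem _ (incl_mem x) σ)
  have hc0 : c ≠ 0 := fun e => b.ne_zero (by rw [e, mul_zero, neg_eq_zero] at hc; exact hc)
  have hσ : (di (Units.mk0 c hc0)⁻¹ * σ) * u * (di (Units.mk0 c hc0)⁻¹ * σ)⁻¹ = iv (-1) := by
    rw [show (di (Units.mk0 c hc0)⁻¹ * σ) * u * (di (Units.mk0 c hc0)⁻¹ * σ)⁻¹ =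
      di (Units.mk0 c hc0)⁻¹ * (σ * u * σ⁻¹) * (di (Units.mk0 c hc0)⁻¹)⁻¹ by group, hb, di_inv, inv_inv]
    refine eq_of_std ?_ ?_ ?_
    · rw [mul_smul, mul_smul, di_ip, iv_ip, iv_ip, di_fp, mul_zero]
    · rw [mul_smul, mul_smul, di_fp, mul_zero, iv_fp_zero, iv_fp_zero, di_ip]
    · rw [mul_smul, mul_smul, di_fp, iv_fp _ (by simp [hc0]), di_fp, iv_fp _ one_ne_zero]
      congr 1
      simp only [Units.val_inv_eq_inv_val, Units.val_mk0, Units.val_neg, Units.val_one, mul_one, div_one]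
      field_simp
      linear_combination -hc
  have hd := ncard_double h2F (fun g => Group.IsSolvable ↥(closure ({iv (-1 : Fˣ), g} : Set (G2 F))))
  rw [card_sol_conj x _ _ hσ]
  suffices h : {A : SL2 | Group.IsSolvable ↥(closure ({iv (-1 : Fˣ), mkS A} : Set (G2 F)))}.ncard =
      2 * (Nat.card F * (Nat.card F + 1)) by omega
  rw [Set.ext fun A => involution_iff hr hodd hF A]
  -- coordinates in which the determinant is diagonal
  set P : F × F → Prop := fun w => w.1 = 0 ∨ w.2 = 0 ∨ (w.1 ^ 2 = 1 ∧ w.2 ^ 2 = 1)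
  let φ : SL2 → (F × F) × (F × F) := fun A =>
    ((A.1 0 0 + A.1 1 1, A.1 0 1 - A.1 1 0), (A.1 0 0 - A.1 1 1, A.1 0 1 + A.1 1 0))
  have hinj : Function.Injective φ := fun A B e => by
    simp only [φ, Prod.mk.injEq] at e
    obtain ⟨⟨e1, e2⟩, e3, e4⟩ := e
    ext i j
    fin_cases i <;> fin_cases j
    · show A.1 0 0 = B.1 0 0
      linear_combination -e1 - e3 + (A.1 0 0 - B.1 0 0) * t3
    · show A.1 0 1 = B.1 0 1
      linear_combination -e2 - e4 + (A.1 0 1 - B.1 0 1) * t3
    · show A.1 1 0 = B.1 1 0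
      linear_combination e2 - e4 + (A.1 1 0 - B.1 1 0) * t3
    · show A.1 1 1 = B.1 1 1
      linear_combination -e1 + e3 + (A.1 1 1 - B.1 1 1) * t3
  rw [← Set.ncard_image_of_injective _ hinj]
  have himg : φ '' {A : SL2 | (A.1 0 0 = A.1 1 1 ∧ A.1 0 1 = -A.1 1 0) ∨ A.1 0 0 + A.1 1 1 = 0 ∨
      A.1 0 1 = A.1 1 0 ∨ ((A.1 0 0 + A.1 1 1) ^ 2 = 1 ∧ (A.1 0 1 - A.1 1 0) ^ 2 = 1)} =
      {q : (F × F) × (F × F) | q.2 = (0, 0) ∧ q.1.1 ^ 2 + q.1.2 ^ 2 = 1} ∪
      {q : (F × F) × (F × F) | P q.1 ∧ q.2.1 ^ 2 + q.2.2 ^ 2 = q.1.1 ^ 2 + q.1.2 ^ 2 - 1 ∧ q.2 ≠ (0, 0)} := by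
    ext ⟨⟨α, β⟩, γ, δ⟩
    simp only [Set.mem_image, Set.mem_union, Set.mem_ofPred_eq, Prod.mk.injEq, P, ne_eq, φ]
    constructor
    · rintro ⟨A, hA, ⟨rfl, rfl⟩, rfl, rfl⟩
      have hq : (A.1 0 0 - A.1 1 1) ^ 2 + (A.1 0 1 + A.1 1 0) ^ 2 =
          (A.1 0 0 + A.1 1 1) ^ 2 + (A.1 0 1 - A.1 1 0) ^ 2 - 1 := by
        linear_combination (-1 : F) * det_eq A +
          (-(A.1 0 0 * A.1 1 1 - A.1 0 1 * A.1 1 0)) * t3
      by_cases h0 : A.1 0 0 - A.1 1 1 = 0 ∧ A.1 0 1 + A.1 1 0 = 0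
      · refine Or.inl ⟨h0, ?_⟩
        rw [h0.1, h0.2] at hq
        linear_combination -hq
      · refine Or.inr ⟨?_, hq, h0⟩
        rcases hA with ⟨h, h'⟩ | h | h | h
        · exact absurd ⟨by rw [h, sub_self], by rw [h', neg_add_cancel]⟩ h0
        · exact Or.inl h
        · exact Or.inr (Or.inl (by rw [h, sub_self]))
        · exact Or.inr (Or.inr h)
    · intro h
      have hq : γ ^ 2 + δ ^ 2 = α ^ 2 + β ^ 2 - 1 := by
        rcases h with ⟨⟨rfl, rfl⟩, h⟩ | ⟨-, h, -⟩
        · linear_combination -h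
        · exact h
      have hdet : -(α + γ) * (-(α - γ)) - (-(β + δ)) * (β - δ) = 1 := by linear_combination -hq
      have e1 : -(α + γ) + -(α - γ) = α := by linear_combination (-α) * t3
      have e2 : -(β + δ) - (β - δ) = β := by linear_combination (-β) * t3
      refine ⟨mat (-(α + γ)) (-(β + δ)) (β - δ) (-(α - γ)) hdet, ?_, ⟨e1, e2⟩,
        by show -(α + γ) - -(α - γ) = γ; linear_combination (-γ) * t3,
        by show -(β + δ) + (β - δ) = δ; linear_combination (-δ) * t3⟩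
      show (-(α + γ) = -(α - γ) ∧ -(β + δ) = -(β - δ)) ∨ -(α + γ) + -(α - γ) = 0 ∨ -(β + δ) = β - δ ∨
        ((-(α + γ) + -(α - γ)) ^ 2 = 1 ∧ (-(β + δ) - (β - δ)) ^ 2 = 1)
      rcases h with ⟨⟨rfl, rfl⟩, -⟩ | ⟨h, -, -⟩
      · left; constructor <;> ring
      · rw [e1, e2]
        rcases h with rfl | rfl | h
        · exact Or.inr (Or.inl rfl)
        · exact Or.inr (Or.inr (Or.inl (by ring)))
        · exact Or.inr (Or.inr (Or.inr h))
  have hdisj : Disjoint {q : (F × F) × (F × F) | q.2 = (0, 0) ∧ q.1.1 ^ 2 + q.1.2 ^ 2 = 1}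
      {q : (F × F) × (F × F) | P q.1 ∧ q.2.1 ^ 2 + q.2.2 ^ 2 = q.1.1 ^ 2 + q.1.2 ^ 2 - 1 ∧ q.2 ≠ (0, 0)} :=
    Set.disjoint_left.2 fun q h h' => h'.2.2 h.1
  rw [himg, Set.ncard_union_eq hdisj]
  have h1 : {q : (F × F) × (F × F) | q.2 = (0, 0) ∧ q.1.1 ^ 2 + q.1.2 ^ 2 = 1}.ncard = Nat.card F + 1 := by
    rw [show {q : (F × F) × (F × F) | q.2 = (0, 0) ∧ q.1.1 ^ 2 + q.1.2 ^ 2 = 1} =
      (fun w : F × F => (w, ((0 : F), (0 : F)))) '' {w : F × F | w.1 ^ 2 + w.2 ^ 2 = 1} from ?_,
      Set.ncard_image_of_injective _ (fun a b e => (Prod.ext_iff.1 e).1), ncard_circle hm h2F one_ne_zero]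
    ext ⟨w, v⟩
    simp only [Set.mem_ofPred_eq, Set.mem_image, Prod.mk.injEq]
    constructor
    · rintro ⟨rfl, h⟩; exact ⟨w, h, rfl, rfl⟩
    · rintro ⟨w', h, rfl, rfl⟩; exact ⟨rfl, h⟩
  have h2' : {q : (F × F) × (F × F) | P q.1 ∧ q.2.1 ^ 2 + q.2.2 ^ 2 = q.1.1 ^ 2 + q.1.2 ^ 2 - 1 ∧ q.2 ≠ (0, 0)}.ncard
      = {w : F × F | P w ∧ w.1 ^ 2 + w.2 ^ 2 ≠ 1}.ncard * (Nat.card F + 1) := by
    rw [Set.ncard_eq_toFinset_card', Set.ncard_eq_toFinset_card']
    refine (Finset.card_eq_sum_card_fiberwise (f := Prod.fst) fun q hq => ?_).trans (Finset.sum_const_nat ?_)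
    · simp only [Finset.mem_coe, Set.mem_toFinset, Set.mem_ofPred_eq] at hq ⊢
      refine ⟨hq.1, fun e => hq.2.2 ?_⟩
      have := circle_zero hm (s := q.2.1) (w := q.2.2) (by rw [hq.2.1, e, sub_self])
      exact Prod.ext this.1 this.2
    · intro w hw
      rw [Set.mem_toFinset, Set.mem_ofPred_eq] at hw
      have := ncard_circle_ne hm h2F (sub_ne_zero.2 hw.2)
      rw [Set.ncard_eq_toFinset_card'] at this
      rw [← this]
      refine Finset.card_bij (fun q _ => q.2) (fun q hq => ?_) (fun a ha b hb e => ?_) (fun v hv => ?_)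
      · simp only [Finset.mem_filter, Set.mem_toFinset, Set.mem_ofPred_eq] at hq ⊢
        obtain ⟨⟨-, hq1, hq2⟩, rfl⟩ := hq
        exact ⟨hq1, hq2⟩
      · simp only [Finset.mem_filter] at ha hb
        exact Prod.ext (ha.2.trans hb.2.symm) e
      · simp only [Set.mem_toFinset, Set.mem_ofPred_eq] at hv
        exact ⟨(w, v), by simp [hw.1, hv.1, hv.2], rfl⟩
  have h3 : {w : F × F | P w ∧ w.1 ^ 2 + w.2 ^ 2 ≠ 1}.ncard + 1 = 2 * Nat.card F := by
    have h1ne : (1 : F) ≠ -1 := fun e => h2F (by linear_combination e)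
    have hset : {w : F × F | P w ∧ w.1 ^ 2 + w.2 ^ 2 ≠ 1} =
        (fun v => ((0 : F), v)) '' ({1, -1}ᶜ : Set F) ∪ (fun u => (u, (0 : F))) '' ({0, 1, -1}ᶜ : Set F) ∪
          {((1 : F), (1 : F)), (1, -1), (-1, 1), (-1, -1)} := by
      ext ⟨α, β⟩
      simp only [P, Set.mem_ofPred_eq, Set.mem_union, Set.mem_image, Set.mem_compl_iff, Set.mem_insert_iff,
        Set.mem_singleton_iff, Prod.mk.injEq, not_or, sq_eq_one_iff]
      constructor
      · rintro ⟨h | h | ⟨h, h'⟩, hne⟩
        · refine Or.inl (Or.inl ⟨β, ⟨fun e => hne ?_, fun e => hne ?_⟩, h.symm, rfl⟩) <;> rw [h, e] <;> ring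
        · by_cases hα : α = 0
          · refine Or.inl (Or.inl ⟨0, ⟨zero_ne_one, fun e => ?_⟩, hα.symm, h.symm⟩)
            exact one_ne_zero (α := F) (by linear_combination e)
          · refine Or.inl (Or.inr ⟨α, ⟨hα, fun e => hne ?_, fun e => hne ?_⟩, rfl, h.symm⟩) <;> rw [h, e] <;> ring
        · rcases h with rfl | rfl <;> rcases h' with rfl | rfl <;> simp
      · rintro ((⟨v, ⟨hv1, hv2⟩, rfl, rfl⟩ | ⟨u, ⟨-, hu1, hu2⟩, rfl, rfl⟩) | h)
        · refine ⟨Or.inl rfl, fun e => ?_⟩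
          rcases sq_eq_one_iff.1 (show v ^ 2 = 1 by linear_combination e) with e | e
          exacts [hv1 e, hv2 e]
        · refine ⟨Or.inr (Or.inl rfl), fun e => ?_⟩
          rcases sq_eq_one_iff.1 (show u ^ 2 = 1 by linear_combination e) with e | e
          exacts [hu1 e, hu2 e]
        · rcases h with ⟨rfl, rfl⟩ | ⟨rfl, rfl⟩ | ⟨rfl, rfl⟩ | ⟨rfl, rfl⟩ <;>
            exact ⟨Or.inr (Or.inr ⟨by simp, by simp⟩), fun e => one_ne_zero (α := F) (by linear_combination e)⟩
    rw [hset, Set.ncard_union_eq, Set.ncard_union_eq, Set.ncard_image_of_injective _ (fun a b e => (Prod.ext_iff.1 e).2),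
      Set.ncard_image_of_injective _ (fun a b e => (Prod.ext_iff.1 e).1)]
    · have hA := Set.ncard_add_ncard_compl ({1, -1} : Set F)
      have hB := Set.ncard_add_ncard_compl ({0, 1, -1} : Set F)
      rw [Set.ncard_pair h1ne] at hA
      rw [Set.ncard_insert_of_notMem (by simp), Set.ncard_pair h1ne] at hB
      rw [Set.ncard_insert_of_notMem (by simp [h1ne]), Set.ncard_insert_of_notMem (by simp [h1ne]),
        Set.ncard_pair (by simp [h1ne])]
      omega
    · refine Set.disjoint_left.2 ?_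
      rintro _ ⟨v, -, rfl⟩ ⟨u, hu, e⟩
      exact hu (by simp only [Prod.mk.injEq] at e; simp [e.1])
    · refine Set.disjoint_left.2 ?_
      rintro _ (⟨v, -, rfl⟩ | ⟨u, -, rfl⟩) h <;>
        simp only [Set.mem_insert_iff, Set.mem_singleton_iff, Prod.mk.injEq] at h <;>
        simp [eq_comm] at h
  rw [h1, h2']
  calc Nat.card F + 1 + {w : F × F | P w ∧ w.1 ^ 2 + w.2 ^ 2 ≠ 1}.ncard * (Nat.card F + 1)
      = ({w : F × F | P w ∧ w.1 ^ 2 + w.2 ^ 2 ≠ 1}.ncard + 1) * (Nat.card F + 1) := by ring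
    _ = 2 * (Nat.card F * (Nat.card F + 1)) := by rw [h3]; ring

/-! ### Elements of order three -/

theorem zmod_key : ∀ a b : ZMod 3, a ≠ 0 → 0 * b - -a * a = 1 := by decide

theorem order_three_iff (hr : r.Prime) (hodd : Odd r) (hF : Nat.card F = 3 ^ r) (A : SL2) :
    Group.IsSolvable ↥(closure ({tr (1 : F), mkS A} : Set (G2 F))) ↔
      (A.1 1 0 = 0 ∨ (A.1 1 0 ≠ 0 ∧ A.1 1 0 ^ 3 = A.1 1 0 ∧ (A.1 0 0 + A.1 1 1) ^ 3 = A.1 0 0 + A.1 1 1)) := by
  haveI := finite_G2 (F := F)
  haveI : Fact (Nat.Prime 3) := ⟨Nat.prime_three⟩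
  set u := tr (1 : F) with hu
  set g := mkS A with hg
  set U : SL2 := mat 1 1 0 1 (by ring) with hU
  have hUu : mkS U = u := by
    refine congrArg ProjGenLinGroup.mk (Units.ext ?_)
    ext i j
    fin_cases i <;> fin_cases j <;> simp [U, GeneralLinearGroup.mkOfDetNeZero]
  have hug : u * g = mkS (U * A) := by rw [map_mul, hUu]
  have hu1 : u ≠ 1 := fun e => by
    rw [hu, ← tr_zero] at e
    exact one_ne_zero (tr_injective e)
  have hu3 : u ^ 3 = 1 := by
    rw [hu, tr_pow, show ((3 : ℕ) : F) = 0 from CharP.cast_eq_zero F 3, zero_mul, tr_zero]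
  have hgip : g • (ip : P2 F) = ip ↔ A.1 1 0 = 0 := by
    rw [hg, mkS, MonoidHom.comp_apply, ip, mk_smul, Projectivization.mk_eq_mk_iff']
    constructor
    · rintro ⟨c, hc⟩
      have := congrFun hc 1
      simpa [Matrix.mulVec, dotProduct, Fin.sum_univ_two, Matrix.SpecialLinearGroup.toGL] using this.symm
    · intro h
      exact ⟨A.1 0 0, funext fun i => by
        fin_cases i <;> simp [Matrix.mulVec, dotProduct, Fin.sum_univ_two, Matrix.SpecialLinearGroup.toGL, h]⟩
  constructor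
  · intro hs
    set H := closure ({u, g} : Set (G2 F))
    have hle : H ≤ psl F := (closure_le _).2 (by
      rintro k (rfl | rfl)
      exacts [tr_mem_psl 1, ⟨A, rfl⟩])
    have huH : u ∈ H := subset_closure (by simp)
    have hgH : g ∈ H := subset_closure (by simp)
    rcases solvable_cases 3 hr hF (Or.inr ⟨rfl, hodd⟩) hle hs with ⟨z, hz⟩ | ⟨a, b, hab, hH⟩ | ⟨-, -, h12⟩
    · left
      obtain rfl : z = ip := (single_fix_iff (1 : F) 1).2 ⟨rfl, one_ne_zero⟩ z (by
        rw [di_one, mul_one]; exact hz u huH)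
      exact hgip.1 (hz g hgH)
    · exfalso
      have hu2 : u * u ≠ 1 := fun e => hu1 (by
        have := hu3
        rwa [pow_succ, pow_two, e, one_mul] at this)
      have h := mem_pairFix_of_not_inv hab.1 (hH huH) hu2
      refine not_p_dvd_torus 3 hab ?_
      have := orderOf_dvd_natCard (⟨u, h⟩ : pairFix a b)
      rwa [Subgroup.orderOf_mk, orderOf_eq_prime hu3 hu1] at this
    · by_cases hc : A.1 1 0 = 0
      · exact Or.inl hc
      have key : ∀ B : SL2, mkS B ∈ H → B.1 1 0 ≠ 0 → (B.1 0 0 + B.1 1 1) ^ 3 = B.1 0 0 + B.1 1 1 := by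
        intro B hB hB0
        rcases h12 _ hB with e | e
        · rcases sq_iff.1 e with e | e
          · rw [e]; ring
          · exact absurd e.2.1 hB0
        · rcases cube_iff.1 e with e | e
          · rw [pow_succ, e, one_mul]
          · exact absurd e.2.1 hB0
      have k1 := key A hgH hc
      have hm00 : (U * A).1 0 0 = A.1 0 0 + A.1 1 0 := by simp [U, Matrix.SpecialLinearGroup.coe_mul, Matrix.mul_apply, Fin.sum_univ_two]
      have hm10 : (U * A).1 1 0 = A.1 1 0 := by simp [U, Matrix.SpecialLinearGroup.coe_mul, Matrix.mul_apply, Fin.sum_univ_two]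
      have hm11 : (U * A).1 1 1 = A.1 1 1 := by simp [U, Matrix.SpecialLinearGroup.coe_mul, Matrix.mul_apply, Fin.sum_univ_two]
      have k2 := key (U * A) (hug ▸ mul_mem huH hgH) (hm10 ▸ hc)
      rw [hm00, hm11, show A.1 0 0 + A.1 1 0 + A.1 1 1 = (A.1 0 0 + A.1 1 1) + A.1 1 0 by ring, add_pow_char,
        k1] at k2
      exact Or.inr ⟨hc, add_left_cancel k2, k1⟩
  · rintro (hc | ⟨hc, hc3, ht3⟩)
    · refine solvable_of_fixed (x := (ip : P2 F)) fun k hk => ?_
      have : closure ({u, g} : Set (G2 F)) ≤ MulAction.stabilizer (G2 F) (ip : P2 F) :=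
        (closure_le _).2 (by
          rintro w (rfl | rfl)
          exacts [tr_ip 1, hgip.2 hc])
      exact this hk
    · -- conjugate into the group over the prime field
      let i : ZMod 3 →+* F := ZMod.castHom (dvd_refl 3) F
      let R : Subgroup (G2 F) := ((mkS (F := F)).comp (Matrix.SpecialLinearGroup.map (n := Fin 2) i)).range
      haveI hR : Group.IsSolvable R := by
        haveI : Group.IsSolvable (Matrix.SpecialLinearGroup (Fin 2) (ZMod 3)) :=
          solvable_of_card_dvd_24 (dvd_of_eq (by rw [Nat.card_eq_fintype_card]; decide +kernel))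
        exact Group.isSolvable_of_surjective
          (f := ((mkS (F := F)).comp (Matrix.SpecialLinearGroup.map (n := Fin 2) i)).rangeRestrict)
          (MonoidHom.rangeRestrict_surjective _)
      have hcube : ∀ z : F, z ^ 3 = z → ∃ k : ZMod 3, i k = z := by
        intro z hz
        rcases mul_eq_zero.1 (show z * ((z - 1) * (z + 1)) = 0 by linear_combination hz) with e | e
        · exact ⟨0, by simp [e]⟩
        rcases mul_eq_zero.1 e with e | e
        · exact ⟨1, by rw [map_one]; exact (sub_eq_zero.1 e).symm⟩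
        · exact ⟨-1, by rw [map_neg, map_one]; linear_combination -e⟩
      obtain ⟨kc, hkc⟩ := hcube _ hc3
      obtain ⟨kt, hkt⟩ := hcube _ ht3
      set s := A.1 0 0 / A.1 1 0 with hs
      have hkc0 : kc ≠ 0 := fun e => hc (by rw [← hkc, e, map_zero])
      let B : Matrix.SpecialLinearGroup (Fin 2) (ZMod 3) :=
        ⟨!![0, -kc; kc, kt], by
          rw [Matrix.det_fin_two_of]
          exact zmod_key kc kt hkc0⟩
      let T : F → SL2 := fun t => mat 1 t 0 1 (by ring)
      have hT : ∀ t, mkS (T t) = tr t := fun t => by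
        refine congrArg ProjGenLinGroup.mk (Units.ext ?_)
        ext i j
        fin_cases i <;> fin_cases j <;> simp [T, GeneralLinearGroup.mkOfDetNeZero]
      have hc2 : A.1 1 0 * A.1 1 0 = 1 := mul_right_cancel₀ hc (by linear_combination hc3)
      have hdet := det_eq A
      have hB : mkS (Matrix.SpecialLinearGroup.map i B) = tr (-s) * g * tr s := by
        rw [← hT, ← hT, hg, ← map_mul, ← map_mul]
        congr 1
        ext i' j'
        show i (B.1 i' j') = _
        fin_cases i' <;> fin_cases j' <;>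
          simp [B, T, Matrix.SpecialLinearGroup.coe_mul, Matrix.mul_apply, Matrix.vecMul, dotProduct, Fin.sum_univ_two, hkc, hkt, hs] <;>
          (try field_simp)
        all_goals first | linear_combination hdet - hc2 | linear_combination hc2 - hdet | ring
      have hg' : tr (-s) * g * tr s ∈ R := ⟨B, hB⟩
      have hu' : tr (-s) * u * tr s ∈ R := by
        refine ⟨⟨!![1, 1; 0, 1], by rw [Matrix.det_fin_two_of]; norm_num⟩, ?_⟩
        rw [hu, tr_mul, tr_mul, show -s + 1 + s = (1 : F) by ring, ← hu, ← hUu]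
        refine congrArg mkS ?_
        ext i' j'
        show i ((!![1, 1; 0, 1] : Matrix (Fin 2) (Fin 2) (ZMod 3)) i' j') = _
        fin_cases i' <;> fin_cases j' <;> simp [U]
      have hle : closure ({MulAut.conj (tr (-s)) u, MulAut.conj (tr (-s)) g} : Set (G2 F)) ≤ R := by
        rw [closure_le]
        rintro w (rfl | rfl) <;> rw [MulAut.conj_apply, tr_inv, neg_neg]
        exacts [hu', hg']
      have := conj_solvable (σ := (tr (-s))⁻¹) (solvable_of_le hR hle)
      rwa [map_inv, MulAut.inv_apply, MulAut.inv_apply, MulEquiv.symm_apply_apply, MulEquiv.symm_apply_apply] at this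

/-- elements of order three in characteristic three -/
theorem count_order_three (hr : r.Prime) (hodd : Odd r) (hF : Nat.card F = 3 ^ r) (x : S2P F) (h3 : orderOf x = 3) :
    2 * Nat.card {y : S2P F // Group.IsSolvable ↥(closure ({x, y} : Set (S2P F)))} =
      Nat.card F * (Nat.card F + 5) := by
  classical
  haveI := finite_G2 (F := F)
  haveI : Fact (Nat.Prime 3) := ⟨Nat.prime_three⟩
  have h2F : (2 : F) ≠ 0 := two_ne
  set u := incl x with hudef
  have hou : orderOf u = 3 := (orderOf_injective incl incl_injective x).trans h3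
  have hu3 : u ^ 3 = 1 := (orderOf_eq_prime_iff.1 hou).1
  have hu1 : u ≠ 1 := (orderOf_eq_prime_iff.1 hou).2
  obtain ⟨z, hz⟩ : ∃ z : P2 F, u • z = z := by
    by_contra hcon
    push Not at hcon
    have := orderOf_dvd_of_free hcon
    rw [hou] at this
    exact not_dvd_q_add_one 3 this
  obtain ⟨σ, hσ⟩ := exists_move_ip z
  obtain ⟨t, c, htc⟩ := exists_of_fix_ip (g := σ * u * σ⁻¹) (by rw [conj_smul_eq hσ, hz, hσ])
  have hc : c = 1 := by
    have hpow : tr t * di c * (tr t * di c) * (tr t * di c) = tr 0 * di 1 := by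
      rw [← htc, tr_zero, di_one, one_mul, conj_mul, conj_mul, ← pow_two, ← pow_succ, hu3, mul_one, mul_inv_cancel]
    rw [trdi_mul, trdi_mul] at hpow
    have := congrArg Units.val (trdi_inj hpow).2
    simp only [Units.val_mul, Units.val_one] at this
    refine Units.ext ?_
    have h0 : ((c : F) - 1) ^ 3 = 0 := by rw [sub_pow_char, one_pow]; linear_combination this
    exact sub_eq_zero.1 (pow_eq_zero_iff (by norm_num) |>.1 h0)
  rw [hc, di_one, mul_one] at htc
  have ht : t ≠ 0 := fun e => hu1 (by rw [e, tr_zero, conj_eq_one_iff] at htc; exact htc)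
  have hσ' : (di (Units.mk0 t ht)⁻¹ * σ) * u * (di (Units.mk0 t ht)⁻¹ * σ)⁻¹ = tr 1 := by
    rw [show (di (Units.mk0 t ht)⁻¹ * σ) * u * (di (Units.mk0 t ht)⁻¹ * σ)⁻¹ =
      di (Units.mk0 t ht)⁻¹ * (σ * u * σ⁻¹) * (di (Units.mk0 t ht)⁻¹)⁻¹ by group, htc, di_tr, mul_assoc,
      mul_inv_cancel, mul_one, Units.val_inv_eq_inv_val, Units.val_mk0, inv_mul_cancel₀ ht]
  have hd := ncard_double h2F (fun g => Group.IsSolvable ↥(closure ({tr (1 : F), g} : Set (G2 F))))
  rw [card_sol_conj x _ _ hσ']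
  suffices h : {A : SL2 | Group.IsSolvable ↥(closure ({tr (1 : F), mkS A} : Set (G2 F)))}.ncard =
      Nat.card F * (Nat.card F + 5) by omega
  rw [Set.ext fun A => order_three_iff hr hodd hF A, Set.ofPred_or, Set.ncard_union_eq
    (Set.disjoint_left.2 fun A h h' => h'.1 h)]
  have e1 : {A : SL2 | A.1 1 0 = 0}.ncard = (Nat.card F - 1) * Nat.card F := by
    rw [← Nat.card_coe_set_eq, ← Nat.card_units, ← Nat.card_prod, eq_comm]
    refine Nat.card_eq_of_bijective (fun w : Fˣ × F =>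
      (⟨mat (w.1 : F) w.2 0 ((w.1⁻¹ : Fˣ) : F) (by simp), rfl⟩ : {A : SL2 | A.1 1 0 = 0}))
      ⟨fun a b e => ?_, fun ⟨A, hA⟩ => ?_⟩
    · have e' := congrArg Subtype.val e
      exact Prod.ext (Units.ext (congrArg (fun M : SL2 => M.1 0 0) e')) (congrArg (fun M : SL2 => M.1 0 1) e')
    · have hd := det_eq A
      rw [show A.1 1 0 = 0 from hA, mul_zero, sub_zero] at hd
      refine ⟨(Units.mkOfMulEqOne _ _ hd, A.1 0 1), Subtype.ext ?_⟩
      ext i j
      fin_cases i <;> fin_cases j <;> simp [mat, show A.1 1 0 = 0 from hA, ← eq_inv_of_mul_eq_one_right hd]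
  have hroots : {c : F | c ^ 3 = c}.ncard = 3 ∧ {c : F | c ≠ 0 ∧ c ^ 3 = c}.ncard = 2 := by
    have h1ne : (1 : F) ≠ -1 := fun e => h2F (by linear_combination e)
    have hA : {c : F | c ^ 3 = c} = {0, 1, -1} := by
      ext c
      simp only [Set.mem_ofPred_eq, Set.mem_insert_iff, Set.mem_singleton_iff]
      constructor
      · intro h
        rcases mul_eq_zero.1 (show c * (c ^ 2 - 1) = 0 by linear_combination h) with e | e
        · exact Or.inl e
        · exact Or.inr (sq_eq_one_iff.1 (sub_eq_zero.1 e))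
      · rintro (rfl | rfl | rfl) <;> ring
    have hB : {c : F | c ≠ 0 ∧ c ^ 3 = c} = {1, -1} := by
      ext c
      simp only [Set.mem_ofPred_eq, Set.mem_insert_iff, Set.mem_singleton_iff]
      constructor
      · rintro ⟨h0, h⟩
        have : c ∈ ({0, 1, -1} : Set F) := hA ▸ h
        simpa [h0] using this
      · rintro (rfl | rfl)
        exacts [⟨one_ne_zero, one_pow 3⟩, ⟨neg_ne_zero.2 one_ne_zero, by ring⟩]
    rw [hA, hB, Set.ncard_insert_of_notMem (by simp), Set.ncard_pair h1ne]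
    exact ⟨rfl, rfl⟩
  have e2 : {A : SL2 | A.1 1 0 ≠ 0 ∧ A.1 1 0 ^ 3 = A.1 1 0 ∧
      (A.1 0 0 + A.1 1 1) ^ 3 = A.1 0 0 + A.1 1 1}.ncard = 6 * Nat.card F := by
    rw [← Nat.card_coe_set_eq, eq_comm]
    have hcard : Nat.card ({c : F | c ≠ 0 ∧ c ^ 3 = c} × {t : F | t ^ 3 = t} × F) = 6 * Nat.card F := by
      rw [Nat.card_prod, Nat.card_prod, Nat.card_coe_set_eq, Nat.card_coe_set_eq, hroots.1, hroots.2]; ring
    rw [← hcard]
    let f : {c : F | c ≠ 0 ∧ c ^ 3 = c} × {t : F | t ^ 3 = t} × F →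
        {A : SL2 | A.1 1 0 ≠ 0 ∧ A.1 1 0 ^ 3 = A.1 1 0 ∧ (A.1 0 0 + A.1 1 1) ^ 3 = A.1 0 0 + A.1 1 1} :=
      fun w => ⟨mat w.2.2 ((w.2.2 * (w.2.1.1 - w.2.2) - 1) / w.1.1) w.1.1 (w.2.1.1 - w.2.2)
        (by rw [div_mul_cancel₀ _ w.1.2.1]; ring), w.1.2.1, w.1.2.2, by
          show (w.2.2 + (w.2.1.1 - w.2.2)) ^ 3 = w.2.2 + (w.2.1.1 - w.2.2)
          rw [add_sub_cancel]; exact w.2.1.2⟩
    refine Nat.card_eq_of_bijective f ⟨fun a b e => ?_, fun ⟨A, h0, h3, ht⟩ => ?_⟩
    · have e' := congrArg Subtype.val e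
      have ea : a.2.2 = b.2.2 := congrArg (fun M : SL2 => M.1 0 0) e'
      have ec : a.1.1 = b.1.1 := congrArg (fun M : SL2 => M.1 1 0) e'
      have ed : a.2.1.1 - a.2.2 = b.2.1.1 - b.2.2 := congrArg (fun M : SL2 => M.1 1 1) e'
      exact Prod.ext (Subtype.ext ec) (Prod.ext (Subtype.ext (by linear_combination ed + ea)) ea)
    · refine ⟨(⟨_, h0, h3⟩, ⟨_, ht⟩, A.1 0 0), Subtype.ext ?_⟩
      ext i j
      fin_cases i <;> fin_cases j <;> simp [f]
      rw [div_eq_iff h0]
      linear_combination det_eq A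
  rw [e1, e2]
  have := card_pos_lt (F := F)
  obtain ⟨k, hk⟩ : ∃ k, Nat.card F = k + 1 := ⟨Nat.card F - 1, by omega⟩
  rw [hk, Nat.add_sub_cancel]
  ring

end CfsgLib.Perm.Dickson.Solub
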