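import Cfsg.Agent.Lib.Perm.Dickson.SubfieldMax
import Cfsg.Agent.Lib.Perm.Trans.Subf

/-!
# Two root groups over a subfield, one of them scaled by an irrational

A subgroup of `SL(2)` containing the upper translations by a subfield of prime index (not the pair of orders three and nine) and the lower
translations by an irrational multiple of it contains every upper translation.
-/

set_option autoImplicit false
set_option linter.all false

namespace CfsgLib.Perm.Dickson

open Matrix

variable {F : Type*} [Field F]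

/-- upper translation in `SL(2)` -/
def upS (t : F) : SpecialLinearGroup (Fin 2) F := ⟨!![1, t; 0, 1], by simp [Matrix.det_fin_two]⟩

/-- lower translation in `SL(2)` -/
def loS (t : F) : SpecialLinearGroup (Fin 2) F := ⟨!![1, 0; t, 1], by simp [Matrix.det_fin_two]⟩

/-- the projection to `PGL(2)` -/
noncomputable def projS : SpecialLinearGroup (Fin 2) F →* G2 F :=
  Matrix.ProjGenLinGroup.mk.comp (Matrix.SpecialLinearGroup.toGL (n := Fin 2) (R := F))

theorem projS_upS (t : F) : projS (upS t) = tr t := by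
  show ProjGenLinGroup.mk _ = ProjGenLinGroup.mk _
  exact congrArg _ (Units.ext rfl)

theorem projS_loS_ip {t : F} (ht : t ≠ 0) : projS (loS t) • (ip : P2 F) = fp (1 / t) := by
  show ProjGenLinGroup.mk _ • _ = _
  rw [ip, mk_smul, mk_eq_fp]
  · congr 1
    simp [loS, SpecialLinearGroup.toGL, Matrix.mulVec, dotProduct, Fin.sum_univ_two]
  · simp [loS, SpecialLinearGroup.toGL, Matrix.mulVec, dotProduct, Fin.sum_univ_two, ht]

/-- the squared trace is invariant up to the determinant -/
theorem trace_sq_mem {σ : G2 F} {F1 : Subfield F} {A : SpecialLinearGroup (Fin 2) F}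
    (h : σ * projS A * σ⁻¹ ∈ pglSub F1) : (A.1 0 0 + A.1 1 1) * (A.1 0 0 + A.1 1 1) ∈ F1 := by
  obtain ⟨g0, hg0⟩ := h
  cases g0 using Matrix.ProjGenLinGroup.induction_on with
  | mk B =>
    cases σ using Matrix.ProjGenLinGroup.induction_on with
    | mk S =>
      rw [mapG, ProjGenLinGroup.map_mk, projS, MonoidHom.comp_apply, ← map_inv, ← map_mul, ← map_mul] at hg0
      obtain ⟨c, hc⟩ := ProjGenLinGroup.mk_eq_mk_iff.1 hg0.symm
      obtain ⟨N, hN⟩ : ∃ N : Matrix (Fin 2) (Fin 2) F, N = B.1.map F1.subtype := ⟨_, rfl⟩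
      have hm := congrArg (fun M : GL (Fin 2) F => (M : Matrix (Fin 2) (Fin 2) F)) hc
      simp at hm
      obtain ⟨X, hX⟩ : ∃ X : Matrix (Fin 2) (Fin 2) F, X = (S : Matrix (Fin 2) (Fin 2) F) * A.1 * ((S⁻¹ : GL (Fin 2) F) : Matrix (Fin 2) (Fin 2) F) :=
        ⟨_, rfl⟩
      have htr : X.trace = A.1.trace := hX ▸ Matrix.trace_units_conj S A.1
      have hdet : X.det = 1 := by
        rw [hX, det_mul, det_mul, A.2, mul_one, ← det_mul, ← Units.val_mul, mul_inv_cancel, Units.val_one, det_one]
      have hN' : N = (c : F) • X ∨ X = (c : F) • N := by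
        refine Or.inl ?_
        rw [hN, hX, Matrix.smul_eq_mul_diagonal, Matrix.coe_units_inv]
        exact hm.symm
      have hNm : ∀ i j, N i j ∈ F1 := fun i j => by rw [hN, Matrix.map_apply]; exact (B.1 i j).2
      have hNt : N.trace ∈ F1 := by rw [Matrix.trace_fin_two]; exact F1.add_mem (hNm _ _) (hNm _ _)
      have hNd : N.det ∈ F1 := by
        rw [Matrix.det_fin_two]; exact F1.sub_mem (F1.mul_mem (hNm _ _) (hNm _ _)) (F1.mul_mem (hNm _ _) (hNm _ _))
      rw [show A.1 0 0 + A.1 1 1 = A.1.trace from (Matrix.trace_fin_two A.1).symm, ← htr]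
      rcases hN' with e | e
      · rw [e, Matrix.trace_smul, smul_eq_mul] at hNt
        rw [e, Matrix.det_smul, Fintype.card_fin, hdet, mul_one] at hNd
        have hc0 : (c : F) ≠ 0 := c.ne_zero
        rw [show X.trace * X.trace = (c : F) * X.trace * ((c : F) * X.trace) / (c : F) ^ 2 by field_simp]
        exact F1.div_mem (F1.mul_mem hNt hNt) hNd
      · rw [e, Matrix.det_smul, Fintype.card_fin] at hdet
        have hd0 : N.det ≠ 0 := fun h0 => by rw [h0, mul_zero] at hdet; exact zero_ne_one hdet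
        rw [e, Matrix.trace_smul, smul_eq_mul,
          show (c : F) * N.trace * ((c : F) * N.trace) = N.trace * N.trace / N.det by
            field_simp
            linear_combination (N.trace ^ 2) * hdet]
        exact F1.div_mem (F1.mul_mem hNt hNt) hNd

variable [Fintype F]

omit [Fintype F] in
/-- in characteristic three one of two products of translations has trace a square root of minus one -/
theorem trace_special (h3 : (3 : F) = 0) {μ : F} (h8 : μ ^ 8 = 1) (h4 : μ ^ 4 ≠ 1) :
    (2 + μ) ^ 2 = -1 ∨ (2 - μ) ^ 2 = -1 := by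
  have h : μ ^ 4 = -1 := by
    rcases mul_eq_zero.1 (show (μ ^ 4 - 1) * (μ ^ 4 + 1) = 0 by linear_combination h8) with h | h
    · exact absurd (sub_eq_zero.1 h) h4
    · exact eq_neg_of_add_eq_zero_left h
  have : ((2 + μ) ^ 2 + 1) * ((2 - μ) ^ 2 + 1) = 0 := by linear_combination h + (8 - 2 * μ ^ 2) * h3
  rcases mul_eq_zero.1 this with h | h
  · exact Or.inl (eq_neg_of_add_eq_zero_left h)
  · exact Or.inr (eq_neg_of_add_eq_zero_left h)

theorem no_order_four_alt_five : ∀ x : alternatingGroup (Fin 5), x ^ 4 = 1 → x ^ 2 = 1 := by decide +kernel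

/-- the upper translations by a subfield and irrational lower translations give all upper translations -/
theorem all_upper_of_pair' (h2 : (2 : F) ≠ 0) {F₀ : Subfield F} {r : ℕ} (hr : r.Prime)
    (hcard : Fintype.card F = Nat.card F₀ ^ r) {G : Subgroup (SpecialLinearGroup (Fin 2) F)}
    (hup : ∀ t ∈ F₀, upS t ∈ G) {μ : F} (hμ : μ ∉ F₀) (hr2 : r = 2 → Nat.card F₀ = 3 → μ * μ ≠ -1) (hlo : loS μ ∈ G) :
    ∀ t : F, upS t ∈ G := by
  classical
  obtain ⟨p, hp⟩ := CharP.exists F
  haveI : Fact p.Prime := ⟨CharP.char_is_prime F p⟩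
  haveI := finite_G2 (F := F)
  have hp2 : p ≠ 2 := fun h => h2 (by rw [← Nat.cast_ofNat (R := F) (n := 2), ← h]; exact CharP.cast_eq_zero F p)
  have hoddF : Odd (Nat.card F) := by
    rw [Nat.card_eq_fintype_card]
    exact Nat.odd_iff.2 (FiniteField.odd_card_of_char_ne_two fun h => hp2 ((ringChar.eq F p).symm.trans h))
  have hodd0 : Odd (Nat.card F₀) := odd_subfield hoddF F₀
  have h30 : 3 ≤ Nat.card F₀ := by
    have := two_le_card_subfield F₀
    obtain ⟨k, hk⟩ := hodd0
    omega
  have hμ0 : μ ≠ 0 := fun h => hμ (h ▸ F₀.zero_mem)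
  obtain ⟨H, hH⟩ : ∃ H, H = G.map projS := ⟨_, rfl⟩
  have hHtr : ∀ t ∈ F₀, tr t ∈ H := fun t ht => hH ▸ ⟨upS t, hup t ht, projS_upS t⟩
  have hHlo : projS (loS μ) ∈ H := hH ▸ ⟨_, hlo, rfl⟩
  have h1 : tr (1 : F) ∈ H := hHtr 1 F₀.one_mem
  have hpow : ∀ t : F, tr t ^ p = 1 := fun t => by rw [tr_pow, CharP.cast_eq_zero F p, zero_mul, tr_zero]
  have hnot : ∀ {a b : P2 (Kc F)}, GoodPair a b → ∀ {t : F}, t ≠ 0 → tr t ∉ pairFix a b := by
    intro a b hg t ht hm
    apply not_p_dvd_torus p hg
    have ho : orderOf (tr t) = p := orderOf_eq_prime (hpow t) fun e => ht (tr_injective (e.trans tr_zero.symm))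
    have := orderOf_dvd_natCard (⟨tr t, hm⟩ : pairFix a b)
    rwa [Subgroup.orderOf_mk, ho] at this
  -- the translations of the subfield inside
  have hdvd : Nat.card F₀ ∣ Nat.card H := by
    let f : Multiplicative F₀ →* H :=
      { toFun := fun t => ⟨tr ((Multiplicative.toAdd t : F₀) : F), hHtr _ (Multiplicative.toAdd t).2⟩
        map_one' := Subtype.ext (by simp [tr_zero])
        map_mul' := fun s t => Subtype.ext (by simp [tr_mul]) }
    have hinj : Function.Injective f := fun s t h => by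
      have := tr_injective (congrArg Subtype.val h :)
      exact Multiplicative.toAdd.injective (Subtype.ext this)
    have := Subgroup.card_dvd_of_injective f hinj
    rwa [Nat.card_congr Multiplicative.toAdd] at this
  have hprime : ∀ {N : ℕ}, Nat.card F₀ ∣ N → ∀ q : ℕ, p = q → q ∣ N := fun {N} hN q hq => by
    have hpd : p ∣ Nat.card F₀ := by
      haveI : CharP F₀ p := (RingHom.charP_iff_charP F₀.subtype p).2 inferInstance
      haveI : Fintype F₀ := Fintype.ofFinite _
      obtain ⟨n, -, hn⟩ := FiniteField.card F₀ p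
      rw [Nat.card_eq_fintype_card, hn]
      exact dvd_pow_self p n.ne_zero
    exact hq ▸ hpd.trans hN
  have hnot12 : ∀ {N : ℕ}, Nat.card H = N → p ≠ 3 → ¬ N ∣ 24 := by
    intro N hN h3 hd
    have hpd : p ∣ 24 := (hprime (hN ▸ hdvd) p rfl).trans hd
    have hple : p ≤ 24 := Nat.le_of_dvd (by norm_num) hpd
    have hpp : p.Prime := Fact.out
    interval_cases p <;> norm_num at *
  cases classify_finite p H with
  | borel x hx =>
    exfalso
    have e1 := single_tr one_ne_zero x (hx _ h1)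
    have e2 := hx _ hHlo
    rw [e1, projS_loS_ip hμ0] at e2
    exact fp_ne_ip _ e2
  | cyclic a b hg hle hne => exact absurd (hle h1) (hnot hg one_ne_zero)
  | dihedral a b hg hle hn hC =>
    exfalso
    obtain ⟨t, ht, ht0, ht1⟩ : ∃ t : F, t ∈ F₀ ∧ t ≠ 0 ∧ t ≠ -1 := ⟨1, F₀.one_mem, one_ne_zero, fun h =>
      h2 (by linear_combination h)⟩
    have := mul_mem_of_swap (hle h1) (hnot hg one_ne_zero) (hle (hHtr t ht)) (hnot hg ht0)
    rw [tr_mul] at this
    exact hnot hg (fun e => ht1 (by linear_combination e)) this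
  | a4 hN _ h3 _ => exact absurd ⟨2, rfl⟩ (hnot12 hN h3)
  | s4 hN _ h3 _ => exact absurd dvd_rfl (hnot12 hN h3)
  | a5 hN _ h5 h5e =>
    exfalso
    have hle : H ≤ psl F := by
      rw [hH]
      rintro _ ⟨A, -, rfl⟩
      exact ⟨A, rfl⟩
    have hpd : p ∣ 60 := hprime (hN ▸ hdvd) p rfl
    have hple : p ≤ 60 := Nat.le_of_dvd (by norm_num) hpd
    have hpp : p.Prime := Fact.out
    have hp3 : p = 3 := by interval_cases p <;> norm_num at *
    haveI : CharP F₀ p := (RingHom.charP_iff_charP F₀.subtype p).2 inferInstance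
    haveI : Fintype F₀ := Fintype.ofFinite _
    obtain ⟨n, -, hn⟩ := FiniteField.card F₀ p
    have hq0 : Nat.card F₀ = 3 := by
      have h' := hN ▸ hdvd
      rw [Nat.card_eq_fintype_card, hn, hp3] at h'
      rw [Nat.card_eq_fintype_card, hn, hp3]
      have hn1 : (n : ℕ) = 1 := by
        rcases Nat.lt_or_ge (n : ℕ) 2 with hlt | hge
        · have := n.pos; omega
        · exact absurd ((Nat.pow_dvd_pow 3 hge).trans h') (by norm_num)
      rw [hn1, pow_one]
    have hd5 := Subgroup.card_dvd_of_le hle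
    rw [hN] at hd5
    have hpsl := card_psl (F := F)
    have hmul : 60 ∣ Nat.card F * ((Nat.card F - 1) * (Nat.card F + 1)) := hd5.trans (hpsl ▸ dvd_mul_left _ _)
    by_cases hr22 : r = 2
    · -- the field with nine elements: an element of order four
      obtain ⟨e5⟩ := h5e
      haveI : CharP F 3 := hp3 ▸ inferInstance
      have h3 : (3 : F) = 0 := by exact_mod_cast CharP.cast_eq_zero F 3
      have hμ8 : μ ^ 8 = 1 := by
        have h := FiniteField.pow_card_sub_one_eq_one μ hμ0
        rwa [hcard, hr22, hq0] at h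
      have hμsq : μ * μ ≠ -1 := hr2 hr22 hq0
      have hμ4 : μ ^ 4 ≠ 1 := fun h => by
        rcases mul_eq_zero.1 (show (μ * μ - 1) * (μ * μ + 1) = 0 by linear_combination h) with h' | h'
        · rcases mul_eq_zero.1 (show (μ - 1) * (μ + 1) = 0 by linear_combination h') with h'' | h''
          · exact hμ (sub_eq_zero.1 h'' ▸ F₀.one_mem)
          · exact hμ (eq_neg_of_add_eq_zero_left h'' ▸ F₀.neg_mem F₀.one_mem)
        · exact hμsq (eq_neg_of_add_eq_zero_left h')
      obtain ⟨u, hu, hutr⟩ : ∃ u ∈ F₀, (2 + u * μ) ^ 2 = -1 := by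
        rcases trace_special h3 hμ8 hμ4 with h | h
        · exact ⟨1, F₀.one_mem, by rw [one_mul]; exact h⟩
        · exact ⟨-1, F₀.neg_mem F₀.one_mem, by rw [neg_one_mul, ← sub_eq_add_neg]; exact h⟩
      obtain ⟨A, hA⟩ : ∃ A, A = upS u * loS μ := ⟨_, rfl⟩
      have hAm : projS A ∈ H := hH ▸ ⟨A, hA ▸ mul_mem (hup u hu) hlo, rfl⟩
      have hA' : A.1 = !![1 + u * μ, u; μ, 1] := by
        rw [hA]
        show (upS u).1 * (loS μ).1 = _
        ext i j
        fin_cases i <;> fin_cases j <;> simp [upS, loS, Matrix.mul_apply, Fin.sum_univ_two]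
      obtain ⟨T, hT⟩ : ∃ T, T = 2 + u * μ := ⟨_, rfl⟩
      rw [← hT] at hutr
      have hA2 : A.1 * A.1 = T • A.1 - 1 := by
        rw [hA', hT]
        ext i j
        fin_cases i <;> fin_cases j <;> simp [Matrix.mul_apply, Fin.sum_univ_two] <;> ring
      have hA4 : A.1 * A.1 * (A.1 * A.1) = (-1 : F) • (1 : Matrix (Fin 2) (Fin 2) F) := by
        rw [hA2]
        simp only [sub_mul, mul_sub, Matrix.smul_mul, Matrix.mul_smul, one_mul, mul_one, hA2]
        match_scalars
        · linear_combination T * hutr - T * h3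
        · linear_combination -hutr + h3
      have h4one : projS A ^ 4 = 1 := by
        rw [← map_pow]
        show ProjGenLinGroup.mk _ = 1
        rw [← map_one ProjGenLinGroup.mk]
        refine ProjGenLinGroup.mk_eq_mk_iff.2 ⟨-1, Units.ext ?_⟩
        have h : A.1 ^ 4 = (-1 : F) • (1 : Matrix (Fin 2) (Fin 2) F) := by
          rw [show A.1 ^ 4 = A.1 * A.1 * (A.1 * A.1) by simp only [pow_succ, pow_zero, one_mul, mul_assoc], hA4]
        simp [h]
      have h2ne : projS A ^ 2 ≠ 1 := fun h => by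
        rw [sq, ← map_mul] at h
        obtain ⟨c, hc⟩ := ProjGenLinGroup.mk_eq_mk_iff.1
          (show ProjGenLinGroup.mk _ = ProjGenLinGroup.mk _ from h.trans (map_one ProjGenLinGroup.mk).symm)
        have hm := congrArg (fun M : GL (Fin 2) F => (M : Matrix (Fin 2) (Fin 2) F) 1 0) hc
        simp [show (A * A).1 = A.1 * A.1 from rfl, hA2, hA'] at hm
        rcases mul_eq_zero.1 (show μ * T = 0 by first | linear_combination hm + μ * hT | linear_combination -hm + μ * hT) with h' | h'
        · exact hμ0 h'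
        · rw [h', sq, mul_zero] at hutr
          exact neg_ne_zero.2 one_ne_zero hutr.symm
      refine h2ne (congrArg Subtype.val (e5.injective (a₁ := ⟨projS A, hAm⟩ ^ 2) (a₂ := 1) ?_) :)
      rw [map_pow, map_one]
      refine no_order_four_alt_five _ ?_
      rw [← map_pow, ← map_one e5]
      exact congrArg e5 (Subtype.ext h4one)
    obtain ⟨j, hj⟩ := hr.odd_of_ne_two hr22
    rw [Nat.card_eq_fintype_card, hcard, hq0, hj] at hmul
    have hq : ∃ m, 3 ^ (2 * j + 1) = 5 * m + 2 ∨ 3 ^ (2 * j + 1) = 5 * m + 3 := by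
      clear hmul hj
      induction j with
      | zero => exact ⟨0, Or.inr rfl⟩
      | succ j ih =>
        obtain ⟨m, hm | hm⟩ := ih
        · exact ⟨9 * m + 3, Or.inr (by rw [show 2 * (j + 1) + 1 = 2 * j + 1 + 2 by ring, pow_add, hm]; ring)⟩
        · exact ⟨9 * m + 5, Or.inl (by rw [show 2 * (j + 1) + 1 = 2 * j + 1 + 2 by ring, pow_add, hm]; ring)⟩
    have h5 : 5 ∣ 3 ^ (2 * j + 1) * ((3 ^ (2 * j + 1) - 1) * (3 ^ (2 * j + 1) + 1)) :=
      (show 5 ∣ 60 by norm_num).trans hmul
    have hmod : ∀ a b : ℕ, a = 5 * b + 2 ∨ a = 5 * b + 3 → ¬ 5 ∣ a * ((a - 1) * (a + 1)) := by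
      intro a b hab hdiv
      rcases (Nat.Prime.dvd_mul (by norm_num)).1 hdiv with hx | hx
      · omega
      · rcases (Nat.Prime.dvd_mul (by norm_num)).1 hx with hx | hx <;> omega
    obtain ⟨m, hm⟩ := hq
    exact hmod _ m hm h5
  | subfield σ F1 h31 h =>
    have hle : conjG σ H ≤ pglSub F1 := by
      rcases h with h | ⟨-, h⟩ <;> rw [h]
      exact pslSub_le_pglSub F1
    have hge : pslSub F1 ≤ conjG σ H := by
      rcases h with h | ⟨-, h⟩ <;> rw [h]
      exact pslSub_le_pglSub F1
    have hkey : ∀ u ∈ F₀, (2 + u * μ) * (2 + u * μ) ∈ F1 := fun u hu => by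
      have hmem : σ * projS (upS u * loS μ) * σ⁻¹ ∈ pglSub F1 := hle (mem_conjG.2 (by
        rw [show σ⁻¹ * (σ * projS (upS u * loS μ) * σ⁻¹) * σ = projS (upS u * loS μ) by group, hH]
        exact ⟨_, mul_mem (hup u hu) hlo, rfl⟩))
      have := trace_sq_mem hmem
      convert this using 1
      simp only [show ∀ i j, (upS u * loS μ).1 i j = ((upS u).1 * (loS μ).1) i j from fun _ _ => rfl]
      simp [upS, loS, Matrix.mul_apply, Fin.sum_univ_two]
      ring
    have h8 : ∀ u ∈ F₀, 8 * (u * μ) ∈ F1 := fun u hu => by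
      have := F1.sub_mem (hkey u hu) (hkey (-u) (F₀.neg_mem hu))
      convert this using 1
      ring
    have h8' : (8 : F) ≠ 0 := by
      rw [show (8 : F) = 2 * 2 * 2 by norm_num]
      exact mul_ne_zero (mul_ne_zero h2 h2) h2
    have h8F : (8 : F) ∈ F1 := by
      exact_mod_cast natCast_mem F1 8
    have huμ : ∀ u ∈ F₀, u * μ ∈ F1 := fun u hu => by
      have := F1.div_mem (h8 u hu) h8F
      rwa [mul_div_cancel_left₀ _ h8'] at this
    have hμ1 : μ ∈ F1 := by simpa using huμ 1 F₀.one_mem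
    have hF0 : ∀ u ∈ F₀, u ∈ F1 := fun u hu => by
      have := F1.div_mem (huμ u hu) hμ1
      rwa [mul_div_cancel_right₀ _ hμ0] at this
    have hall : ∀ x : F, x ∈ F1 := fun x => CfsgLib.Perm.Trans.Subf.eq_univ_of_closed (F₀ := F₀) hr hcard
      (C := (F1 : Set F)) (fun x hx y hy => F1.add_mem hx hy) (fun x hx y hy => F1.mul_mem hx hy)
      (fun x => hF0 x x.2) hμ1 hμ x
    have hpsl : psl F ≤ conjG σ H := by
      refine psl_le (fun t => hge (tr_mem_pslSub (hall t))) fun t => hge ?_
      refine ⟨iv (-1) * tr ⟨t, hall t⟩ * iv (-1),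
        mul_mem (mul_mem iv_neg_one_mem_psl (tr_mem_psl _)) iv_neg_one_mem_psl, ?_⟩
      rw [map_mul, map_mul, mapG_iv, mapG_tr,
        show Units.map F1.subtype.toMonoidHom (-1) = -1 from Units.ext (by simp)]
      rfl
    intro t
    have hs : tr (t / 2) ∈ H := by
      have h' := mem_conjG.1 (hpsl ((psl_normal F).conj_mem _ (tr_mem_psl (t / 2)) σ))
      rwa [show σ⁻¹ * (σ * tr (t / 2) * σ⁻¹) * σ = tr (t / 2) by group] at h'
    rw [hH] at hs
    obtain ⟨A, hA, hAt⟩ := hs
    obtain ⟨c, hc⟩ := ProjGenLinGroup.mk_eq_mk_iff.1 (hAt.trans (projS_upS (t / 2)).symm)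
    have hm := congrArg (fun M : GL (Fin 2) F => (M : Matrix (Fin 2) (Fin 2) F)) hc
    simp at hm
    have hsq : ∀ d : F, A.1 = d • (upS (t / 2)).1 → A * A = upS t := fun d hd => by
      have hd2 : d ^ 2 = 1 := by
        have := A.2
        rw [hd, Matrix.det_smul, Fintype.card_fin, (upS (t / 2)).2, mul_one] at this
        exact this
      refine Subtype.ext ?_
      show A.1 * A.1 = _
      rw [hd, Matrix.smul_mul, Matrix.mul_smul, smul_smul, ← sq, hd2, one_smul]
      ext i j
      fin_cases i <;> fin_cases j <;> simp [upS, Matrix.mul_apply, Fin.sum_univ_two] <;> field_simp <;> ring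
    have hfinal : A * A = upS t := by
      have hc0 : (c : F) ≠ 0 := c.ne_zero
      refine hsq (c : F)⁻¹ ?_
      have h' : (upS (t / 2)).1 = (c : F) • A.1 := by rw [Matrix.smul_eq_mul_diagonal]; exact hm.symm
      rw [h', smul_smul, inv_mul_cancel₀ hc0, one_smul]
    exact hfinal ▸ mul_mem hA hA

/-- the upper translations by a subfield and irrational lower translations give all upper translations -/
theorem all_upper_of_pair (h2 : (2 : F) ≠ 0) {F₀ : Subfield F} {r : ℕ} (hr : r.Prime) (hr2 : r = 2 → Nat.card F₀ ≠ 3)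
    (hcard : Fintype.card F = Nat.card F₀ ^ r) {G : Subgroup (SpecialLinearGroup (Fin 2) F)}
    (hup : ∀ t ∈ F₀, upS t ∈ G) {μ : F} (hμ : μ ∉ F₀) (hlo : loS μ ∈ G) : ∀ t : F, upS t ∈ G :=
  all_upper_of_pair' h2 hr hcard hup hμ (fun h h' => absurd h' (hr2 h)) hlo

end CfsgLib.Perm.Dickson
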