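import Cfsg.Agent.Lib.Perm.Dickson.Semisimple

/-!
# Tori of PGL(2) over a finite field and their normalisers
-/

set_option autoImplicit false
set_option linter.all false

namespace CfsgLib.Perm.Dickson

open Matrix

variable {F : Type*} [Field F]

/-- the elements fixing two points -/
noncomputable def pairFix (a b : P2 (Kc F)) : Subgroup (G2 F) :=
  (MulAction.stabilizer (G2 (Kc F)) a ⊓ MulAction.stabilizer (G2 (Kc F)) b).comap (mapG (iF F))

theorem mem_pairFix {a b : P2 (Kc F)} {g : G2 F} :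
    g ∈ pairFix a b ↔ mapG (iF F) g • a = a ∧ mapG (iF F) g • b = b := Iff.rfl

/-- the elements preserving a pair of points -/
noncomputable def pairSet (a b : P2 (Kc F)) : Subgroup (G2 F) where
  carrier := {g | (mapG (iF F) g • a = a ∧ mapG (iF F) g • b = b) ∨ (mapG (iF F) g • a = b ∧ mapG (iF F) g • b = a)}
  one_mem' := Or.inl ⟨by rw [map_one, one_smul], by rw [map_one, one_smul]⟩
  mul_mem' := by
    rintro g h (⟨g1, g2⟩ | ⟨g1, g2⟩) (⟨h1, h2⟩ | ⟨h1, h2⟩)
    · exact Or.inl ⟨by rw [map_mul, mul_smul, h1, g1], by rw [map_mul, mul_smul, h2, g2]⟩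
    · exact Or.inr ⟨by rw [map_mul, mul_smul, h1, g2], by rw [map_mul, mul_smul, h2, g1]⟩
    · exact Or.inr ⟨by rw [map_mul, mul_smul, h1, g1], by rw [map_mul, mul_smul, h2, g2]⟩
    · exact Or.inl ⟨by rw [map_mul, mul_smul, h1, g2], by rw [map_mul, mul_smul, h2, g1]⟩
  inv_mem' := by
    rintro g (⟨g1, g2⟩ | ⟨g1, g2⟩)
    · exact Or.inl ⟨by rw [map_inv, inv_smul_eq_iff, g1], by rw [map_inv, inv_smul_eq_iff, g2]⟩
    · exact Or.inr ⟨by rw [map_inv, inv_smul_eq_iff, g2], by rw [map_inv, inv_smul_eq_iff, g1]⟩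

theorem mem_pairSet {a b : P2 (Kc F)} {g : G2 F} :
    g ∈ pairSet a b ↔ (mapG (iF F) g • a = a ∧ mapG (iF F) g • b = b) ∨ (mapG (iF F) g • a = b ∧ mapG (iF F) g • b = a) :=
  Iff.rfl

theorem pairFix_le_pairSet (a b : P2 (Kc F)) : pairFix a b ≤ pairSet a b := fun g hg => Or.inl (mem_pairFix.1 hg)

theorem swap_of_not_mem {a b : P2 (Kc F)} {g : G2 F} (hg : g ∈ pairSet a b) (hn : g ∉ pairFix a b) :
    mapG (iF F) g • a = b ∧ mapG (iF F) g • b = a :=
  (mem_pairSet.1 hg).resolve_left fun h => hn (mem_pairFix.2 h)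

theorem sq_of_swap {a b : P2 (Kc F)} (hab : a ≠ b) {g : G2 F} (hg : g ∈ pairSet a b) (hn : g ∉ pairFix a b) :
    g * g = 1 := by
  obtain ⟨h1, h2⟩ := swap_of_not_mem hg hn
  obtain ⟨σ, s1, s2⟩ := exists_move_two hab
  obtain ⟨c, hc⟩ := eq_iv_of_swap (g := σ * mapG (iF F) g * σ⁻¹)
    (by rw [conj_smul_eq s1, h1, s2]) (by rw [conj_smul_eq s2, h2, s1])
  have := iv_sq c
  rw [← hc, conj_mul, conj_eq_one_iff, ← map_mul] at this
  exact (map_eq_one_iff _ (mapG_injective _)).1 this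

theorem mul_mem_of_swap {a b : P2 (Kc F)} {g h : G2 F} (hg : g ∈ pairSet a b) (hgn : g ∉ pairFix a b)
    (hh : h ∈ pairSet a b) (hhn : h ∉ pairFix a b) : g * h ∈ pairFix a b := by
  obtain ⟨g1, g2⟩ := swap_of_not_mem hg hgn
  obtain ⟨h1, h2⟩ := swap_of_not_mem hh hhn
  exact mem_pairFix.2 ⟨by rw [map_mul, mul_smul, h1, g2], by rw [map_mul, mul_smul, h2, g1]⟩

/-- a subgroup of the pair stabiliser not fixing the pair is dihedral -/
theorem dihedral_of_le [Finite F] {a b : P2 (Kc F)} (hab : a ≠ b) (hcyc : IsCyclic (pairFix a b)) {H : Subgroup (G2 F)}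
    (hle : H ≤ pairSet a b) (hn : ¬ H ≤ pairFix a b) :
    Nat.card H = 2 * Nat.card (H ⊓ pairFix a b : Subgroup (G2 F)) ∧
      Nonempty (H ≃* DihedralGroup (Nat.card (H ⊓ pairFix a b : Subgroup (G2 F)))) := by
  classical
  haveI := finite_G2 (F := F)
  obtain ⟨w, hwH, hwn⟩ := SetLike.not_le_iff_exists.1 hn
  set C : Subgroup H := (pairFix a b).subgroupOf H with hC
  have hcard : Nat.card C = Nat.card (H ⊓ pairFix a b : Subgroup (G2 F)) := by
    rw [hC, ← Nat.card_congr (Subgroup.subgroupOfEquivOfLe (show H ⊓ pairFix a b ≤ H from inf_le_left)).toEquiv,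
      Subgroup.inf_subgroupOf_left]
  have hidx : C.index = 2 := by
    rw [Subgroup.index_eq_two_iff]
    refine ⟨⟨w, hwH⟩, fun g => ?_⟩
    by_cases hg : (g : G2 F) ∈ pairFix a b
    · exact Or.inr ⟨hg, fun h => hwn ((Subgroup.mul_mem_cancel_left _ hg).1 h)⟩
    · exact Or.inl ⟨mul_mem_of_swap (hle g.2) hg (hle hwH) hwn, hg⟩
  have h2 : 2 * Nat.card C = Nat.card H := by rw [← C.card_mul_index, hidx, mul_comm]
  refine ⟨hcard ▸ h2.symm, hcard ▸ mulEquiv_dihedral (C := C) ?_ h2 ?_⟩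
  · haveI := hcyc
    haveI : IsCyclic ((pairFix a b).subgroupOf H ⊓ ⊤ : Subgroup H) := by
      rw [inf_top_eq]
      exact isCyclic_of_injective (MonoidHom.codRestrict ((H.subtype).comp C.subtype) (pairFix a b) (fun x => x.2))
        (fun x y e => Subtype.ext (Subtype.ext (congrArg (fun z : pairFix a b => (z : G2 F)) e)))
    rw [inf_top_eq] at this
    exact this
  · intro g hg
    exact Subtype.ext (sq_of_swap hab (hle g.2) hg)

/-- a pair of points usable for a torus -/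
def GoodPair (a b : P2 (Kc F)) : Prop :=
  a ≠ b ∧ ((IsRat a ∧ IsRat b) ∨ ((¬ IsRat a ∧ ¬ IsRat b) ∧ ∃ g : G2 F, g ≠ 1 ∧ g ∈ pairFix a b))

theorem isCyclic_pairFix [Finite F] {a b : P2 (Kc F)} (hab : a ≠ b) : IsCyclic (pairFix a b) := by
  haveI := finite_G2 (F := F)
  haveI : Finite ((pairFix a b).map (mapG (iF F))) :=
    Finite.of_equiv _ ((pairFix a b).equivMapOfInjective _ (mapG_injective _)).toEquiv
  have := isCyclic_of_fix ((pairFix a b).map (mapG (iF F))) (x := a) (by rintro _ ⟨g, hg, rfl⟩; exact hg.1)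
    (by rintro _ ⟨g, hg, rfl⟩ h; exact absurd (h b hg.2) (Ne.symm hab))
  exact ((pairFix a b).equivMapOfInjective _ (mapG_injective _)).isCyclic.2 this

theorem free_of_pair {a b : P2 (Kc F)} (hab : a ≠ b) (ha : ¬ IsRat a) (hb : ¬ IsRat b) {g : G2 F}
    (hg : g ∈ pairFix a b) (h1 : g ≠ 1) (x : P2 F) : g • x ≠ x := by
  intro hx
  exact h1 ((map_eq_one_iff _ (mapG_injective _)).1 (eq_one_of_three hab (fun e => ha ⟨x, e.symm⟩)
    (fun e => hb ⟨x, e.symm⟩) hg.1 hg.2 ((fix_map_iff g x).2 hx)))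

variable [Finite F]

theorem card_pairFix_rat {a b : P2 (Kc F)} (hab : a ≠ b) (ha : IsRat a) (hb : IsRat b) :
    Nat.card (pairFix a b) = Nat.card F - 1 := by
  obtain ⟨x, rfl⟩ := ha
  obtain ⟨y, rfl⟩ := hb
  obtain ⟨σ, s1, s2⟩ := exists_move_two (fun e => hab (congrArg _ e) : x ≠ y)
  rw [← Nat.card_units, eq_comm]
  have t1 : σ⁻¹ • (ip : P2 F) = x := by rw [← s1, inv_smul_smul]
  have t2 : σ⁻¹ • fp (0 : F) = y := by rw [← s2, inv_smul_smul]
  refine Nat.card_eq_of_bijective (fun u : Fˣ => (⟨σ⁻¹ * di u * σ, ?_⟩ : pairFix _ _)) ⟨fun u v e => ?_, fun g => ?_⟩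
  · rw [mem_pairFix, fix_map_iff, fix_map_iff]
    exact ⟨by rw [mul_smul, mul_smul, s1, di_ip, t1], by rw [mul_smul, mul_smul, s2, di_fp, mul_zero, t2]⟩
  · exact di_injective (mul_left_cancel (mul_right_cancel (congrArg Subtype.val e)))
  · obtain ⟨h1, h2⟩ := mem_pairFix.1 g.2
    rw [fix_map_iff] at h1 h2
    obtain ⟨u, hu⟩ := eq_di_of_fix_two (g := σ * (g : G2 F) * σ⁻¹) (by rw [conj_smul_eq s1, h1, s1])
      (by rw [conj_smul_eq s2, h2, s2])
    exact ⟨u, Subtype.ext (by show σ⁻¹ * di u * σ = _; rw [← hu]; group)⟩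

theorem not_isUnit_lin {A : GL (Fin 2) F} (hfree : ∀ x : P2 F, ProjGenLinGroup.mk A • x ≠ x) {v : Fin 2 → F}
    (hv : v ≠ 0) : (v 0 • (1 : Matrix (Fin 2) (Fin 2) F) + v 1 • A.1).det ≠ 0 := by
  intro h
  obtain ⟨w, hw0, hw⟩ := Matrix.exists_mulVec_eq_zero_iff.2 h
  by_cases h1 : v 1 = 0
  · have h0 : v 0 ≠ 0 := fun h0 => hv (funext fun i => by fin_cases i <;> assumption)
    rw [h1, zero_smul, add_zero, Matrix.smul_mulVec, Matrix.one_mulVec, smul_eq_zero] at hw
    exact hw0 (hw.resolve_left h0)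
  · refine hfree (Projectivization.mk F w hw0) ?_
    rw [mk_smul, Projectivization.mk_eq_mk_iff']
    refine ⟨-(v 0 / v 1), ?_⟩
    rw [Matrix.add_mulVec, Matrix.smul_mulVec, Matrix.smul_mulVec, Matrix.one_mulVec] at hw
    funext i
    have := congrFun hw i
    simp only [Pi.add_apply, Pi.smul_apply, smul_eq_mul, Pi.zero_apply] at this ⊢
    field_simp
    linear_combination -this

theorem low_entry_ne_zero {A : GL (Fin 2) F} (hfree : ∀ x : P2 F, ProjGenLinGroup.mk A • x ≠ x) : A.1 1 0 ≠ 0 := by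
  intro h
  refine hfree ip ?_
  rw [ip, mk_smul, mk_eq_ip]
  · rfl
  · simp [Matrix.mulVec, dotProduct, Fin.sum_univ_two, h]

theorem lin_mem_pairFix {a b : P2 (Kc F)} {A : GL (Fin 2) F} (hA : ProjGenLinGroup.mk A ∈ pairFix a b) {v : Fin 2 → F}
    (hd : (v 0 • (1 : Matrix (Fin 2) (Fin 2) F) + v 1 • A.1).det ≠ 0) :
    ProjGenLinGroup.mk (GeneralLinearGroup.mkOfDetNeZero _ hd) ∈ pairFix a b := by
  have key : ∀ x : P2 (Kc F), mapG (iF F) (ProjGenLinGroup.mk A) • x = x →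
      mapG (iF F) (ProjGenLinGroup.mk (GeneralLinearGroup.mkOfDetNeZero _ hd)) • x = x := by
    intro x hx
    induction x using Projectivization.ind with
    | _ w hw =>
      rw [mapG, ProjGenLinGroup.map_mk, mk_smul, Projectivization.mk_eq_mk_iff'] at hx ⊢
      obtain ⟨μ, hμ⟩ := hx
      refine ⟨iF F (v 0) + iF F (v 1) * μ, ?_⟩
      funext i
      have := congrFun hμ i
      fin_cases i <;>
        simp [Matrix.mulVec, dotProduct, Fin.sum_univ_two, Matrix.add_apply, Matrix.smul_apply, Matrix.one_apply,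
          GeneralLinearGroup.mkOfDetNeZero] at this ⊢ <;>
        linear_combination (iF F (v 1)) * this
  exact mem_pairFix.2 ⟨key a hA.1, key b hA.2⟩

theorem card_pairFix_ell {a b : P2 (Kc F)} (hab : a ≠ b) (ha : ¬ IsRat a) (hb : ¬ IsRat b) {g : G2 F}
    (hg : g ∈ pairFix a b) (h1 : g ≠ 1) : Nat.card (pairFix a b) = Nat.card F + 1 := by
  haveI := finite_G2 (F := F)
  refine le_antisymm ?_ ?_
  · obtain ⟨⟨c, hc⟩⟩ := isCyclic_pairFix hab
    have hgen : Nat.card (pairFix a b) = orderOf (c : G2 F) := by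
      rw [Subgroup.orderOf_coe, orderOf_eq_card_of_forall_mem_zpowers hc]
    rw [hgen]
    refine Nat.le_of_dvd (Nat.succ_pos _) (orderOf_dvd_of_free (free_of_pair hab ha hb c.2 fun e => ?_))
    apply h1
    obtain ⟨k, hk⟩ := hc ⟨g, hg⟩
    have := congrArg (fun z : pairFix a b => (z : G2 F)) hk
    simp [e] at this
    exact this.symm
  · cases g using Matrix.ProjGenLinGroup.induction_on with
    | mk A =>
      have hfree := free_of_pair hab ha hb hg h1
      rw [← card_P2]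
      refine Nat.card_le_card_of_injective (fun x : P2 F =>
        (⟨_, lin_mem_pairFix hg (not_isUnit_lin hfree x.rep_nonzero)⟩ : pairFix a b)) fun x y e => ?_
      obtain ⟨k, hk⟩ := ProjGenLinGroup.mk_eq_mk_iff.1 (congrArg Subtype.val e)
      have h10 := congrArg (fun M : GL (Fin 2) F => M.1 1 0) hk
      have h00 := congrArg (fun M : GL (Fin 2) F => M.1 0 0) hk
      simp [GeneralLinearGroup.mkOfDetNeZero, Matrix.one_apply] at h10 h00
      have hc := low_entry_ne_zero hfree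
      have e1 : x.rep 1 * (k : F) = y.rep 1 := mul_right_cancel₀ hc (by linear_combination h10)
      have e0 : x.rep 0 * (k : F) = y.rep 0 := by linear_combination h00 - A.1 0 0 * e1
      rw [← Projectivization.mk_rep x, ← Projectivization.mk_rep y, Projectivization.mk_eq_mk_iff']
      refine ⟨(k : F)⁻¹, funext fun i => ?_⟩
      fin_cases i
      · show (k : F)⁻¹ * y.rep 0 = x.rep 0
        rw [← e0, mul_comm (x.rep 0), inv_mul_cancel_left₀ k.ne_zero]
      · show (k : F)⁻¹ * y.rep 1 = x.rep 1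
        rw [← e1, mul_comm (x.rep 1), inv_mul_cancel_left₀ k.ne_zero]

end CfsgLib.Perm.Dickson
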